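import Cfsg.Agent.Lib.ThMult.Norm
import Cfsg.Agent.Lib.ThIndex.USetting
import Cfsg.Agent.Lib.ThIndex.H0Bound
import Mathlib.GroupTheory.QuotientGroup.Basic
import Mathlib.Tactic.Group

/-!
# Central extensions split over the part ³D₄(2)

Lifts of a, b, c, d, e, s with all the relators of ³D₄(2).
-/

set_option autoImplicit false
set_option maxRecDepth 100000

namespace CfsgLib.ThMult

open CfsgLib.OrbitEnum CfsgLib.ThIndex Subgroup

/-- The letters of six elements and their inverses. -/
def el6 {G : Type} [Group G] (a b c d e s : G) (g : ℕ) : G :=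
  [a, a⁻¹, b, b⁻¹, c, c⁻¹, d, d⁻¹, e, e⁻¹, s, s⁻¹].getD g 1

theorem el6_inv {G : Type} [Group G] (a b c d e s : G) :
    ∀ g < 12, el6 a b c d e s (g ^^^ 1) = (el6 a b c d e s g)⁻¹ := by
  intro g hg
  interval_cases g <;> simp [el6]

theorem map_el6 {G H : Type} [Group G] [Group H] (f : G →* H) (a b c d e s : G) :
    ∀ g, f (el6 a b c d e s g) = el6 (f a) (f b) (f c) (f d) (f e) (f s) g := by
  intro g
  by_cases hg : g < 12
  · interval_cases g <;> simp [el6]
  · rw [el6, el6, List.getD_eq_default _ _ (by simp only [List.length_cons, List.length_nil]; omega),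
      List.getD_eq_default _ _ (by simp only [List.length_cons, List.length_nil]; omega), map_one]

/-- The conjugating word. -/
def conjWord : List ℕ := [2, 4, 6, 4, 2, 8, 6, 4, 2, 0]

theorem fourth_conj : U.setting.same
    ([2, 4, 6, 8] ++ [2, 4, 6, 8] ++ [2, 4, 6, 8] ++ [2, 4, 6, 8])
    (invW conjWord ++ [0] ++ conjWord) = true := by decide +kernel

/-- The relators of ³D₄(2). -/
def baseRels : List (List ℕ) := U.upperRels ++ U.rels2

variable {E T : Type} [Group E] [Group T] {σ : E →* T} (hZ : σ.ker ≤ center E)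
include hZ

/-- The power of the Coxeter element. -/
theorem coxeter_eight {A B C D X : E} (s : E) (hA : A * A = 1) (hB : B * B = 1) (hC : C * C = 1)
    (hD : D * D = 1) (hX : X * X = 1) (hBD : B * D = D * B) (hBX : B * X = X * B)
    (hCX : C * X = X * C) (h8 : σ ((B * C * D * X) ^ 8) = 1)
    (hrest : ∀ i < 13, wEval (el6 A B C D X s) (U.upperRels.getD i []) = 1) :
    (B * C * D * X) ^ 8 = 1 := by
  set μ := (B * C * D * X) ^ 8 with hμ
  have μ2 : μ * μ = 1 := coxeter_sq hZ hB hC hD hX hBD hBX hCX h8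
  haveI : (zpowers μ).Normal := ⟨fun z hz g => by
    obtain ⟨i, rfl⟩ := hz
    rw [← ((cen hZ h8 g).zpow_left i).eq, mul_assoc, mul_inv_cancel, mul_one]
    exact ⟨i, rfl⟩⟩
  set f := QuotientGroup.mk' (zpowers μ) with hf
  have hlast : wEval (el6 A B C D X s) (U.upperRels.getD 13 []) = μ := by
    simp only [U.upperRels, List.getD_cons_succ, List.getD_cons_zero, wEval, el6, List.map_cons,
      List.map_nil, List.prod_cons, List.prod_nil, hμ, pow_succ, pow_zero, one_mul, mul_one, mul_assoc]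
  have gens : U.setting.Gens (fun g => f (el6 A B C D X s g)) := by
    refine ⟨fun g hg => ?_, fun w hw => ?_⟩
    · have hg' : g < 10 := hg
      show f (el6 A B C D X s (g ^^^ 1)) = (f (el6 A B C D X s g))⁻¹
      rw [el6_inv A B C D X s g (by omega), map_inv]
    · rw [← map_wEval]
      have hw' : w ∈ U.upperRels := hw
      obtain ⟨i, hi, rfl⟩ := List.getElem_of_mem hw'
      rw [← List.getD_eq_getElem _ [] hi]
      have hi' : i < 14 := hi
      by_cases h : i < 13
      · rw [hrest i h, map_one]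
      · rw [show i = 13 by omega, hlast]
        exact (QuotientGroup.eq_one_iff _).2 (mem_zpowers μ)
  have e := Setting.eq_of_same U.valid gens fourth_conj
  rw [← map_wEval, ← map_wEval] at e
  have hinv : ∀ g < 12, el6 A B C D X s (g ^^^ 1) = (el6 A B C D X s g)⁻¹ := el6_inv A B C D X s
  rw [wEval_append _ (invW conjWord ++ [0]), wEval_append _ (invW conjWord),
    wEval_invW _ hinv (w := conjWord) (by decide), wEval_cons _ 0, wEval_nil, mul_one,
    show wEval (el6 A B C D X s) ([2, 4, 6, 8] ++ [2, 4, 6, 8] ++ [2, 4, 6, 8] ++ [2, 4, 6, 8]) =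
      (B * C * D * X) ^ 4 from by
        simp only [wEval, el6, List.map_cons, List.map_nil, List.cons_append, List.nil_append,
          List.prod_cons, List.prod_nil, List.getD_cons_zero, List.getD_cons_succ,
          pow_succ, pow_zero, one_mul, mul_one, mul_assoc],
    show el6 A B C D X s 0 = A from rfl] at e
  generalize wEval (el6 A B C D X s) conjWord = G at e
  obtain ⟨i, hi⟩ := (QuotientGroup.eq (s := zpowers μ)).1 e.symm
  have ξ2 : μ ^ i * μ ^ i = 1 := by
    rw [← (Commute.refl μ).mul_zpow, μ2, one_zpow]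
  have e4 : (B * C * D * X) ^ 4 = G⁻¹ * A * G * μ ^ i := by
    simp only at hi
    rw [hi, mul_inv_cancel_left]
  have hσ : σ (μ ^ i) = 1 := by rw [map_zpow, h8, one_zpow]
  calc μ = (B * C * D * X) ^ 4 * (B * C * D * X) ^ 4 := by rw [hμ, ← pow_add]
    _ = G⁻¹ * A * G * (G⁻¹ * A * G) * (μ ^ i * μ ^ i) := by rw [e4, mul_mul_cen hZ hσ]
    _ = G⁻¹ * (A * A) * G := by rw [ξ2]; group
    _ = 1 := by rw [hA, mul_one, inv_mul_cancel]

set_option maxHeartbeats 1000000 in
/-- Lifts with the relators of ³D₄(2). -/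
theorem exists_base (hσ : Function.Surjective σ) {a b c d e s : T}
    (hrel : ∀ w ∈ baseRels, wEval (el6 a b c d e s) w = 1) :
    ∃ A B C D X S : E, σ A = a ∧ σ B = b ∧ σ C = c ∧ σ D = d ∧ σ X = e ∧ σ S = s ∧
      ∀ w ∈ baseRels, wEval (el6 A B C D X S) w = 1 := by
  simp only [baseRels, U.upperRels, U.rels2, List.cons_append, List.nil_append, List.forall_mem_cons,
    wEval, el6, List.map_cons, List.map_nil, List.prod_cons, List.prod_nil, List.getD_cons_zero,
    List.getD_cons_succ, mul_one] at hrel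
  obtain ⟨a2, b2, c2, d2, e2, ab3, ae, bc3, bd, be, acd, ce, de3, bcde, s7, sa, sb, sc, sd, se, -⟩ := hrel
  have comm : ∀ {x y : T}, x * x = 1 → y * y = 1 → x * (y * (x * y)) = 1 → Commute x y := by
    intro x y hx hy h
    calc x * y = x * y * (x * (y * (x * y)))⁻¹ := by rw [h, inv_one, mul_one]
      _ = y⁻¹ * x⁻¹ := by group
      _ = y * x := by rw [inv_eq_of_mul_eq_one_right hx, inv_eq_of_mul_eq_one_right hy]
  have scomm : ∀ {x : T}, s⁻¹ * (x⁻¹ * (s * x)) = 1 → Commute x s := by
    intro x h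
    calc x * s = x * s * (s⁻¹ * (x⁻¹ * (s * x))) := by rw [h, mul_one]
      _ = s * x := by group
  have cae : Commute a e := comm a2 e2 ae
  have cbd : Commute b d := comm b2 d2 bd
  have cbe : Commute b e := comm b2 e2 be
  have cce : Commute c e := comm c2 e2 ce
  have a_cd : a = (c * d) ^ 4 := by
    calc a = a * (d⁻¹ * (c⁻¹ * (d⁻¹ * (c⁻¹ * (d⁻¹ * (c⁻¹ * (d⁻¹ * c⁻¹))))))) * (c * d) ^ 4 := by
          simp only [pow_succ, pow_zero, one_mul]; group
      _ = (c * d) ^ 4 := by rw [acd, one_mul]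
  have cad : Commute a d := by
    have id' : d⁻¹ = d := inv_eq_of_mul_eq_one_right d2
    have ic : c⁻¹ = c := inv_eq_of_mul_eq_one_right c2
    have ia : a⁻¹ = a := inv_eq_of_mul_eq_one_right a2
    have h1 : d * (c * d) ^ 4 * d = (((c * d) ^ 4)⁻¹) := by
      simp only [pow_succ, pow_zero, one_mul, mul_inv_rev, id', ic]
      calc d * (c * d * (c * d) * (c * d) * (c * d)) * d
          = d * c * (d * c) * (d * c) * (d * c) * (d * d) := by group
        _ = _ := by rw [d2]; group
    have h2 : d * a * d = a := by rw [a_cd, h1, ← a_cd, ia]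
    calc a * d = d * a * d * d := by rw [h2]
      _ = d * a := by rw [mul_assoc (d * a), d2, mul_one]
  obtain ⟨S0, σS0⟩ := hσ s
  obtain ⟨X0, σX0⟩ := hσ e
  obtain ⟨D0, σD0⟩ := hσ d
  obtain ⟨C0, σC0⟩ := hσ c
  obtain ⟨B0, σB0⟩ := hσ b
  have hvse : vv s e 1 = e * vv s e 3 := by
    have h1 : e⁻¹ * vv s e 1 * (vv s e 3)⁻¹ = 1 := by
      rw [← se]; simp [vv, pow_succ, mul_assoc]
    calc vv s e 1 = e * (e⁻¹ * vv s e 1 * (vv s e 3)⁻¹) * vv s e 3 := by group
      _ = e * vv s e 3 := by rw [h1, mul_one]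
  have hs7 : s ^ 7 = 1 := by rw [← s7]; simp only [pow_succ, pow_zero, one_mul, mul_assoc]
  obtain ⟨X, σX, Xrel, X2⟩ := exists_octet hZ (S := S0) (by rw [map_pow, σS0, hs7])
    (by rw [σX0, e2]) (by rw [σS0, σX0]; exact hvse)
  rw [σX0] at σX
  obtain ⟨D, σD, D2, DX3⟩ := exists_braid hZ X2 (D0 := D0) (by rw [σD0, d2])
    (by rw [σX, σD0, ← de3]; simp only [pow_succ, pow_zero, one_mul, mul_assoc])
  rw [σD0] at σD
  obtain ⟨k, hk, SD, S7⟩ := exists_seven hZ D2 (S0 := S0) (by rw [σS0, hs7])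
    (by rw [σS0, σD, ← sd]; simp only [pow_succ, pow_zero, one_mul, mul_assoc])
  set S := S0 * k with hS
  have σS : σ S = s := by rw [hS, map_mul, hk, mul_one, σS0]
  have Srel : vv S X 1 = X * vv S X 3 := by
    rw [hS, vv_central (cen hZ hk), vv_central (cen hZ hk), Xrel]
  have cX : ∀ Y : E, Commute (σ Y) s → Commute (σ Y) e → com Y X = 1 := fun Y h1 h2 =>
    octet_com hZ Srel (by rw [σS]; exact h1) (by rw [σX]; exact h2)
  have cD : ∀ Y : E, Commute (σ Y) s → Commute (σ Y) e → Commute (σ Y) d → com Y D = 1 :=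
    fun Y h1 h2 h3 => com_braid hZ X2 D2 DX3 (by rw [σX]; exact h2) (by rw [σD]; exact h3) (cX Y h1 h2)
  obtain ⟨B, C, σB, σC, B2, C2, BC, A2, AB⟩ := exists_abc hZ D2 (B0 := B0) (C0 := C0)
    (by rw [σB0, b2]) (by rw [σC0, c2])
    (by rw [σC0, σD, σB0, ← a_cd, ← ab3]; simp only [pow_succ, pow_zero, one_mul, mul_assoc])
    (by rw [σB0, σC0, ← bc3]; simp only [pow_succ, pow_zero, one_mul, mul_assoc])
    (fun C hC => by
      have σA : σ ((C * D) ^ 4) = a := by rw [map_pow, map_mul, hC, σC0, σD, a_cd]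
      exact cD _ (by rw [σA]; exact scomm sa) (by rw [σA]; exact cae) (by rw [σA]; exact cad))
  rw [σB0] at σB
  rw [σC0] at σC
  have σA : σ ((C * D) ^ 4) = a := by rw [map_pow, map_mul, σC, σD, a_cd]
  have AX := mul_eq_of_com (cX ((C * D) ^ 4) (by rw [σA]; exact scomm sa) (by rw [σA]; exact cae))
  have BX := mul_eq_of_com (cX B (by rw [σB]; exact scomm sb) (by rw [σB]; exact cbe))
  have CX := mul_eq_of_com (cX C (by rw [σC]; exact scomm sc) (by rw [σC]; exact cce))
  have BD := mul_eq_of_com (cD B (by rw [σB]; exact scomm sb) (by rw [σB]; exact cbe) (by rw [σB]; exact cbd))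
  have SA := com_seven hZ S7 A2 (by rw [σS, σA]; exact (scomm sa).symm)
  have SB := com_seven hZ S7 B2 (by rw [σS, σB]; exact (scomm sb).symm)
  have SC := com_seven hZ S7 C2 (by rw [σS, σC]; exact (scomm sc).symm)
  have sq4 : ∀ {x y : E}, x * x = 1 → y * y = 1 → x * y = y * x → x * (y * (x * y)) = 1 := by
    intro x y hx hy h
    calc x * (y * (x * y)) = x * (y * x) * y := by group
      _ = x * x * (y * y) := by rw [← h]; group
      _ = 1 := by rw [hx, hy, one_mul]
  have u1 : X⁻¹ * (S⁻¹ * (X * (S * (S⁻¹ * (S⁻¹ * (S⁻¹ * (X⁻¹ * (S * (S * S))))))))) = 1 := by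
    calc X⁻¹ * (S⁻¹ * (X * (S * (S⁻¹ * (S⁻¹ * (S⁻¹ * (X⁻¹ * (S * (S * S)))))))))
        = X⁻¹ * vv S X 1 * (vv S X 3)⁻¹ := by
          simp [vv, pow_succ, mul_assoc]
      _ = 1 := by rw [Srel]; group
  set A := (C * D) ^ 4 with hA
  have hrest : ∀ i < 13, wEval (el6 A B C D X S) (U.upperRels.getD i []) = 1 := by
    intro i hi
    interval_cases i <;>
      simp only [U.upperRels, List.getD_cons_succ, List.getD_cons_zero, wEval, el6, List.map_cons,
        List.map_nil, List.prod_cons, List.prod_nil, mul_one]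
    · exact A2
    · exact B2
    · exact C2
    · exact D2
    · exact X2
    · rw [← AB]; simp only [pow_succ, pow_zero, one_mul, mul_assoc]
    · exact sq4 A2 X2 AX
    · rw [← BC]; simp only [pow_succ, pow_zero, one_mul, mul_assoc]
    · exact sq4 B2 D2 BD
    · exact sq4 B2 X2 BX
    · simp only [hA, pow_succ, pow_zero, one_mul]; group
    · exact sq4 C2 X2 CX
    · rw [← DX3]; simp only [pow_succ, pow_zero, one_mul, mul_assoc]
  have h8 : σ ((B * C * D * X) ^ 8) = 1 := by
    rw [map_pow, map_mul, map_mul, map_mul, σB, σC, σD, σX, ← bcde]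
    simp only [pow_succ, pow_zero, one_mul, mul_assoc]
  have C8 := coxeter_eight hZ S A2 B2 C2 D2 X2 BD BX CX h8 hrest
  refine ⟨A, B, C, D, X, S, σA, σB, σC, σD, σX, σS, ?_⟩
  intro w hw
  rcases List.mem_append.1 hw with hw | hw
  · obtain ⟨i, hi, rfl⟩ := List.getElem_of_mem hw
    rw [← List.getD_eq_getElem _ [] hi]
    have hi' : i < 14 := hi
    by_cases h : i < 13
    · exact hrest i h
    · rw [show i = 13 by omega]
      simp only [U.upperRels, List.getD_cons_succ, List.getD_cons_zero, wEval, el6, List.map_cons,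
        List.map_nil, List.prod_cons, List.prod_nil, mul_one]
      rw [← C8]; simp only [pow_succ, pow_zero, one_mul, mul_assoc]
  · simp only [U.rels2, List.mem_cons, List.not_mem_nil, or_false] at hw
    rcases hw with rfl | rfl | rfl | rfl | rfl | rfl <;>
      simp only [wEval, el6, List.map_cons, List.map_nil, List.prod_cons, List.prod_nil,
        List.getD_cons_zero, List.getD_cons_succ, mul_one]
    · rw [← S7]; simp only [pow_succ, pow_zero, one_mul, mul_assoc]
    · rw [← SA]; simp only [com, mul_assoc]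
    · rw [← SB]; simp only [com, mul_assoc]
    · rw [← SC]; simp only [com, mul_assoc]
    · rw [← SD]; simp only [pow_succ, pow_zero, one_mul, mul_assoc]
    · exact u1

end CfsgLib.ThMult
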