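import Cfsg.Agent.Lib.ThMult.DataG

/-!
# The check of a coset certificate
-/

set_option autoImplicit false
set_option maxRecDepth 100000

namespace CfsgLib.ThMult.G

theorem ok : lin.check tree steps combs = true := by decide +kernel

end CfsgLib.ThMult.G
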