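import Mathlib.GroupTheory.Subgroup.Center
import Mathlib.Tactic.Group

/-!
# Commutators with central values
-/

set_option autoImplicit false

namespace CfsgLib.ThMult

open Subgroup

variable {E T : Type} [Group E] [Group T] (σ : E →* T)

/-- The commutator. -/
def com (x y : E) : E := x⁻¹ * y⁻¹ * x * y

variable {σ}

theorem cen (hZ : σ.ker ≤ center E) {z : E} (h : σ z = 1) (v : E) : Commute z v :=
  (mem_center_iff.1 (hZ (MonoidHom.mem_ker.2 h)) v).symm

theorem com_cen {x y : E} (h : Commute (σ x) (σ y)) : σ (com x y) = 1 := by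
  rw [com, map_mul, map_mul, map_mul, map_inv, map_inv, mul_assoc, h.eq]
  group

theorem com_inv_swap (x y : E) : com y x = (com x y)⁻¹ := by simp only [com]; group

theorem com_self (x : E) : com x x = 1 := by simp [com]

theorem mul_eq_of_com {x y : E} (h : com x y = 1) : x * y = y * x := by
  calc x * y = y * x * com x y := by simp only [com]; group
    _ = y * x := by rw [h, mul_one]

theorem com_of_mul_eq {x y : E} (h : x * y = y * x) : com x y = 1 := by
  calc com x y = x⁻¹ * y⁻¹ * (x * y) := by simp only [com]; group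
    _ = 1 := by rw [h]; group

theorem com_mul_right (hZ : σ.ker ≤ center E) {x y z : E} (h : Commute (σ x) (σ y)) :
    com x (y * z) = com x z * com x y := by
  calc com x (y * z) = x⁻¹ * z⁻¹ * x * (com x y * z) := by simp only [com]; group
    _ = x⁻¹ * z⁻¹ * x * (z * com x y) := by rw [(cen hZ (com_cen h) z).eq]
    _ = com x z * com x y := by simp only [com]; group

theorem com_central_left (hZ : σ.ker ≤ center E) {k : E} (hk : σ k = 1) (x y : E) :
    com (x * k) y = com x y := by
  calc com (x * k) y = k⁻¹ * (x⁻¹ * y⁻¹ * x) * (k * y) := by simp only [com]; group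
    _ = k⁻¹ * (x⁻¹ * y⁻¹ * x) * (y * k) := by rw [(cen hZ hk y).eq]
    _ = k⁻¹ * com x y * k := by simp only [com]; group
    _ = com x y := by rw [mul_assoc, ← (cen hZ hk _).eq, inv_mul_cancel_left]

theorem com_conj (hZ : σ.ker ≤ center E) {x y : E} (h : Commute (σ x) (σ y)) (g : E) :
    com (g⁻¹ * x * g) (g⁻¹ * y * g) = com x y := by
  calc com (g⁻¹ * x * g) (g⁻¹ * y * g) = g⁻¹ * (com x y * g) := by simp only [com]; group
    _ = com x y := by rw [(cen hZ (com_cen h) g).eq, inv_mul_cancel_left]

/-- The commutator with an involution squares to one. -/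
theorem com_sq (hZ : σ.ker ≤ center E) {x y : E} (h : Commute (σ x) (σ y)) (hy : y * y = 1) :
    com x y * com x y = 1 := by
  rw [← com_mul_right hZ h, hy]
  simp [com]

/-- Conjugates of a central element. -/
theorem conj_cen (hZ : σ.ker ≤ center E) {z : E} (h : σ z = 1) (g : E) : g⁻¹ * z * g = z := by
  rw [mul_assoc, (cen hZ h g).eq, inv_mul_cancel_left]

/-- The product of two lifts of involutions, cubed. -/
theorem cube_sq (hZ : σ.ker ≤ center E) {x y : E} (hx : σ (x * x) = 1) (hy : σ (y * y) = 1)
    (hxy : σ ((x * y) ^ 3) = 1) : ((x * y) ^ 3) ^ 2 = (x * x) ^ 3 * (y * y) ^ 3 := by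
  have e1 : (y * x) ^ 3 = (x * y) ^ 3 := by
    calc (y * x) ^ 3 = x⁻¹ * (x * y) ^ 3 * x := by simp only [pow_succ, pow_zero, one_mul]; group
      _ = (x * y) ^ 3 := conj_cen hZ hxy x
  have e2 : x * y * (y * x) = (x * x) * (y * y) := by
    calc x * y * (y * x) = x * ((y * y) * x) := by group
      _ = x * (x * (y * y)) := by rw [(cen hZ hy x).eq]
      _ = _ := by group
  have c : Commute (x * y) (y * x) := by
    show x * y * (y * x) = y * x * (x * y)
    rw [e2]
    calc x * x * (y * y) = y * y * (x * x) := ((cen hZ hx _).eq)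
      _ = y * (y * (x * x)) := by group
      _ = y * ((x * x) * y) := by rw [(cen hZ hx y).eq]
      _ = y * x * (x * y) := by group
  calc ((x * y) ^ 3) ^ 2 = (x * y) ^ 3 * (y * x) ^ 3 := by rw [e1, pow_two]
    _ = (x * y * (y * x)) ^ 3 := (c.mul_pow 3).symm
    _ = (x * x) ^ 3 * (y * y) ^ 3 := by rw [e2, (cen hZ hx (y * y)).mul_pow]

/-- A scalar times a product. -/
theorem mul_pow_cen (hZ : σ.ker ≤ center E) {k : E} (hk : σ k = 1) (x : E) (n : ℕ) :
    (x * k) ^ n = x ^ n * k ^ n := ((cen hZ hk x).symm).mul_pow n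

theorem mul_mul_cen (hZ : σ.ker ≤ center E) {k l : E} (hk : σ k = 1) (x y : E) :
    x * k * (y * l) = x * y * (k * l) := by
  calc x * k * (y * l) = x * (k * y) * l := by group
    _ = x * (y * k) * l := by rw [(cen hZ hk y).eq]
    _ = _ := by group

end CfsgLib.ThMult
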