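import Cfsg.Agent.Lib.ThMult.Lin

/-!
# A coset certificate for the centraliser of a (generated)
-/

set_option autoImplicit false
set_option maxRecDepth 100000
set_option linter.style.longLine false

namespace CfsgLib.ThMult.C

/-- The table, a part. -/
def tblData0 : List (List ℕ) :=
  [[0, 0, 0, 0, 0, 0, 0, 0, 0, 0, 0, 0, 1, 1], [1, 1, 1, 1, 2, 2, 1, 1, 5, 7, 1, 1, 0, 0], [2, 2, 2,
    2, 1, 1, 21, 21, 33, 17, 2, 2, 3, 3], [3, 3, 3, 3, 4, 4, 4, 4, 49, 58, 3, 3, 2, 2], [4, 4, 4, 4,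
    3, 3, 3, 3, 100, 64, 4, 4, 21, 21], [5, 5, 5, 5, 17, 17, 5, 5, 6, 1, 6, 9, 7, 7], [6, 6, 6, 6, 11,
    11, 6, 6, 10, 5, 9, 5, 10, 10], [7, 7, 7, 7, 33, 33, 7, 7, 1, 8, 8, 10, 5, 5], [8, 8, 8, 8, 34,
    34, 8, 8, 7, 9, 10, 7, 9, 9], [9, 9, 9, 9, 13, 13, 9, 9, 8, 10, 5, 6, 8, 8], [10, 10, 10, 10, 12,
    12, 10, 10, 9, 6, 7, 8, 6, 6], [11, 11, 11, 11, 6, 6, 16, 16, 17, 12, 13, 17, 22, 22], [12, 12,
    12, 12, 10, 10, 47, 47, 11, 13, 33, 34, 69, 69], [13, 13, 13, 13, 9, 9, 27, 27, 12, 34, 17, 11,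
    14, 14], [14, 14, 14, 14, 18, 18, 28, 28, 15, 43, 22, 30, 13, 13], [15, 15, 15, 15, 113, 113, 117,
    117, 16, 14, 24, 52, 83, 83], [16, 16, 16, 16, 16, 16, 11, 11, 113, 15, 27, 32, 113, 113], [17,
    17, 17, 17, 5, 5, 32, 32, 2, 11, 11, 13, 30, 30], [18, 18, 18, 18, 14, 14, 36, 36, 19, 113, 23,
    31, 84, 84], [19, 19, 19, 19, 43, 43, 20, 20, 43, 18, 116, 29, 74, 74], [20, 20, 20, 20, 42, 42,
    19, 19, 118, 21, 118, 112, 79, 79], [21, 21, 21, 21, 21, 21, 2, 2, 20, 42, 21, 21, 4, 4], [22, 22,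
    22, 22, 23, 23, 113, 113, 23, 25, 30, 14, 11, 11], [23, 23, 23, 23, 22, 22, 71, 71, 24, 22, 31,
    18, 87, 87], [24, 24, 24, 24, 25, 25, 48, 48, 116, 23, 52, 15, 97, 97], [25, 25, 25, 25, 24, 24,
    30, 30, 22, 26, 28, 113, 32, 32], [26, 26, 26, 26, 116, 116, 39, 39, 25, 27, 53, 43, 50, 50]]

/-- The table, a part. -/
def tblData1 : List (List ℕ) :=
  [[27, 27, 27, 27, 27, 27, 13, 13, 26, 116, 32, 16, 28, 28], [28, 28, 28, 28, 52, 52, 14, 14, 29,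
    52, 113, 25, 27, 27], [29, 29, 29, 29, 53, 53, 112, 112, 30, 28, 19, 116, 49, 49], [30, 30, 30,
    30, 31, 31, 25, 25, 32, 29, 14, 22, 17, 17], [31, 31, 31, 31, 30, 30, 45, 45, 53, 32, 18, 23, 106,
    106], [32, 32, 32, 32, 32, 32, 17, 17, 31, 30, 16, 27, 25, 25], [33, 33, 33, 33, 7, 7, 35, 35, 34,
    2, 34, 12, 86, 86], [34, 34, 34, 34, 8, 8, 37, 37, 13, 33, 12, 33, 98, 98], [35, 35, 35, 35, 35,
    35, 33, 33, 104, 36, 37, 47, 103, 103], [36, 36, 36, 36, 104, 104, 18, 18, 35, 59, 71, 45, 77,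
    77], [37, 37, 37, 37, 37, 37, 34, 34, 110, 38, 47, 35, 99, 99], [38, 38, 38, 38, 110, 110, 53, 53,
    37, 71, 63, 39, 102, 102], [39, 39, 39, 39, 40, 40, 26, 26, 40, 60, 38, 63, 100, 100], [40, 40,
    40, 40, 39, 39, 41, 41, 59, 39, 110, 44, 42, 42], [41, 41, 41, 41, 118, 118, 40, 40, 42, 112, 109,
    42, 44, 44], [42, 42, 42, 42, 20, 20, 44, 44, 21, 41, 41, 109, 40, 40], [43, 43, 43, 43, 19, 19,
    63, 63, 14, 19, 26, 53, 111, 111], [44, 44, 44, 44, 63, 63, 42, 42, 45, 46, 40, 110, 41, 41], [45,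
    45, 45, 45, 48, 48, 31, 31, 48, 44, 36, 71, 94, 94], [46, 46, 46, 46, 114, 114, 62, 62, 44, 47,
    60, 61, 59, 59], [47, 47, 47, 47, 47, 47, 12, 12, 46, 114, 35, 37, 68, 68], [48, 48, 48, 48, 45,
    45, 24, 24, 63, 45, 104, 117, 115, 115], [49, 49, 49, 49, 64, 64, 92, 92, 72, 3, 72, 74, 29, 29],
    [50, 50, 50, 50, 66, 66, 100, 100, 51, 106, 111, 54, 26, 26], [51, 51, 51, 51, 99, 99, 67, 67, 93,
    50, 97, 83, 52, 52], [52, 52, 52, 52, 28, 28, 104, 104, 28, 53, 15, 24, 51, 51], [53, 53, 53, 53,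
    29, 29, 38, 38, 52, 31, 43, 26, 54, 54]]

/-- The table, a part. -/
def tblData2 : List (List ℕ) :=
  [[54, 54, 54, 54, 78, 78, 102, 102, 55, 96, 50, 111, 53, 53], [55, 55, 55, 55, 79, 79, 89, 89, 85,
    54, 93, 88, 56, 56], [56, 56, 56, 56, 105, 105, 88, 88, 106, 57, 89, 96, 55, 55], [57, 57, 57, 57,
    91, 91, 75, 75, 56, 86, 95, 85, 58, 58], [58, 58, 58, 58, 100, 100, 85, 85, 3, 75, 75, 73, 57,
    57], [59, 59, 59, 59, 60, 60, 61, 61, 36, 40, 62, 114, 46, 46], [60, 60, 60, 60, 59, 59, 114, 114,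
    39, 104, 61, 46, 114, 114], [61, 61, 61, 61, 62, 62, 59, 59, 71, 62, 46, 60, 62, 62], [62, 62, 62,
    62, 61, 61, 46, 46, 61, 117, 114, 59, 61, 61], [63, 63, 63, 63, 44, 44, 43, 43, 114, 48, 39, 38,
    101, 101], [64, 64, 64, 64, 49, 49, 76, 76, 4, 80, 80, 65, 78, 78], [65, 65, 65, 65, 74, 74, 107,
    107, 102, 101, 64, 80, 66, 66], [66, 66, 66, 66, 50, 50, 108, 108, 115, 99, 81, 78, 65, 65], [67,
    67, 67, 67, 84, 84, 51, 51, 108, 68, 115, 82, 104, 104], [68, 68, 68, 68, 83, 83, 69, 69, 67, 77,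
    99, 103, 47, 47], [69, 69, 69, 69, 70, 70, 68, 68, 111, 87, 98, 86, 12, 12], [70, 70, 70, 70, 69,
    69, 87, 87, 82, 81, 77, 94, 71, 71], [71, 71, 71, 71, 117, 117, 23, 23, 38, 61, 45, 36, 70, 70],
    [72, 72, 72, 72, 80, 80, 119, 119, 73, 49, 74, 49, 116, 116], [73, 73, 73, 73, 102, 102, 95, 95,
    74, 72, 58, 75, 95, 95], [74, 74, 74, 74, 65, 65, 79, 79, 75, 73, 49, 72, 19, 19], [75, 75, 75,
    75, 101, 101, 57, 57, 58, 74, 73, 58, 85, 85], [76, 76, 76, 76, 96, 96, 64, 64, 77, 78, 105, 107,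
    90, 90], [77, 77, 77, 77, 98, 98, 84, 84, 68, 76, 94, 70, 36, 36], [78, 78, 78, 78, 54, 54, 90,
    90, 76, 79, 66, 81, 64, 64], [79, 79, 79, 79, 55, 55, 74, 74, 78, 108, 92, 119, 20, 20], [80, 80,
    80, 80, 72, 72, 105, 105, 64, 102, 65, 64, 81, 81]]

/-- The table, a part. -/
def tblData3 : List (List ℕ) :=
  [[81, 81, 81, 81, 111, 111, 91, 91, 70, 90, 78, 66, 80, 80], [82, 82, 82, 82, 87, 87, 83, 83, 119,
    70, 67, 115, 117, 117], [83, 83, 83, 83, 68, 68, 82, 82, 98, 84, 51, 97, 15, 15], [84, 84, 84, 84,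
    67, 67, 77, 77, 83, 85, 106, 87, 18, 18], [85, 85, 85, 85, 108, 108, 58, 58, 84, 55, 57, 95, 75,
    75], [86, 86, 86, 86, 94, 94, 103, 103, 57, 93, 69, 98, 33, 33], [87, 87, 87, 87, 82, 82, 70, 70,
    69, 88, 84, 106, 23, 23], [88, 88, 88, 88, 119, 119, 56, 56, 87, 89, 55, 93, 89, 89], [89, 89, 89,
    89, 107, 107, 55, 55, 88, 97, 96, 56, 88, 88], [90, 90, 90, 90, 95, 95, 78, 78, 81, 103, 108, 91,
    76, 76], [91, 91, 91, 91, 57, 57, 81, 81, 94, 105, 90, 108, 105, 105], [92, 92, 92, 92, 93, 93,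
    49, 49, 99, 94, 119, 79, 112, 112], [93, 93, 93, 93, 92, 92, 96, 96, 86, 51, 88, 55, 96, 96], [94,
    94, 94, 94, 86, 86, 106, 106, 92, 91, 70, 77, 45, 45], [95, 95, 95, 95, 90, 90, 73, 73, 97, 111,
    85, 57, 73, 73], [96, 96, 96, 96, 76, 76, 93, 93, 54, 98, 56, 89, 93, 93], [97, 97, 97, 97, 103,
    103, 115, 115, 89, 95, 83, 51, 24, 24], [98, 98, 98, 98, 77, 77, 99, 99, 96, 83, 86, 69, 34, 34],
    [99, 99, 99, 99, 51, 51, 98, 98, 66, 92, 103, 68, 37, 37], [100, 100, 100, 100, 58, 58, 50, 50,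
    101, 4, 101, 102, 39, 39], [101, 101, 101, 101, 75, 75, 111, 111, 65, 100, 102, 100, 63, 63],
    [102, 102, 102, 102, 73, 73, 54, 54, 80, 65, 100, 101, 38, 38], [103, 103, 103, 103, 97, 97, 86,
    86, 90, 107, 68, 99, 35, 35], [104, 104, 104, 104, 36, 36, 52, 52, 60, 35, 117, 48, 67, 67], [105,
    105, 105, 105, 56, 56, 80, 80, 91, 115, 107, 76, 91, 91], [106, 106, 106, 106, 115, 115, 94, 94,
    50, 56, 87, 84, 31, 31], [107, 107, 107, 107, 89, 89, 65, 65, 103, 119, 76, 105, 108, 108]]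

/-- The table, a part. -/
def tblData4 : List (List ℕ) :=
  [[108, 108, 108, 108, 85, 85, 66, 66, 79, 67, 91, 90, 107, 107], [109, 109, 109, 109, 112, 112,
    110, 110, 112, 118, 42, 41, 110, 110], [110, 110, 110, 110, 38, 38, 109, 109, 117, 37, 44, 40,
    109, 109], [111, 111, 111, 111, 81, 81, 101, 101, 95, 69, 54, 50, 43, 43], [112, 112, 112, 112,
    109, 109, 29, 29, 41, 109, 20, 118, 92, 92], [113, 113, 113, 113, 15, 15, 22, 22, 18, 16, 25, 28,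
    16, 16], [114, 114, 114, 114, 46, 46, 60, 60, 47, 63, 59, 62, 60, 60], [115, 115, 115, 115, 106,
    106, 97, 97, 105, 66, 82, 67, 48, 48], [116, 116, 116, 116, 26, 26, 118, 118, 27, 24, 29, 19, 72,
    72], [117, 117, 117, 117, 71, 71, 15, 15, 62, 110, 48, 104, 82, 82], [118, 118, 118, 118, 41, 41,
    116, 116, 109, 20, 112, 20, 119, 119], [119, 119, 119, 119, 88, 88, 72, 72, 107, 82, 79, 92, 118,
    118]]

/-- The table. -/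
def tblData : List (List (List ℕ)) :=
  [tblData0, tblData1, tblData2, tblData3, tblData4]

/-- The values, a part. -/
def formData0 : List (List (List ℤ)) :=
  [[[0, (-1), (-6), 0, (-4), 0, 0, (-2)], [0, 1, 6, 0, 4, 0, 0, 2], [], [], [], [], [], [], [], [],
    [], [], [], [13, (-382), 81, (-72), 251, (-14), (-6), (-107), 42]], [[0, 0, (-6), 0, (-4), 0, 0,
    (-2)], [0, 0, 6, 0, 4, 0, 0, 2], [0, 0, 1], [0, 0, (-1)], [], [], [0, 0, 0, 0, (-1)], [0, 0, 0, 0,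
    1], [], [], [], [], [(-13), 382, (-81), 72, (-251), 14, 6, 107, (-42)], []], [[], [], [0, 0, 0, 0,
    0, 0, 0, 1], [0, 0, 0, 0, 0, 0, 0, (-1)], [], [], [], [], [], [], [], [], [], [(-1), 0, 0, 0, 0,
    0, 0, (-1)]], [[0, 1], [0, (-1)], [0, 0, 2, 0, 0, 0, 0, 1], [0, 0, (-2), 0, 0, 0, 0, (-1)],
    [(-14), 368, (-16), 67, (-212), 11, 6, 99, (-43)], [(-9), 397, 10, 69, (-212), 13, 6, 119, (-47)],
    [], [], [], [], [], [], [1, 0, 0, 0, 0, 0, 0, 1], []], [[0, (-1)], [0, 1], [0, 0, (-2), 0, 0, 0,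
    0, (-1)], [0, 0, 2, 0, 0, 0, 0, 1], [9, (-397), (-10), (-69), 212, (-13), (-6), (-119), 47], [14,
    (-368), 16, (-67), 212, (-11), (-6), (-99), 43], [], [], [], [], [], [], [1, 0, (-3), 0, 0, 0, 0,
    (-1)], []], [[0, 0, (-6), 0, (-4), 0, 0, (-2)], [0, 0, 6, 0, 4, 0, 0, 2], [0, 0, 1], [0, 0, (-1)],
    [], [], [0, 0, 0, 0, (-1)], [0, 0, 0, 0, 1], [], [], [], [], [14, (-382), 76, (-72), 247, (-14),
    (-6), (-109), 42], [0, (-147), 25, (-18), 71, (-4), 0, (-82), 8]], [[0, 0, (-6), 0, (-4), 0, 0,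
    (-2)], [0, 0, 6, 0, 4, 0, 0, 2], [0, 0, 1], [0, 0, (-1)], [], [], [0, 0, 0, 0, (-1)], [0, 0, 0, 0,
    1], [], [], [], [], [(-35), (-2), 1379, 21, 1049, 13, 9, 342, (-17)], [(-36), (-2), 1384, 21,
    1053, 13, 9, 344, (-17)]], [[0, 0, (-6), 0, (-4), 0, 0, (-2)], [0, 0, 6, 0, 4, 0, 0, 2], [0, 0,
    1], [0, 0, (-1)], [], [], [], [], [], [], [], [], [0, 147, (-25), 18, (-71), 4, 0, 82, (-8)],
    [(-14), 382, (-76), 72, (-247), 14, 6, 109, (-42)]], [[0, 0, (-6), 0, (-4), 0, 0, (-2)], [0, 0, 6,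
    0, 4, 0, 0, 2], [0, 0, 1], [0, 0, (-1)], [], [], [], [], [], [], [], [], [36, 2, (-1384), (-21),
    (-1053), (-13), (-9), (-344), 17], [(-3), 8, 14, (-2), (-14), 1, 0, 23, 4]], [[0, 0, (-6), 0,
    (-4), 0, 0, (-2)], [0, 0, 6, 0, 4, 0, 0, 2], [0, 0, 1], [0, 0, (-1)], [], [], [0, 0, 0, 0, (-1)],
    [0, 0, 0, 0, 1], [], [], [], [], [3, (-8), (-14), 2, 14, (-1), 0, (-23), (-4)], [(-36), (-2),
    1384, 21, 1053, 13, 9, 344, (-17)]], [[0, 0, (-6), 0, (-4), 0, 0, (-2)], [0, 0, 6, 0, 4, 0, 0, 2],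
    [0, 0, 1], [0, 0, (-1)], [], [], [], [], [], [], [], [], [36, 2, (-1384), (-21), (-1053), (-13),
    (-9), (-344), 17], [35, 2, (-1379), (-21), (-1049), (-13), (-9), (-342), 17]], [[0, (-2), 12, 0,
    8, 0, 0, 4], [0, 2, (-12), 0, (-8), 0, 0, (-4)], [0, 0, (-4), 0, (-2), 0, 0, (-1)], [0, 0, 4, 0,
    2, 0, 0, 1], [], [], [], [], [], [], [], [], [], [(-1), 2, (-8), 0, (-6), 0, 0, (-3)]], [[0, (-2),
    12, 0, 8, 0, 0, 4], [0, 2, (-12), 0, (-8), 0, 0, (-4)], [0, 0, (-4), 0, (-2), 0, 0, (-1)], [0, 0,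
    4, 0, 2, 0, 0, 1], [], [], [], [], [], [], [], [], [], [(-1), 2, (-8), 0, (-6), 0, 0, (-3)]], [[0,
    0, (-6), 0, (-4), 0, 0, (-2)], [0, 0, 6, 0, 4, 0, 0, 2], [0, 0, (-4), 0, (-2), 0, 0, (-1)], [0, 0,
    4, 0, 2, 0, 0, 1], [], [], [], [], [], [], [], [], [], [(-1), (-1), 9, 0, 6, 0, 0, 3]], [[0, (-1),
    12, 0, 8, 0, 0, 4], [0, 1, (-12), 0, (-8), 0, 0, (-4)], [0, 0, (-3), 0, (-2), 0, 0, (-1)], [0, 0,
    3, 0, 2, 0, 0, 1], [0, (-1), (-6), 0, (-4), 0, 0, (-2), 1], [0, (-1), (-5), 0, (-4), 0, 0, (-1),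
    1], [], [], [0, (-1), (-5), 0, (-5), 0, 0, (-1), 1], [0, (-1), (-5), 0, (-6), 0, 0, (-1), 1], [],
    [], [1, 1, (-9), 0, (-6), 0, 0, (-3)], []], [[0, 0, 16, 0, 12, 0, 0, 6], [0, 0, (-16), 0, (-12),
    0, 0, (-6)], [0, 0, 4, 0, 2, 0, 0, 1], [0, 0, (-4), 0, (-2), 0, 0, (-1)], [0, 0, 0, 0, 1], [0, 0,
    0, 0, 1], [], [], [], [0, 1, 5, 0, 5, 0, 0, 1, (-1)], [65, 2774, 1146, 375, (-549), 116, 22, 1183,
    (-367)], [], [0, 3, 17, 0, 13, 0, 0, 5, (-1)], [(-1), 2, 14, 0, 13, 0, 0, 2, (-1)]], [[0, 0, 16,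
    0, 8, 0, 0, 4], [0, 0, (-16), 0, (-8), 0, 0, (-4)], [0, 0, 4, 0, 2, 0, 0, 1], [0, 0, (-4), 0,
    (-2), 0, 0, (-1)], [0, 0, 0, 0, 1], [0, 0, 0, 0, (-1)], [], [], [], [], [], [], [0, (-1), (-6), 0,
    (-3), 0, 0, (-2), 1], [(-1), (-1), (-26), 0, (-13), 0, 0, (-7), 1]], [[0, 0, (-6), 0, (-4), 0, 0,
    (-2)], [0, 0, 6, 0, 4, 0, 0, 2], [0, 0, (-4), 0, (-2), 0, 0, (-1)], [0, 0, 4, 0, 2, 0, 0, 1], [],
    [], [], [], [], [], [], [], [], [(-1), (-1), 9, 0, 6, 0, 0, 3]], [[(-32), (-1320), (-354), (-175),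
    370, (-52), (-9), (-497), 173], [32, 1320, 354, 175, (-370), 52, 9, 497, (-173)], [0, 0, 4, 0, 2,
    0, 0, 1], [0, 0, (-4), 0, (-2), 0, 0, (-1)], [0, 1, 5, 0, 4, 0, 0, 1, (-1)], [0, 1, 6, 0, 4, 0, 0,
    2, (-1)], [], [], [], [], [], [], [(-6), 62, (-1), 10, (-8), 1, 1, 46], [(-24), 342, 628, 50, 325,
    23, 4, 379, (-23)]], [[], [], [0, 0, 4, 0, 0, 0, 0, 1], [0, 0, (-4), 0, 0, 0, 0, (-1)], [], [],
    [], [], [0, 0, 0, 0, (-1)], [], [], [0, (-5), 2, (-1), (-9), 1, 0, 9, 2], [1, (-9), 4, (-1), 3, 4,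
    0, 16, 4], [0, (-10), 2, (-1), 3, 4, 0, 15, 4]], [[], [], [0, 0, (-4), 0, 0, 0, 0, (-1)], [0, 0,
    4, 0, 0, 0, 0, 1], [0, 0, 0, 0, (-1)], [0, 0, 0, 0, 1], [], [], [], [], [], [], [], [(-1), (-1),
    3, 0, 0, 0, 0, 1]], [[], [], [0, 0, (-3), 0, 0, 0, 0, (-1)], [0, 0, 3, 0, 0, 0, 0, 1], [0, 0, 0,
    0, 1], [0, 0, 0, 0, (-1)], [], [], [], [], [], [], [], [(-1), 0, 3, 0, 0, 0, 0, 1]], [[0, (-1),
    12, 0, 8, 0, 0, 4], [0, 1, (-12), 0, (-8), 0, 0, (-4)], [0, 0, (-3), 0, (-2), 0, 0, (-1)], [0, 0,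
    3, 0, 2, 0, 0, 1], [(-49), (-1489), 67, (-198), 730, (-57), (-7), (-484), 181], [0, (-1), (-6), 0,
    (-6), 0, 0, (-1), 1], [0, (-1), (-6), 0, (-5), 0, 0, (-1), 1], [0, (-1), (-5), 0, (-5), 0, 0,
    (-1), 1], [(-17), (-23), 912, 2, 571, 7, 6, 218, (-13)], [0, (-11), (-61), 0, (-37), (-2), 0,
    (-18), 3], [], [], [1, (-2), 8, 0, 6, 0, 0, 3], []], [[(-32), (-1320), (-354), (-175), 370, (-52),
    (-9), (-497), 173], [32, 1320, 354, 175, (-370), 52, 9, 497, (-173)], [0, 0, 4, 0, 2, 0, 0, 1],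
    [0, 0, (-4), 0, (-2), 0, 0, (-1)], [0, 1, 6, 0, 6, 0, 0, 1, (-1)], [49, 1489, (-67), 198, (-730),
    57, 7, 484, (-181)], [], [], [(-150), (-902), (-282), (-97), 414, (-40), 2, (-397), 170], [17, 23,
    (-912), (-2), (-571), (-7), (-6), (-218), 13], [], [], [(-151), (-899), (-276), (-96), 421, (-41),
    2, (-401), 169], [(-152), (-899), (-274), (-96), 421, (-41), 2, (-400), 169]], [[], [], [0, 0, 4,
    0, 4, 0, 0, 1], [0, 0, (-4), 0, (-4), 0, 0, (-1)], [], [], [0, (-1), (-6), 0, (-6), 0, 0, (-1),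
    1], [0, (-1), (-6), 0, (-6), 0, 0, (-1), 1], [0, (-1), (-6), 0, (-6), 0, 0, (-1), 1], [150, 902,
    282, 97, (-414), 40, (-2), 397, (-170)], [0, (-1), (-6), 0, (-6), 0, 0, (-1), 1], [(-65), (-2774),
    (-1146), (-375), 549, (-116), (-22), (-1183), 367], [1, (-147), 45, (-17), 81, (-4), 0, (-77), 8],
    [(-2), (-28), 70, (-1), 71, 2, 0, 14, 4]], [[0, 1, (-12), 0, (-8), 0, 0, (-4)], [0, (-1), 12, 0,
    8, 0, 0, 4], [0, 0, 3, 0, 2, 0, 0, 1], [0, 0, (-3), 0, (-2), 0, 0, (-1)], [], [], [], [], [0, 11,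
    61, 0, 37, 2, 0, 18, (-3)], [0, (-1), (-5), 0, (-5), 0, 0, (-1), 1], [], [0, (-1), (-5), 0, (-5),
    0, 0, (-1), 1], [1, 0, 20, 0, 10, 0, 0, 5], []], [[], [], [0, 0, 4, 0, 2, 0, 0, 1], [0, 0, (-4),
    0, (-2), 0, 0, (-1)], [0, 0, 0, 0, (-1)], [0, 0, 0, 0, (-1)], [6, (-10), 37, (-2), 25, 2, 0, 3,
    (-3)], [0, 8, 55, 0, 28, 2, 0, 15, (-3)], [0, 1, 5, 0, 5, 0, 0, 1, (-1)], [], [], [0, 0, 0, 0,
    (-1)], [2, (-2), (-16), (-1), (-13), 1, 0, 1, 1], [5, (-7), 24, (-2), 16, 2, 0, 2, (-2)]]]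

/-- The values, a part. -/
def formData1 : List (List (List ℤ)) :=
  [[[0, 0, 16, 0, 8, 0, 0, 4], [0, 0, (-16), 0, (-8), 0, 0, (-4)], [0, 0, 4, 0, 2, 0, 0, 1], [0, 0,
    (-4), 0, (-2), 0, 0, (-1)], [0, 0, 0, 0, 1], [0, 0, 0, 0, (-1)], [], [], [], [], [], [], [],
    [(-1), (-1), 9, 0, 6, 0, 0, 3]], [[0, 1, (-12), 0, (-8), 0, 0, (-4)], [0, (-1), 12, 0, 8, 0, 0,
    4], [0, 0, 3, 0, 2, 0, 0, 1], [0, 0, (-3), 0, (-2), 0, 0, (-1)], [0, (-1), (-5), 0, (-4), 0, 0,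
    (-1), 1], [0, (-1), (-6), 0, (-4), 0, 0, (-2), 1], [], [], [0, (-6), (-4), (-1), (-12), 1, 0, 7,
    3], [0, (-1), (-5), 0, (-5), 0, 0, (-1), 1], [0, (-1), (-6), 0, (-3), 0, 0, (-2), 1], [], [1, 1,
    (-9), 0, (-6), 0, 0, (-3)], []], [[0, 1, 1], [0, (-1), (-1)], [0, 0, 1, 0, 0, 0, 0, 1], [0, 0,
    (-1), 0, 0, 0, 0, (-1)], [(-31), (-1435), (-909), (-197), 84, (-66), (-13), (-714), 194], [(-47),
    (-1469), (-13), (-199), 650, (-58), (-7), (-497), 183], [0, 5, (-2), 1, 9, (-1), 0, (-9), (-2)],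
    [(-7), 25, 4, 5, 3, (-1), 0, 2, (-1)], [], [0, 6, 4, 1, 12, (-1), 0, (-7), (-3)], [0, 5, (-2), 1,
    9, (-1), 0, (-9), (-2)], [0, 5, (-2), 1, 9, (-1), 0, (-9), (-2)], [1, 1, (-9), 0, (-6), 0, 0,
    (-3)], [0, 0, (-11), 0, (-6), 0, 0, (-4)]], [[0, 1, (-6), 0, (-4), 0, 0, (-2)], [0, (-1), 6, 0, 4,
    0, 0, 2], [0, 0, (-3), 0, (-2), 0, 0, (-1)], [0, 0, 3, 0, 2, 0, 0, 1], [(-1), (-5), (-42), (-1),
    (-33), 1, 0, (-2), 5], [0, (-1), (-6), 0, (-6), 0, 0, (-1), 1], [], [], [0, 5, (-1), 1, 7, (-1),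
    0, (-8), (-2)], [], [], [], [1, 1, (-9), 0, (-6), 0, 0, (-3)], []], [[0, (-1), (-4), 0, 0, 0, 0,
    (-4)], [0, 1, 4, 0, 0, 0, 0, 4], [0, 0, 4, 0, 2, 0, 0, 1], [0, 0, (-4), 0, (-2), 0, 0, (-1)], [0,
    1, 6, 0, 6, 0, 0, 1, (-1)], [1, 5, 42, 1, 33, (-1), 0, 2, (-5)], [], [], [], [], [], [], [5, 11,
    (-62), 4, (-21), 4, 0, (-7), (-2)], [(-2), (-27), 76, (-2), 77, 2, 0, 15, 3]], [[0, 0, 16, 0, 8,
    0, 0, 4], [0, 0, (-16), 0, (-8), 0, 0, (-4)], [0, 0, 4, 0, 2, 0, 0, 1], [0, 0, (-4), 0, (-2), 0,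
    0, (-1)], [0, 0, 0, 0, 1], [0, 0, 0, 0, (-1)], [], [], [], [0, (-5), 1, (-1), (-7), 1, 0, 8, 2],
    [], [], [], [(-1), 0, (-20), 0, (-10), 0, 0, (-5)]], [[0, 0, 2, 0, 0, 0, 0, 2], [0, 0, (-2), 0, 0,
    0, 0, (-2)], [0, 0, 0, 0, 0, 0, 0, 1], [0, 0, 0, 0, 0, 0, 0, (-1)], [], [], [], [], [], [], [],
    [], [], [(-1), 0, (-2), 0, 0, 0, 0, (-3)]], [[0, 0, 2, 0, 0, 0, 0, 2], [0, 0, (-2), 0, 0, 0, 0,
    (-2)], [0, 0, 0, 0, 0, 0, 0, 1], [0, 0, 0, 0, 0, 0, 0, (-1)], [], [], [], [], [], [], [], [], [],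
    [(-1), 2, (-8), 0, (-6), 0, 0, (-3)]], [[0, (-2), (-2), 0, 0, 0, 0, (-2)], [0, 2, 2, 0, 0, 0, 0,
    2], [0, 0, (-2), 0, 0, 0, 0, (-1)], [0, 0, 2, 0, 0, 0, 0, 1], [], [], [], [], [], [], [], [], [],
    [(-1), 0, (-2), 0, 0, 0, 0, (-3)]], [[], [], [0, 0, (-4), 0, (-2), 0, 0, (-1)], [0, 0, 4, 0, 2, 0,
    0, 1], [], [], [], [], [], [(-1), (-1), (-26), 0, (-14), 0, 0, (-7), 1], [], [], [], [(-1), (-1),
    3, 0, 2, 0, 0, 1]], [[0, (-2), (-2), 0, 0, 0, 0, (-2)], [0, 2, 2, 0, 0, 0, 0, 2], [0, 0, (-2), 0,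
    0, 0, 0, (-1)], [0, 0, 2, 0, 0, 0, 0, 1], [], [], [], [], [], [], [], [], [], [(-1), 0, (-2), 0,
    0, 0, 0, (-3)]], [[], [], [0, 0, (-4), 0, (-2), 0, 0, (-1)], [0, 0, 4, 0, 2, 0, 0, 1], [], [], [],
    [], [], [], [], [0, 8, 55, 0, 28, 2, 0, 15, (-3)], [4, (-4), 0, (-1), (-1), 1, 0, 0, (-1)], [3,
    (-3), 2, (-1), (-1), 1, 0, 1, (-1)]], [[0, 0, 16, 0, 8, 0, 0, 6], [0, 0, (-16), 0, (-8), 0, 0,
    (-6)], [0, 0, 5, 0, 2, 0, 0, 2], [0, 0, (-5), 0, (-2), 0, 0, (-2)], [], [], [0, (-8), (-55), 0,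
    (-28), (-2), 0, (-15), 3], [(-6), 10, (-37), 2, (-25), (-2), 0, (-3), 3], [(-1), 2, (-19), 0,
    (-11), 0, 0, (-3), 1], [0, (-8), (-55), 0, (-28), (-2), 0, (-15), 3], [0, (-8), (-55), 0, (-28),
    (-2), 0, (-15), 3], [0, (-8), (-55), 0, (-28), (-2), 0, (-15), 3], [(-4), 8, (-53), 1, (-38),
    (-1), 0, (-2), 4], [(-1), 3, (-13), 0, (-9), 0, 0, (-1), 1]], [[0, 1], [0, (-1)], [0, 0, 3, 0, 2,
    0, 0, 1], [0, 0, (-3), 0, (-2), 0, 0, (-1)], [], [], [(-6), 10, (-37), 2, (-25), (-2), 0, (-3),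
    3], [0, (-8), (-55), 0, (-30), (-2), 0, (-15), 3], [], [1, (-2), 19, 0, 11, 0, 0, 3, (-1)], [1, 1,
    26, 0, 14, 0, 0, 7, (-1)], [1, (-10), (-36), 0, (-17), (-2), 0, (-12), 2], [1, 0, 4, 0, 2, 0, 0,
    1], []], [[], [], [0, 0, 4, 0, 2, 0, 0, 1], [0, 0, (-4), 0, (-2), 0, 0, (-1)], [0, 0, 0, 0, (-1)],
    [0, 0, 0, 0, 1], [0, 8, 55, 0, 30, 2, 0, 15, (-3)], [6, (-10), 37, (-2), 25, 2, 0, 3, (-3)], [],
    [], [], [], [7, (-10), 41, (-2), 27, 2, 0, 4, (-3)], [0, 3, 30, 0, 14, 0, 0, 10, (-1)]], [[], [],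
    [0, 0, 4, 0, 2, 0, 0, 1], [0, 0, (-4), 0, (-2), 0, 0, (-1)], [0, 0, 0, 0, (-1)], [0, 0, 0, 0, 1],
    [], [], [], [], [], [], [], [(-1), 0, (-4), 0, (-2), 0, 0, (-1)]], [[], [], [0, 0, 4, 0, 0, 0, 0,
    1], [0, 0, (-4), 0, 0, 0, 0, (-1)], [], [], [0, 0, 0, 0, 1], [0, 0, 0, 0, (-1)], [0, 1, 5, 0, 6,
    0, 0, 1, (-1)], [0, 0, 0, 0, 1], [0, 0, 0, 0, 1], [0, 0, 0, 0, 1], [1, 2, (-4), 0, 0, 0, 0, (-2),
    (-1)], [0, 1, (-7), 0, 0, 0, 0, (-5), (-1)]], [[], [], [0, 0, (-4), 0, (-2), 0, 0, (-1)], [0, 0,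
    4, 0, 2, 0, 0, 1], [], [], [], [], [], [], [(-1), 10, 36, 0, 17, 2, 0, 12, (-2)], [], [0, (-3),
    (-30), 0, (-14), 0, 0, (-10), 1], [(-7), 10, (-41), 2, (-27), (-2), 0, (-4), 3]], [[], [], [0, 0,
    (-4), 0, (-2), 0, 0, (-1)], [0, 0, 4, 0, 2, 0, 0, 1], [], [], [], [], [], [], [], [], [5, 11,
    (-62), 4, (-21), 4, 0, (-7), (-2)], [(-2), (-27), 76, (-2), 77, 2, 0, 15, 3]], [[], [], [0, 0, 0,
    0, 0, 0, 0, 1], [0, 0, 0, 0, 0, 0, 0, (-1)], [], [], [], [], [], [], [], [], [1, (-10), (-47),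
    (-1), (-20), 0, 0, (-21), 1], [(-1), (-4), (-33), 0, (-16), 0, 0, (-11), 1]], [[0, (-2), (-2), 0,
    0, 0, 0, (-2)], [0, 2, 2, 0, 0, 0, 0, 2], [0, 0, 0, 0, 0, 0, 0, (-1)], [0, 0, 0, 0, 0, 0, 0, 1],
    [], [], [], [], [], [], [], [], [], [(-1), 0, (-2), 0, 0, 0, 0, (-3)]], [[], [], [0, 0, (-4), 0,
    (-2), 0, 0, (-1)], [0, 0, 4, 0, 2, 0, 0, 1], [], [], [0, 1, 6, 0, 6, 0, 0, 1, (-1)], [0, 1, 6, 0,
    6, 0, 0, 1, (-1)], [], [], [], [], [], [(-1), (-1), 3, 0, 2, 0, 0, 1]], [[0, 1], [0, (-1)], [0, 0,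
    2, 0, 0, 0, 0, 1], [0, 0, (-2), 0, 0, 0, 0, (-1)], [7, 86, (-89), 13, (-96), 3, (-1), 8, (-10)],
    [12, 61, (-112), 7, (-85), 2, (-1), (-10), (-10)], [], [], [], [], [], [], [0, 0, 11, 0, 6, 0, 0,
    4], [(-1), (-1), 9, 0, 6, 0, 0, 3]], [[0, 1], [0, (-1)], [0, 0, 2, 0, 0, 0, 0, 1], [0, 0, (-2), 0,
    0, 0, 0, (-1)], [25, 179, (-140), 18, (-174), 7, (-2), 29, (-25)], [16, 176, (-161), 22, (-202),
    6, (-2), 30, (-20)], [], [], [(-3), (-11), 2, 0, 12, (-2), 0, (-12)], [0, 20, (-61), 6, (-24), 2,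
    0, 0, (-1)], [(-1), 4, 12, 1, 12, (-1), 0, (-3), (-2)], [32, 267, 280, 20, 84, 9, 2, 131, (-59)],
    [(-5), 7, (-24), 2, (-16), (-2), 0, (-2), 2], [(-2), 2, 16, 1, 13, (-1), 0, (-1), (-1)]], [[0, 1,
    3, 0, 0, 0, 0, 2], [0, (-1), (-3), 0, 0, 0, 0, (-2)], [0, 0, 0, 0, 0, 0, 0, 1], [0, 0, 0, 0, 0, 0,
    0, (-1)], [0, 5, 89, 1, 54, 4, 0, 39, 1], [3, 5, 11, 2, 20, 0, 0, (-8), (-5)], [0, 11, 24, 1, 4,
    1, 0, 17], [0, (-3), (-14), 0, (-11), 0, 0, (-1), 1], [], [3, 11, (-2), 0, (-12), 2, 0, 12], [0,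
    5, 89, 1, 54, 4, 0, 39, 1], [], [1, 12, 21, 1, 2, 1, 0, 16], [0, 12, 1, 1, (-14), 1, 0, 9]], [[0,
    0, 16, 0, 12, 0, 0, 6], [0, 0, (-16), 0, (-12), 0, 0, (-6)], [0, 0, 4, 0, 4, 0, 0, 1], [0, 0,
    (-4), 0, (-4), 0, 0, (-1)], [0, 1, 6, 0, 4, 0, 0, 2, (-1)], [0, 1, 5, 0, 4, 0, 0, 1, (-1)], [],
    [], [0, 1, 5, 0, 5, 0, 0, 1, (-1)], [], [], [0, 1, 6, 0, 6, 0, 0, 1, (-1)], [0, (-12), (-1), (-1),
    14, (-1), 0, (-9)], [(-1), (-12), (-21), (-1), (-2), (-1), 0, (-16)]], [[], [], [0, 0, 4, 0, 2, 0,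
    0, 1], [0, 0, (-4), 0, (-2), 0, 0, (-1)], [47, 1469, 13, 199, (-650), 58, 7, 497, (-183)], [31,
    1435, 909, 197, (-84), 66, 13, 714, (-194)], [], [], [], [], [0, 0, 0, 0, (-1)], [], [15, 58,
    (-137), 7, (-118), 4, (-1), (-9), (-8)], [12, 56, (-144), 7, (-111), 3, (-1), (-11), (-7)]]]

/-- The values, a part. -/
def formData2 : List (List (List ℤ)) :=
  [[[0, 1], [0, (-1)], [37, 247, 224, 22, (-6), 7, (-1), 120, (-53)], [(-37), (-247), (-224), (-22),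
    6, (-7), 1, (-120), 53], [], [], [(-11), (-62), 137, (-8), 117, (-3), 1, 9, 7], [(-11), (-62),
    137, (-8), 117, (-3), 1, 9, 7], [], [(-12), (-69), 142, (-8), 125, (-4), 1, 2, 7], [(-32), (-267),
    (-280), (-20), (-84), (-9), (-2), (-131), 59], [(-33), (-263), (-268), (-19), (-72), (-10), (-2),
    (-134), 57], [(-12), (-56), 144, (-7), 111, (-3), 1, 11, 7], [(-15), (-58), 137, (-7), 118, (-4),
    1, 9, 8]], [[0, 1], [0, (-1)], [21, 67, (-105), 10, (-88), 5, (-2), (-6), (-14)], [(-21), (-67),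
    105, (-10), 88, (-5), 2, 6, 14], [], [], [], [], [(-28), (-33), 336, (-3), 260, (-1), 2, 86, 13],
    [], [(-40), (-293), 468, (-35), 471, (-10), 2, (-14), 35], [(-59), (-688), 889, (-89), 975, (-24),
    1, (-37), 82], [(-19), (-116), 271, (-15), 231, (-6), 1, 7, 12], [(-40), (-294), 467, (-35), 471,
    (-10), 2, (-14), 35]], [[0, 1, 2, 0, 0, 0, 0, 2], [0, (-1), (-2), 0, 0, 0, 0, (-2)], [0, 0, 1, 0,
    0, 0, 0, 1], [0, 0, (-1), 0, 0, 0, 0, (-1)], [21, 208, (-410), 28, (-369), 8, (-2), 0, (-17)],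
    [32, 339, (-373), 45, (-385), 16, (-3), 80, (-31)], [2, 15, 9, 1, 0, 1, 0, 7, (-2)], [2, 15, 10,
    1, 0, 1, 0, 9, (-2)], [3, 31, (-63), 6, (-36), 4, 0, 12, (-1)], [], [26, 205, (-415), 26, (-395),
    6, (-1), (-1), (-21)], [], [40, 294, (-467), 35, (-471), 10, (-2), 14, (-35)], [19, 116, (-271),
    15, (-231), 6, (-1), (-7), (-12)]], [[0, 1, 2, 0, 0, 0, 0, 2], [0, (-1), (-2), 0, 0, 0, 0, (-2)],
    [0, 0, 1, 0, 0, 0, 0, 1], [0, 0, (-1), 0, 0, 0, 0, (-1)], [], [], [21, 63, 193, (-1), 23, 5, 0,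
    84, (-19)], [30, 113, (-44), (-1), (-153), 0, (-2), 22, (-25)], [], [], [], [227, 1682, (-621),
    181, (-1294), 72, (-7), 556, (-247)], [0, 1, 3, 0, 0, 0, 0, 2], [(-1), (-6), (-28), (-1), (-30),
    2, 0, 11, 5]], [[0, 1], [0, (-1)], [0, 0, 2, 0, 0, 0, 0, 1], [0, 0, (-2), 0, 0, 0, 0, (-1)],
    [(-4), (-154), (-59), (-20), 4, (-7), 0, (-89), 16], [(-66), (-583), 240, (-65), 436, (-24), 3,
    (-168), 82], [], [], [], [], [], [], [1, 6, 28, 1, 30, (-2), 0, (-11), (-5)], [0, (-1), (-3), 0,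
    0, 0, 0, (-2)]], [[0, 1], [0, (-1)], [0, 0, 3, 0, 2, 0, 0, 1], [0, 0, (-3), 0, (-2), 0, 0, (-1)],
    [0, 7, 40, 1, 18, 0, 0, 16, (-1)], [0, 7, 40, (-1), 18, 0, 0, 16, (-1)], [1, 1, 26, 0, 14, 0, 0,
    7, (-1)], [0, 7, 40, 1, 18, 0, 0, 16, (-1)], [1, 1, 26, 0, 14, 0, 0, 7, (-1)], [], [1, 1, 26, 0,
    14, 0, 0, 7, (-1)], [1, 1, 26, 0, 14, 0, 0, 7, (-1)], [1, 4, 33, 0, 16, 0, 0, 11, (-1)], [(-1),
    10, 47, 1, 20, 0, 0, 21, (-1)]], [[], [], [0, 0, (-4), 0, (-2), 0, 0, (-1)], [0, 0, 4, 0, 2, 0, 0,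
    1], [0, (-7), (-40), 1, (-18), 0, 0, (-16), 1], [0, (-7), (-40), (-1), (-18), 0, 0, (-16), 1], [],
    [], [0, 8, 55, 0, 28, 2, 0, 15, (-3)], [], [], [], [0, 3, 7, 0, 2, 0, 0, 4], [(-1), 3, 7, 0, 2, 0,
    0, 5]], [[], [], [0, 0, (-4), 0, (-2), 0, 0, (-1)], [0, 0, 4, 0, 2, 0, 0, 1], [], [], [0, (-7),
    (-40), (-1), (-18), 0, 0, (-16), 1], [(-1), (-1), (-26), 0, (-14), 0, 0, (-7), 1], [], [], [], [],
    [0, 3, 7, 0, 2, 0, 0, 4], [(-1), 3, 7, 0, 2, 0, 0, 5]], [[], [], [0, 0, 0, 0, 0, 0, 0, (-1)], [0,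
    0, 0, 0, 0, 0, 0, 1], [], [], [], [], [], [], [], [(-1), (-1), (-26), 0, (-14), 0, 0, (-7), 1],
    [1, (-3), (-7), 0, (-2), 0, 0, (-5)], [0, (-3), (-7), 0, (-2), 0, 0, (-4)]], [[], [], [0, 0, (-4),
    0, (-2), 0, 0, (-1)], [0, 0, 4, 0, 2, 0, 0, 1], [], [], [0, 0, 0, 0, 1], [0, 0, 0, 0, (-1)], [],
    [], [0, 8, 55, 0, 28, 2, 0, 15, (-3)], [], [(-3), 12, (-7), 1, (-12), 1, 0, 8, 1], [(-4), 13,
    (-5), 1, (-12), 1, 0, 9, 1]], [[0, (-1)], [0, 1], [0, 0, (-2), 0, 0, 0, 0, (-1)], [0, 0, 2, 0, 0,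
    0, 0, 1], [(-12), (-61), 112, (-7), 85, (-2), 1, 10, 10], [(-7), (-86), 89, (-13), 96, (-3), 1,
    (-8), 10], [], [], [], [], [], [], [1, 0, (-3), 0, 0, 0, 0, (-1)], [0, 1, (-1)]], [[0, (-1)], [0,
    1], [0, 0, (-2), 0, 0, 0, 0, (-1)], [0, 0, 2, 0, 0, 0, 0, 1], [(-60), (-332), 181, (-25), 306,
    (-4), 2, (-35), 61], [(-56), (-252), 221, (-15), 313, (-2), 2, 3, 51], [(-3), (-11), 8, 0, 12,
    (-2), 0, (-10)], [(-3), (-11), 2, 0, 12, (-2), 0, (-12)], [], [], [], [], [1, 0, (-3), 0, 0, 0, 0,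
    (-1)], []], [[], [], [0, 0, (-3), 0, 0, 0, 0, (-1)], [0, 0, 3, 0, 0, 0, 0, 1], [(-16), (-176),
    161, (-22), 202, (-6), 2, (-30), 20], [(-25), (-179), 140, (-18), 174, (-7), 2, (-29), 25], [(-4),
    (-9), (-12), 0, (-4), (-2), 0, (-11), 1], [(-4), (-9), (-18), 0, (-4), (-2), 0, (-13), 1], [2,
    (-12), 10, (-1), 12, (-1), 0, (-7), (-1)], [3, (-9), 4, (-1), 8, 0, 0, (-7), (-1)], [], [], [],
    [(-1), 0, 3, 0, 0, 0, 0, 1]], [[0, 1], [0, (-1)], [0, 0, (-3), 0, 0, 0, 0, (-1)], [0, 0, 3, 0, 0,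
    0, 0, 1], [(-6), 77, 14, 10, (-10), 2, 1, 56, (-1)], [(-6), 77, 14, 10, (-10), 2, 1, 56, (-1)],
    [0, 3, 14, 0, 11, 0, 0, 1, (-1)], [0, (-11), (-24), (-1), (-4), (-1), 0, (-17)], [(-1), 2, (-25),
    0, (-16), 0, 0, (-5), 1], [1, 3, (-6), 0, (-4), 1], [], [(-1), 2, (-25), 0, (-16), 0, 0, (-5), 1],
    [1, 1, (-3), 0, (-2), 0, 0, (-1)], []], [[0, (-1), (-2), 0, 0, 0, 0, (-2)], [0, 1, 2, 0, 0, 0, 0,
    2], [0, 0, (-1), 0, 0, 0, 0, (-1)], [0, 0, 1, 0, 0, 0, 0, 1], [20, 80, (-565), 7, (-408), (-2),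
    (-4), (-106), (-1)], [27, 98, (-441), 3, (-331), 3, (-4), (-50), (-3)], [], [], [(-1), (-3), 6, 0,
    4, (-1)], [2, (-8), (-16), (-1), (-6), 0, 0, (-8)], [], [], [1, 0, 2, 0, 0, 0, 0, 3], []], [[0, 1,
    2, 0, 0, 0, 0, 2], [0, (-1), (-2), 0, 0, 0, 0, (-2)], [0, 0, 1, 0, 0, 0, 0, 1], [0, 0, (-1), 0, 0,
    0, 0, (-1)], [], [], [], [], [], [], [], [], [1, (-2), 8, 0, 6, 0, 0, 3], []], [[0, (-1)], [0, 1],
    [6, 17, (-33), 6, (-30), 6, 0, 18, (-3)], [(-6), (-17), 33, (-6), 30, (-6), 0, (-18), 3], [], [],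
    [40, 435, 432, 40, 103, 19, 1, 218, (-78)], [40, 435, 435, 40, 103, 19, 1, 220, (-78)], [28, 194,
    (-119), 19, (-166), 5, (-2), 26, (-30)], [26, 175, (-152), 17, (-186), 8, (-2), 32, (-23)], [(-3),
    6, 13, (-2), (-16), 1, 0, 25, 5], [], [7, 621, 2849, 94, 1818, 49, 14, 912, (-136)], [28, 171,
    (-143), 17, (-176), 7, (-2), 29, (-24)]], [[], [], [0, 0, (-4), 0, (-2), 0, 0, (-1)], [0, 0, 4, 0,
    2, 0, 0, 1], [], [], [], [], [], [], [], [], [(-28), (-171), 143, (-17), 176, (-7), 2, (-29), 24],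
    [(-7), (-621), (-2849), (-94), (-1818), (-49), (-14), (-912), 136]], [[0, 1], [0, (-1)], [0, 0, 2,
    0, 0, 0, 0, 1], [0, 0, (-2), 0, 0, 0, 0, (-1)], [3, 174, 65, 19, (-29), 5, 0, 99, (-16)], [8, 104,
    (-71), 14, (-100), 2, (-1), 9, (-14)], [0, 23, 24, 2, 9, (-2), 0, (-3), (-6)], [61, 436, (-273),
    47, (-411), 16, (-3), 81, (-69)], [], [], [], [], [1, 24, 21, 2, 9, (-2), 0, (-4), (-6)], [0, 23,
    24, 2, 9, (-2), 0, (-3), (-6)]], [[0, 1], [0, (-1)], [0, 0, 2, 0, 0, 0, 0, 1], [0, 0, (-2), 0, 0,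
    0, 0, (-1)], [8, 104, (-71), 14, (-100), 2, (-1), 9, (-14)], [7, 104, (-63), 13, (-104), 3, (-1),
    24, (-12)], [(-1), 4, 8, 1, 12, (-1), 0, (-5), (-2)], [(-1), 4, 11, 1, 12, (-1), 0, (-3), (-2)],
    [], [], [], [], [1, 6, 28, 1, 30, (-2), 0, (-11), (-5)], [0, 11, (-9), 1, (-4), (-4), 0, (-20),
    (-5)]], [[0, 1], [0, (-1)], [0, 0, 2, 0, 0, 0, 0, 1], [0, 0, (-2), 0, 0, 0, 0, (-1)], [56, 252,
    (-221), 15, (-313), 2, (-2), (-3), (-51)], [60, 332, (-181), 25, (-306), 4, (-2), 35, (-61)],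
    [(-1), 9, (-4), 1, (-3), (-4), 0, (-16), (-4)], [36, 185, (-276), 12, (-293), 0, (-1), (-31),
    (-34)], [], [], [], [], [0, 10, (-2), 1, (-3), (-4), 0, (-15), (-4)], [(-1), 9, (-4), 1, (-3),
    (-4), 0, (-16), (-4)]], [[0, 1], [0, (-1)], [0, 0, 2, 0, 0, 0, 0, 1], [0, 0, (-2), 0, 0, 0, 0,
    (-1)], [(-52), (-286), (-35), (-25), 147, (-15), 2, (-125), 51], [(-43), (-251), (-44), (-18),
    113, (-6), 2, (-84), 48], [(-30), (-113), 44, 1, 153, 0, 2, (-22), 25], [(-21), (-63), (-193), 1,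
    (-23), (-5), 0, (-84), 19], [], [], [], [], [(-6), 63, (-2), 11, 3, (-2), 1, 26, (-2)], [(-7), 64,
    0, 11, 3, (-2), 1, 27, (-2)]], [[0, 1], [0, (-1)], [0, 0, 2, 0, 0, 0, 0, 1], [0, 0, (-2), 0, 0, 0,
    0, (-1)], [(-21), (-208), 410, (-28), 369, (-8), 2, 0, 17], [(-21), (-208), 410, (-28), 369, (-8),
    2, 0, 17], [], [], [0, (-5), 4, 0, 6, 0, 0, (-3)], [(-4), 2, 1, 1, 0, (-1), 0, 0, 1], [], [(-2),
    3, 20, 1, 12, 0, 0, 5], [1, (-4), 1, 0, 4, 0, 0, (-4)], [0, (-6), (-2), 0, 4, 0, 0, (-5)]], [[0,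
    1], [0, (-1)], [0, 0, (-3), 0, (-2), 0, 0, (-1)], [0, 0, 3, 0, 2, 0, 0, 1], [3, (-6), (-13), 2,
    16, (-1), 0, (-25), (-5)], [(-40), (-129), 1159, (-4), 926, 7, 7, 250, 7], [(-11), (-67), (-222),
    (-14), (-132), (-5), (-1), (-46), 25], [(-83), (-505), 691, (-46), 690, (-21), 7, (-45), 65],
    [(-2), 8, 16, 1, 6, 0, 0, 8], [0, 5, (-4), 0, (-6), 0, 0, 3], [3, (-6), (-13), 2, 16, (-1), 0,
    (-25), (-5)], [3, (-6), (-13), 2, 16, (-1), 0, (-25), (-5)], [1, 1, (-3), 0, (-2), 0, 0, (-1)],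
    []], [[0, (-1), 1], [0, 1, (-1)], [0, 0, (-3), 0, 0, 0, 0, (-1)], [0, 0, 3, 0, 0, 0, 0, 1], [],
    [], [0, (-4), 4, 0, 4, 0, 0, (-3)], [1, 1, 39, 0, 27, 0, 0, 6, (-2)], [4, (-2), (-1), (-1), 0, 1,
    0, 0, (-1)], [], [], [], [0, (-1), 1], [(-1), 0, 3, 0, 0, 0, 0, 1]], [[0, 1], [0, (-1)], [0, 0,
    (-3), 0, 0, 0, 0, (-1)], [0, 0, 3, 0, 0, 0, 0, 1], [], [], [(-36), (-185), 276, (-12), 293, 0, 1,
    31, 34], [1, (-9), 4, (-1), 3, 4, 0, 16, 4], [], [], [1, (-9), 4, (-1), 3, 4, 0, 16, 4], [], [1,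
    1, (-3), 0, 0, 0, 0, (-1)], []], [[0, (-1)], [0, 1], [0, 0, (-2), 0, 0, 0, 0, (-1)], [0, 0, 2, 0,
    0, 0, 0, 1], [(-8), (-104), 71, (-14), 100, (-2), 1, (-9), 14], [(-3), (-174), (-65), (-19), 29,
    (-5), 0, (-99), 16], [], [], [], [], [], [], [1, 0, (-3), 0, 0, 0, 0, (-1)], [0, 1, (-1)]]]

/-- The values, a part. -/
def formData3 : List (List (List ℤ)) :=
  [[[], [], [0, 0, (-3), 0, 0, 0, 0, (-1)], [0, 0, 3, 0, 0, 0, 0, 1], [(-17), (-172), 173, (-21),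
    214, (-7), 2, (-33), 18], [(-26), (-175), 152, (-17), 186, (-8), 2, (-32), 23], [6, 44, (-18), 8,
    4, 3, 0, 12, (-7)], [64, 502, (-93), 51, (-280), 20, (-2), 147, (-81)], [(-26), (-175), 152,
    (-17), 186, (-8), 2, (-32), 23], [3, (-9), 4, (-1), 8, 0, 0, (-7), (-1)], [], [], [0, (-1), 1],
    [(-1), 0, 3, 0, 0, 0, 0, 1]], [[0, 1], [0, (-1)], [0, 0, (-3), 0, 0, 0, 0, (-1)], [0, 0, 3, 0, 0,
    0, 0, 1], [(-36), (-580), 592, (-76), 721, (-21), 0, (-62), 67], [(-33), (-748), (-302), (-102),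
    185, (-39), (-5), (-351), 104], [1, 1, 39, 0, 27, 0, 0, 6, (-2)], [1, 1, 36, 0, 27, 0, 0, 6,
    (-2)], [], [(-28), (-194), 119, (-19), 166, (-5), 2, (-26), 30], [1, (-2), 25, 0, 16, 0, 0, 5,
    (-1)], [1, (-2), 25, 0, 16, 0, 0, 5, (-1)], [2, (-1), 22, 0, 14, 0, 0, 4, (-1)], [1, 1, 26, 0, 14,
    0, 0, 7, (-1)]], [[0, 1, 3, 0, 0, 0, 0, 2], [0, (-1), (-3), 0, 0, 0, 0, (-2)], [0, 0, 0, 0, 0, 0,
    0, 1], [0, 0, 0, 0, 0, 0, 0, (-1)], [(-27), (-98), 441, (-3), 331, (-3), 4, 50, 3], [(-20), (-80),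
    565, (-7), 408, 2, 4, 106, 1], [(-1), (-1), (-36), 0, (-27), 0, 0, (-6), 2], [(-1), (-1), (-39),
    0, (-27), 0, 0, (-6), 2], [], [(-18), 86, 527, 16, 312, 9, 4, 186, (-11)], [], [(-20), (-80), 565,
    (-7), 408, 2, 4, 106, 1], [1, (-2), (-14), 0, (-13), 0, 0, (-2), 1], [0, (-3), (-17), 0, (-13), 0,
    0, (-5), 1]], [[0, (-1)], [0, 1], [0, 0, (-2), 0, 0, 0, 0, (-1)], [0, 0, 2, 0, 0, 0, 0, 1], [6,
    (-77), (-14), (-10), 10, (-2), (-1), (-56), 1], [6, (-77), (-14), (-10), 10, (-2), (-1), (-56),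
    1], [83, 505, (-691), 46, (-690), 21, (-7), 45, (-65)], [11, 67, 222, 14, 132, 5, 1, 46, (-25)],
    [18, (-86), (-527), (-16), (-312), (-9), (-4), (-186), 11], [], [5, (-103), 59, (-11), 84, 0,
    (-1), (-42), 4], [(-31), (-655), 553, (-86), 715, (-23), (-1), (-123), 69], [24, (-342), (-628),
    (-50), (-325), (-23), (-4), (-379), 23], [6, (-62), 1, (-10), 8, (-1), (-1), (-46)]], [[0, (-1)],
    [0, 1], [0, 0, (-2), 0, 0, 0, 0, (-1)], [0, 0, 2, 0, 0, 0, 0, 1], [17, 16, (-211), (-2), (-174),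
    (-2), (-2), (-71), (-8)], [17, 16, (-211), (-2), (-174), (-2), (-2), (-71), (-8)], [], [], [],
    [28, 33, (-336), 3, (-260), 1, (-2), (-86), (-13)], [(-227), (-1682), 621, (-181), 1294, (-72), 7,
    (-556), 247], [0, (-156), (-38), (-23), 40, (-9), 0, (-104), 10], [7, (-64), 0, (-11), (-3), 2,
    (-1), (-27), 2], [6, (-63), 2, (-11), (-3), 2, (-1), (-26), 2]], [[0, 1, 2, 0, 0, 0, 0, 2], [0,
    (-1), (-2), 0, 0, 0, 0, (-2)], [0, 0, 1, 0, 0, 0, 0, 1], [0, 0, (-1), 0, 0, 0, 0, (-1)], [], [],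
    [], [], [], [], [], [], [1, 0, 2, 0, 0, 0, 0, 3], []], [[0, 1, 3, 0, 0, 0, 0, 2], [0, (-1), (-3),
    0, 0, 0, 0, (-2)], [0, 0, 0, 0, 0, 0, 0, 1], [0, 0, 0, 0, 0, 0, 0, (-1)], [33, 748, 302, 102,
    (-185), 39, 5, 351, (-104)], [36, 580, (-592), 76, (-721), 21, 0, 62, (-67)], [(-40), (-435),
    (-435), (-40), (-103), (-19), (-1), (-220), 78], [(-40), (-435), (-432), (-40), (-103), (-19),
    (-1), (-218), 78], [], [], [31, 655, (-553), 86, (-715), 23, 1, 123, (-69)], [36, 552, (-494), 75,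
    (-631), 23, 0, 81, (-65)], [152, 899, 274, 96, (-421), 41, (-2), 400, (-169)], [151, 899, 276, 96,
    (-421), 41, (-2), 401, (-169)]], [[0, 1, 3, 0, 0, 0, 0, 2], [0, (-1), (-3), 0, 0, 0, 0, (-2)], [0,
    0, 0, 0, 0, 0, 0, 1], [0, 0, 0, 0, 0, 0, 0, (-1)], [11, 112, (-325), 15, (-260), 3, (-1), (-21),
    (-7)], [11, 112, (-325), 15, (-260), 3, (-1), (-21), (-7)], [(-2), (-15), (-10), (-1), 0, (-1), 0,
    (-9), 2], [(-2), (-15), (-9), (-1), 0, (-1), 0, (-7), 2], [], [(-6), 53, (-366), 12, (-236), 3, 0,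
    (-37), 9], [59, 688, (-889), 89, (-975), 24, (-1), 37, (-82)], [], [38, 279, (-476), 34, (-471),
    9, (-2), 7, (-33)], [58, 347, (-581), 44, (-559), 14, (-4), 1, (-47)]], [[0, (-1)], [0, 1],
    [(-21), (-67), 105, (-10), 88, (-5), 2, 6, 14], [21, 67, (-105), 10, (-88), 5, (-2), (-6), (-14)],
    [(-8), (-8), 13, 2, 38, 0, (-1), (-9), 4], [17, 56, 63, 3, (-8), 0, (-1), 18, (-17)], [], [], [6,
    (-53), 366, (-12), 236, (-3), 0, 37, (-9)], [66, 346, 143, 29, (-118), 13, (-2), 145, (-70)],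
    [(-37), (-279), 478, (-34), 471, (-9), 2, (-4), 33], [(-26), (-205), 415, (-26), 395, (-6), 1, 1,
    21], [(-58), (-347), 581, (-44), 559, (-14), 4, (-1), 47], [(-38), (-279), 476, (-34), 471, (-9),
    2, (-7), 33]], [[0, 2], [0, (-2)], [0, 0, 3, 0, 0, 0, 0, 1], [0, 0, (-3), 0, 0, 0, 0, (-1)],
    [(-6), (-181), (-475), (-11), (-192), (-3), (-3), (-99), 45], [(-20), (-163), 169, (-20), 206,
    (-7), 2, (-26), 19], [(-1), (-1), (-39), 0, (-27), 0, 0, (-6), 2], [0, 4, (-4), 0, (-4), 0, 0, 3],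
    [(-3), 9, (-4), 1, (-8), 0, 0, 7, 1], [], [(-3), 9, (-4), 1, (-8), 0, 0, 7, 1], [3, 6, 1, 3, 18,
    1, 0, (-9), (-5)], [0, 6, 2, 0, (-4), 0, 0, 5], [(-1), 4, (-1), 0, (-4), 0, 0, 4]], [[0, 0, 4, 0,
    0, 0, 0, 4], [0, 0, (-4), 0, 0, 0, 0, (-4)], [0, 0, 1, 0, 0, 0, 0, 1], [0, 0, (-1), 0, 0, 0, 0,
    (-1)], [], [], [(-64), (-502), 93, (-51), 280, (-20), 2, (-147), 81], [(-6), (-44), 18, (-8),
    (-4), (-3), 0, (-12), 7], [], [(-3), 11, 9, (-2), (-22), 1, 0, 28, 5], [(-3), (-6), (-1), (-3),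
    (-18), (-1), 0, 9, 5], [(-6), 3, (-5), (-2), (-26), (-1), 0, 16, 6], [(-3), 0, 1, (-3), (-22),
    (-1), 0, 14, 5], [(-4), 0, (-4), (-3), (-22), (-1), 0, 9, 5]], [[0, (-1)], [0, 1], [0, 0, (-2), 0,
    0, 0, 0, (-1)], [0, 0, 2, 0, 0, 0, 0, 1], [(-14), (-120), 344, (-14), 285, (-5), 1, 14, 6],
    [(-12), (-107), 330, (-14), 273, (-4), 1, 15, 5], [], [], [(-1), 2, 27, 1, 29, (-1), 0, (-4),
    (-3)], [4, 48, (-27), 8, (-7), 4, 0, 15, (-6)], [(-1), 5, 5, 1, 13, (-1), 0, (-6), (-2)], [(-1),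
    9, (-4), 1, (-3), (-4), 0, (-16), (-4)], [0, 5, 9, 1, 15, (-1), 0, (-5), (-2)], [(-1), 5, 5, 1,
    13, (-1), 0, (-6), (-2)]], [[0, 1, 3, 0, 0, 0, 0, 2], [0, (-1), (-3), 0, 0, 0, 0, (-2)], [0, 0, 0,
    0, 0, 0, 0, 1], [0, 0, 0, 0, 0, 0, 0, (-1)], [12, 107, (-330), 14, (-273), 4, (-1), (-15), (-5)],
    [14, 120, (-344), 14, (-285), 5, (-1), (-14), (-6)], [3, 14, 10, 1, 0, 1, 0, 10, (-2)], [(-2),
    (-15), (-9), (-1), 0, (-1), 0, (-7), 2], [], [], [], [40, 293, (-468), 35, (-471), 10, (-2), 14,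
    (-35)], [1, 0, 2, 0, 0, 0, 0, 3], [0, (-1), (-1)]], [[0, 0, 4, 0, 0, 0, 0, 4], [0, 0, (-4), 0, 0,
    0, 0, (-4)], [0, 0, 1, 0, 0, 0, 0, 1], [0, 0, (-1), 0, 0, 0, 0, (-1)], [], [], [], [], [(-4),
    (-48), 27, (-8), 7, (-4), 0, (-15), 6], [], [], [(-3), 6, 13, (-2), (-16), 1, 0, 25, 5], [2, 27,
    (-76), 2, (-77), (-2), 0, (-15), (-3)], [(-5), (-11), 62, (-4), 21, (-4), 0, 7, 2]], [[0, 1, 2, 0,
    0, 0, 0, 2], [0, (-1), (-2), 0, 0, 0, 0, (-2)], [0, 0, 1, 0, 0, 0, 0, 1], [0, 0, (-1), 0, 0, 0, 0,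
    (-1)], [20, 163, (-169), 20, (-206), 7, (-2), 26, (-19)], [6, 181, 475, 11, 192, 3, 3, 99, (-45)],
    [1, (-4), (-11), (-1), (-12), 1, 0, 3, 2], [1, (-4), (-8), (-1), (-12), 1, 0, 5, 2], [(-2), (-10),
    76, 0, 56, 2, 0, 24, 2], [], [0, 156, 38, 23, (-40), 9, 0, 104, (-10)], [], [0, (-11), 9, (-1), 4,
    4, 0, 20, 5], [(-1), (-6), (-28), (-1), (-30), 2, 0, 11, 5]], [[0, 1, 2, 0, 0, 0, 0, 2], [0, (-1),
    (-2), 0, 0, 0, 0, (-2)], [0, 0, 1, 0, 0, 0, 0, 1], [0, 0, (-1), 0, 0, 0, 0, (-1)], [21, 208,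
    (-410), 28, (-369), 8, (-2), 0, (-17)], [21, 208, (-410), 28, (-369), 8, (-2), 0, (-17)], [2, 15,
    9, 1, 0, 1, 0, 7, (-2)], [(-3), (-14), (-10), (-1), 0, (-1), 0, (-10), 2], [12, 69, (-142), 8,
    (-125), 4, (-1), (-2), (-7)], [], [], [37, 279, (-478), 34, (-471), 9, (-2), 4, (-33)], [0, 1, 1],
    [(-1), 0, (-2), 0, 0, 0, 0, (-3)]], [[1, (-60), (-14), (-8), 4, (-3), 0, (-46), 2], [(-1), 60, 14,
    8, (-4), 3, 0, 46, (-2)], [1, (-59), (-11), (-8), 6, (-3), 0, (-45), 2], [(-1), 59, 11, 8, (-6),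
    3, 0, 45, (-2)], [], [], [0, 6, (-65), 0, (-50), (-3), 0, (-22), (-1)], [1, (-53), (-79), (-8),
    (-46), (-6), 0, (-68), 1], [(-66), (-346), (-143), (-29), 118, (-13), 2, (-145), 70], [2, 10,
    (-76), 0, (-56), (-2), 0, (-24), (-2)], [20, 80, (-565), 7, (-408), (-2), (-4), (-106), (-1)], [0,
    (-5), (-89), (-1), (-54), (-4), 0, (-39), (-1)], [2, 28, (-70), 1, (-71), (-2), 0, (-14), (-4)],
    [(-1), 147, (-45), 17, (-81), 4, 0, 77, (-8)]], [[0, 1, 2, 0, 0, 0, 0, 2], [0, (-1), (-2), 0, 0,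
    0, 0, (-2)], [0, 0, 1, 0, 0, 0, 0, 1], [0, 0, (-1), 0, 0, 0, 0, (-1)], [40, 129, (-1159), 4,
    (-926), (-7), (-7), (-250), (-7)], [(-3), 6, 13, (-2), (-16), 1, 0, 25, 5], [], [], [], [], [],
    [], [1, (-2), 8, 0, 6, 0, 0, 3], []], [[0, (-1), (-2), 0, 0, 0, 0, (-2)], [0, 1, 2, 0, 0, 0, 0,
    2], [0, 0, (-1), 0, 0, 0, 0, (-1)], [0, 0, 1, 0, 0, 0, 0, 1], [(-3), (-5), (-11), (-2), (-20), 0,
    0, 8, 5], [0, (-5), (-89), (-1), (-54), (-4), 0, (-39), (-1)], [], [], [(-3), 9, (-4), 1, (-8), 0,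
    0, 7, 1], [1, (-2), (-27), (-1), (-29), 1, 0, 4, 3], [], [], [1, 0, 2, 0, 0, 0, 0, 3], []], [[0,
    (-1)], [0, 1], [0, 0, (-2), 0, 0, 0, 0, (-1)], [0, 0, 2, 0, 0, 0, 0, 1], [66, 583, (-240), 65,
    (-436), 24, (-3), 168, (-82)], [4, 154, 59, 20, (-4), 7, 0, 89, (-16)], [], [], [], [], [], [],
    [1, (-3), 13, 0, 9, 0, 0, 1, (-1)], [4, (-8), 53, (-1), 38, 1, 0, 2, (-4)]], [[0, (-1)], [0, 1],
    [0, 0, (-2), 0, 0, 0, 0, (-1)], [0, 0, 2, 0, 0, 0, 0, 1], [43, 251, 44, 18, (-113), 6, (-2), 84,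
    (-48)], [52, 286, 35, 25, (-147), 15, (-2), 125, (-51)], [(-1), 4, 12, 1, 12, (-1), 0, (-3),
    (-2)], [(-1), 4, 11, 1, 12, (-1), 0, (-3), (-2)], [], [], [], [], [4, (-13), 5, (-1), 12, (-1), 0,
    (-9), (-1)], [3, (-12), 7, (-1), 12, (-1), 0, (-8), (-1)]], [[0, (-1)], [0, 1], [0, 0, (-2), 0, 0,
    0, 0, (-1)], [0, 0, 2, 0, 0, 0, 0, 1], [(-7), (-104), 63, (-13), 104, (-3), 1, (-24), 12], [(-8),
    (-104), 71, (-14), 100, (-2), 1, (-9), 14], [11, 62, (-137), 8, (-117), 3, (-1), (-9), (-7)], [11,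
    62, (-137), 8, (-117), 3, (-1), (-9), (-7)], [], [], [], [], [(-3), 3, (-2), 1, 1, (-1), 0, (-1),
    1], [(-4), 4, 0, 1, 1, (-1), 0, 0, 1]], [[0, (-1), (-2), 0, 0, 0, 0, (-2)], [0, 1, 2, 0, 0, 0, 0,
    2], [0, 0, (-1), 0, 0, 0, 0, (-1)], [0, 0, 1, 0, 0, 0, 0, 1], [], [], [], [], [], [], [], [], [1,
    0, 2, 0, 0, 0, 0, 3], []], [[0, (-2), (-2), 0, 0, 0, 0, (-2)], [0, 2, 2, 0, 0, 0, 0, 2], [0, 0,
    (-2), 0, 0, 0, 0, (-1)], [0, 0, 2, 0, 0, 0, 0, 1], [], [], [], [], [], [], [], [], [], [(-1),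
    (-1), 3, 0, 2, 0, 0, 1]], [[0, 1], [0, (-1)], [0, 0, 2, 0, 0, 0, 0, 1], [0, 0, (-2), 0, 0, 0, 0,
    (-1)], [(-32), (-339), 373, (-45), 385, (-16), 3, (-80), 31], [(-21), (-208), 410, (-28), 369,
    (-8), 2, 0, 17], [], [], [3, (-11), (-9), 2, 22, (-1), 0, (-28), (-5)], [(-2), (-10), 11, 0, 12,
    (-2), 0, (-7)], [(-3), (-11), 8, 0, 12, (-2), 0, (-10)], [], [4, 0, 4, 3, 22, 1, 0, (-9), (-5)],
    [3, 0, (-1), 3, 22, 1, 0, (-14), (-5)]], [[0, 0, (-4), 0, 0, 0, 0, (-4)], [0, 0, 4, 0, 0, 0, 0,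
    4], [0, 0, (-1), 0, 0, 0, 0, (-1)], [0, 0, 1, 0, 0, 0, 0, 1], [1, 26, (-73), 1, (-74), (-2), 0,
    (-14), (-3)], [1, 26, (-73), 1, (-74), (-2), 0, (-14), (-3)], [], [], [0, (-20), 61, (-6), 24,
    (-2), 0, 0, 1], [(-3), (-31), 63, (-6), 36, (-4), 0, (-12), 1], [(-36), (-552), 494, (-75), 631,
    (-23), 0, (-81), 65], [(-5), 103, (-59), 11, (-84), 0, 1, 42, (-4)], [2, 27, (-76), 2, (-77),
    (-2), 0, (-15), (-3)], [(-5), (-11), 62, (-4), 21, (-4), 0, 7, 2]], [[0, 0, (-1)], [0, 0, 1], [0,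
    0, (-3), 0, 0, 0, 0, (-1)], [0, 0, 3, 0, 0, 0, 0, 1], [(-17), (-56), (-63), (-3), 8, 0, 1, (-18),
    17], [8, 8, (-13), (-2), (-38), 0, 1, 9, (-4)], [3, 11, (-2), 0, (-12), 2, 0, 12], [3, 11, (-8),
    0, (-12), 2, 0, 10], [], [0, 3, (-22), 0, (-16), 0, 0, (-2), 1], [2, (-3), (-20), (-1), (-12), 0,
    0, (-5)], [3, 11, (-8), 0, (-12), 2, 0, 10], [0, 2, (-23), 0, (-16), 0, 0, (-2), 1], [(-1), 1,
    (-20), 0, (-16), 0, 0, (-1), 1]]]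

/-- The values, a part. -/
def formData4 : List (List (List ℤ)) :=
  [[[0, 1], [0, (-1)], [0, 0, (-3), 0, 0, 0, 0, (-1)], [0, 0, 3, 0, 0, 0, 0, 1], [(-17), (-16), 211,
    2, 174, 2, 2, 71, 8], [(-17), (-16), 211, 2, 174, 2, 2, 71, 8], [4, 9, 18, 0, 4, 2, 0, 13, (-1)],
    [4, 9, 12, 0, 4, 2, 0, 11, (-1)], [], [1, (-2), 25, 0, 16, 0, 0, 5, (-1)], [6, (-3), 5, 2, 26, 1,
    0, (-16), (-6)], [3, (-9), 4, (-1), 8, 0, 0, (-7), (-1)], [1, (-1), 20, 0, 16, 0, 0, 1, (-1)], [0,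
    (-2), 23, 0, 16, 0, 0, 2, (-1)]], [[], [], [0, 0, 4, 0, 2, 0, 0, 1], [0, 0, (-4), 0, (-2), 0, 0,
    (-1)], [0, 0, 0, 0, 1], [0, 0, 0, 0, 1], [], [], [], [], [], [], [1, 1, 26, 0, 14, 0, 0, 7, (-1)],
    [0, 3, 30, 0, 14, 0, 0, 10, (-1)]], [[0, (-2), (-2), 0, 0, 0, 0, (-2)], [0, 2, 2, 0, 0, 0, 0, 2],
    [0, 0, (-2), 0, 0, 0, 0, (-1)], [0, 0, 2, 0, 0, 0, 0, 1], [], [], [], [], [], [], [], [(-1), (-1),
    (-26), 0, (-14), 0, 0, (-7), 1], [0, (-3), (-30), 0, (-14), 0, 0, (-10), 1], [(-1), (-1), (-26),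
    0, (-14), 0, 0, (-7), 1]], [[0, 1, 2, 0, 0, 0, 0, 2], [0, (-1), (-2), 0, 0, 0, 0, (-2)], [0, 0, 1,
    0, 0, 0, 0, 1], [0, 0, (-1), 0, 0, 0, 0, (-1)], [26, 175, (-152), 17, (-186), 8, (-2), 32, (-23)],
    [17, 172, (-173), 21, (-214), 7, (-2), 33, (-18)], [1, (-4), (-11), (-1), (-12), 1, 0, 3, 2], [1,
    (-4), (-12), (-1), (-12), 1, 0, 3, 2], [], [], [33, 263, 268, 19, 72, 10, 2, 134, (-57)], [1,
    (-4), (-12), (-1), (-12), 1, 0, 3, 2], [0, (-1), 7, 0, 0, 0, 0, 5, 1], [(-1), (-2), 4, 0, 0, 0, 0,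
    2, 1]], [[], [], [0, 0, 4, 0, 2, 0, 0, 1], [0, 0, (-4), 0, (-2), 0, 0, (-1)], [0, 0, 0, 0, (-1)],
    [0, 0, 0, 0, (-1)], [7, (-25), (-4), (-5), (-3), 1, 0, (-2), 1], [0, (-5), 2, (-1), (-9), 1, 0, 9,
    2], [], [], [], [], [1, (-5), (-5), (-1), (-13), 1, 0, 6, 2], [0, (-5), (-9), (-1), (-15), 1, 0,
    5, 2]], [[0, 0, 16, 0, 8, 0, 0, 4], [0, 0, (-16), 0, (-8), 0, 0, (-4)], [0, 0, 4, 0, 2, 0, 0, 1],
    [0, 0, (-4), 0, (-2), 0, 0, (-1)], [0, 0, 0, 0, (-1)], [0, 0, 0, 0, (-1)], [0, 1, 5, 0, 5, 0, 0,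
    1, (-1)], [0, 1, 6, 0, 5, 0, 0, 1, (-1)], [], [], [0, 1, 5, 0, 5, 0, 0, 1, (-1)], [0, 1, 6, 0, 3,
    0, 0, 2, (-1)], [1, 1, 26, 0, 13, 0, 0, 7, (-1)], [0, 1, 6, 0, 3, 0, 0, 2, (-1)]], [[], [], [0, 0,
    0, 0, 0, 0, 0, (-1)], [0, 0, 0, 0, 0, 0, 0, 1], [], [], [], [], [], [], [(-1), (-1), (-26), 0,
    (-14), 0, 0, (-7), 1], [], [1, (-3), (-7), 0, (-2), 0, 0, (-5)], [0, (-3), (-7), 0, (-2), 0, 0,
    (-4)]], [[0, 1], [0, (-1)], [0, 0, (-3), 0, (-2), 0, 0, (-1)], [0, 0, 3, 0, 2, 0, 0, 1], [(-1),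
    (-26), 73, (-1), 74, 2, 0, 14, 3], [(-1), (-26), 73, (-1), 74, 2, 0, 14, 3], [(-1), 53, 79, 8, 46,
    6, 0, 68, (-1)], [0, (-6), 65, 0, 50, 3, 0, 22, 1], [2, 10, (-11), 0, (-12), 2, 0, 7], [(-2), 12,
    (-10), 1, (-12), 1, 0, 7, 1], [(-1), 2, (-25), 0, (-16), 0, 0, (-5), 1], [], [1, 1, (-3), 0, (-2),
    0, 0, (-1)], []], [[], [], [0, 0, 4, 0, 0, 0, 0, 1], [0, 0, (-4), 0, 0, 0, 0, (-1)], [0, 0, 0, 0,
    1], [0, 0, 0, 0, 1], [], [], [], [0, 1, 6, 0, 6, 0, 0, 1, (-1)], [0, (-5), 2, (-1), (-9), 1, 0, 9,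
    2], [], [0, (-23), (-24), (-2), (-9), 2, 0, 3, 6], [(-1), (-24), (-21), (-2), (-9), 2, 0, 4, 6]],
    [[0, (-2), (-2), 0, 0, 0, 0, (-2)], [0, 2, 2, 0, 0, 0, 0, 2], [0, 0, (-2), 0, 0, 0, 0, (-1)], [0,
    0, 2, 0, 0, 0, 0, 1], [], [], [], [], [], [], [], [], [(-1), (-1), (-26), 0, (-14), 0, 0, (-7),
    1], [(-2), 1, (-22), 0, (-14), 0, 0, (-4), 1]], [[], [], [0, 0, (-4), 0, 0, 0, 0, (-1)], [0, 0, 4,
    0, 0, 0, 0, 1], [0, 0, 0, 0, (-1)], [0, 0, 0, 0, 1], [], [], [], [], [], [], [], [(-1), (-1), 3,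
    0, 0, 0, 0, 1]], [[0, 1], [0, (-1)], [0, 0, (-3), 0, 0, 0, 0, (-1)], [0, 0, 3, 0, 0, 0, 0, 1],
    [(-11), (-112), 325, (-15), 260, (-3), 1, 21, 7], [(-11), (-112), 325, (-15), 260, (-3), 1, 21,
    7], [(-61), (-436), 273, (-47), 411, (-16), 3, (-81), 69], [0, (-23), (-24), (-2), (-9), 2, 0, 3,
    6], [0, (-3), 22, 0, 16, 0, 0, 2, (-1)], [], [], [1, (-5), (-5), (-1), (-13), 1, 0, 6, 2], [1, 1,
    (-3), 0, 0, 0, 0, (-1)], []]]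

/-- The values. -/
def formData : List (List (List (List ℤ))) :=
  [formData0, formData1, formData2, formData3, formData4]

/-- The words of the cosets, a part. -/
def repData0 : List (List ℕ) :=
  [[], [12], [12, 4], [12, 4, 12], [12, 4, 6, 12], [12, 8], [12, 8, 8], [12, 9], [12, 9, 9], [12, 8,
    11], [12, 9, 11], [12, 4, 9, 9], [12, 4, 8, 11], [12, 4, 9, 11], [12, 4, 9, 11, 12], [12, 4, 9, 6,
    10, 9], [12, 4, 9, 6, 10], [12, 4, 9], [12, 4, 6, 8, 6, 9], [12, 4, 6, 8, 6], [12, 4, 6, 8], [12,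
    4, 6], [12, 4, 9, 9, 12], [12, 4, 9, 6, 8, 11], [12, 4, 9, 6, 12, 4], [12, 4, 9, 6, 12], [12, 4,
    9, 6, 11, 8]]

/-- The words of the cosets, a part. -/
def repData1 : List (List ℕ) :=
  [[12, 4, 9, 6, 11], [12, 4, 9, 6, 11, 12], [12, 4, 9, 12, 9], [12, 4, 9, 12], [12, 4, 9, 6, 8],
    [12, 4, 9, 6], [12, 4, 8], [12, 4, 8, 8], [12, 4, 8, 6], [12, 4, 8, 6, 9], [12, 4, 8, 6, 10], [12,
    4, 8, 6, 10, 9], [12, 4, 6, 9, 12, 4], [12, 4, 6, 9, 12], [12, 4, 6, 9, 9], [12, 4, 6, 9], [12, 4,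
    6, 8, 6, 4], [12, 4, 6, 9, 6], [12, 4, 6, 9, 6, 8], [12, 4, 6, 9, 6, 9], [12, 4, 8, 6, 11], [12,
    4, 8, 6, 8, 11], [12, 4, 12, 8], [12, 4, 6, 12, 8, 6], [12, 4, 8, 12, 9, 9], [12, 4, 8, 6, 8, 6],
    [12, 4, 9, 6, 8, 8]]

/-- The words of the cosets, a part. -/
def repData2 : List (List ℕ) :=
  [[12, 4, 6, 8, 12, 4, 9], [12, 4, 6, 8, 12, 4], [12, 4, 8, 12, 8, 8], [12, 4, 8, 12, 8], [12, 4,
    12, 9], [12, 4, 6, 9, 12, 8], [12, 4, 8, 6, 8, 8], [12, 4, 6, 9, 6, 9, 11], [12, 4, 6, 9, 6, 9,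
    6], [12, 4, 6, 9, 6, 4], [12, 4, 6, 12, 9], [12, 4, 6, 12, 9, 11], [12, 4, 6, 8, 12, 8, 10], [12,
    4, 8, 6, 8, 12], [12, 4, 8, 6, 11, 12], [12, 4, 8, 11, 12], [12, 4, 8, 11, 12, 4], [12, 4, 8, 6,
    9, 10], [12, 4, 12, 8, 8], [12, 4, 12, 9, 11], [12, 4, 12, 8, 11], [12, 4, 12, 9, 9], [12, 4, 6,
    12, 9, 6], [12, 4, 8, 6, 9, 12], [12, 4, 6, 8, 12, 8], [12, 4, 6, 8, 12], [12, 4, 6, 12, 9, 9]]

/-- The words of the cosets, a part. -/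
def repData3 : List (List ℕ) :=
  [[12, 4, 6, 8, 12, 8, 11], [12, 4, 6, 8, 8, 12, 9], [12, 4, 8, 8, 12, 9], [12, 4, 12, 9, 6, 8],
    [12, 4, 12, 9, 6], [12, 4, 8, 12], [12, 4, 8, 11, 12, 9], [12, 4, 8, 12, 9, 10], [12, 4, 6, 8, 12,
    4, 6], [12, 4, 8, 6, 12, 8], [12, 4, 8, 12, 4, 9], [12, 4, 12, 8, 6], [12, 4, 8, 12, 9], [12, 4,
    8, 12, 4], [12, 4, 8, 12, 8, 10], [12, 4, 8, 8, 12, 8], [12, 4, 8, 6, 12, 4], [12, 4, 8, 8, 12],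
    [12, 4, 8, 6, 10, 12], [12, 4, 6, 12, 8], [12, 4, 6, 12, 8, 8], [12, 4, 6, 12, 8, 11], [12, 4, 8,
    6, 12], [12, 4, 8, 6, 8], [12, 4, 6, 12, 9, 6, 10], [12, 4, 8, 12, 4, 6], [12, 4, 8, 6, 12, 9]]

/-- The words of the cosets, a part. -/
def repData4 : List (List ℕ) :=
  [[12, 4, 6, 8, 12, 9], [12, 4, 6, 9, 11], [12, 4, 6, 9, 6, 11], [12, 4, 8, 11, 12, 8], [12, 4, 6,
    8, 11], [12, 4, 9, 6, 10, 8], [12, 4, 8, 6, 11, 9], [12, 4, 8, 6, 8, 11, 12], [12, 4, 6, 8, 6,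
    10], [12, 4, 8, 6, 8, 10], [12, 4, 6, 8, 8], [12, 4, 6, 8, 8, 12]]

/-- The words of the cosets. -/
def repData : List (List (List ℕ)) :=
  [repData0, repData1, repData2, repData3, repData4]

/-- The relators. -/
def rels : List (List ℕ × List ℤ) :=
  [([0, 0], []), ([2, 2], []), ([4, 4], []), ([6, 6], []), ([0, 6, 0, 6], []), ([0, 5, 3, 5, 3, 5,
    3, 5, 3], []), ([2, 6, 2, 6], []), ([4, 6, 4, 6, 4, 6], []), ([8, 8, 8, 8, 8, 8, 8], []), ([9, 1,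
    8, 0], []), ([9, 3, 8, 2], []), ([8, 4, 8, 4], []), ([7, 9, 6, 8, 9, 9, 9, 7, 8, 8, 8], []), ([10,
    10, 10], []), ([11, 1, 10, 0], []), ([11, 3, 10, 2], []), ([11, 5, 10, 4], []), ([11, 7, 10, 6],
    []), ([11, 8, 10, 9, 9], []), ([13, 10, 12, 10], []), ([13, 7, 12, 6], []), ([12, 12, 3, 1], [1]),
    ([13, 1, 12, 0], [0, 1]), ([13, 3, 12, 2], [0, 0, 1]), ([4, 6, 13, 4, 12, 4, 6, 13, 4, 12], [0, 0,
    0, 1]), ([7, 9, 9, 13, 8, 8, 6, 9, 9, 12, 8, 8], [0, 0, 0, 0, 1]), ([0, 2, 9, 13, 9, 13, 9, 13],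
    [(-1)]), ([0, 2, 9, 13, 8, 12, 9, 13, 8, 12, 9, 13, 8, 12, 9, 13, 8, 12], [0, 0, 0, 0, 0, 1]),
    ([4, 9, 9, 12, 8, 8, 4, 9, 9, 12, 8, 8, 4, 9, 9, 12, 8, 8, 4, 9, 9, 12, 8, 8, 9, 9, 7, 5, 3, 4, 6,
    8, 8, 8, 7, 5, 3, 4, 6, 9, 5, 3, 4, 3, 1], [0, 0, 0, 0, 0, 0, 1]), ([12, 4, 2, 5, 13, 8, 7, 9, 9,
    5, 3, 5, 7, 9, 5, 3, 5, 7, 8, 5, 3, 5, 7, 8, 7, 3], [0, 0, 0, 0, 0, 0, 0, 1]), ([12, 4, 9, 11, 12,
    4, 8, 7, 9, 7, 5, 13, 9, 7, 9, 11, 3, 5, 7, 8, 3, 5, 7, 8, 3, 5, 7, 9, 3, 5, 7, 5, 1], [0, 0, 0,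
    0, 0, 0, 0, 0, 1])]

/-- The words of the subgroup. -/
def subs : List (List ℕ × List ℤ) :=
  [([0], []), ([2], []), ([4], []), ([6], []), ([8], []), ([10], [])]

/-- The global words of the letters. -/
def subData : List (List ℕ) :=
  [[0], [1], [4], [5], [6], [7], [8], [9], [10], [11], [12], [13], [14], [15]]

/-- Deductions. -/
def steps0 : List (ℕ × ℕ × ℕ) :=
  [(117, 13, 0), (115, 19, 3), (106, 3, 0), (104, 3, 1), (103, 20, 3), (103, 3, 0), (86, 20, 1),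
    (33, 17, 1), (69, 20, 3), (69, 3, 0), (68, 20, 1), (103, 19, 3), (103, 2, 1), (100, 3, 1), (94, 2,
    0), (91, 11, 3), (91, 2, 0), (92, 3, 0), (89, 3, 0), (85, 3, 0), (81, 13, 2), (79, 2, 1), (79, 11,
    1), (78, 2, 1), (76, 3, 0), (71, 18, 4), (70, 2, 0), (69, 19, 3), (88, 18, 4), (70, 16, 0), (69,
    18, 3), (69, 17, 2), (103, 13, 1), (99, 19, 1), (64, 18, 1), (63, 2, 0), (62, 3, 0), (58, 18, 1),
    (44, 17, 1), (110, 3, 0), (42, 17, 3), (43, 2, 0), (42, 18, 1), (40, 2, 1), (32, 18, 2), (32, 17,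
    1), (28, 20, 3), (28, 3, 0), (14, 20, 1), (17, 17, 3), (52, 12, 10), (30, 20, 3), (30, 3, 0), (32,
    13, 1), (28, 19, 3), (28, 17, 2), (25, 2, 1), (21, 3, 0), (3, 20, 3), (4, 3, 1), (20, 3, 1), (17,
    18, 1), (7, 18, 1), (7, 11, 3), (33, 2, 1), (33, 16, 1), (12, 2, 0), (13, 11, 3), (17, 16, 3),
    (17, 11, 1), (17, 2, 0), (11, 11, 3), (11, 2, 0), (5, 16, 1), (33, 11, 1), (34, 2, 1), (0, 36, 0),
    (1, 19, 3), (8, 18, 0), (34, 16, 0), (86, 19, 3), (103, 17, 1), (99, 20, 1), (47, 17, 2), (98, 19,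
    3), (98, 17, 3), (98, 20, 1), (34, 12, 2), (53, 3, 0), (34, 18, 4), (34, 11, 2), (10, 18, 0), (5,
    18, 3), (12, 11, 0), (33, 18, 2), (27, 17, 1), (16, 17, 2), (30, 19, 3), (30, 13, 1), (11, 18, 2),
    (21, 17, 0), (41, 18, 0), (109, 13, 2), (109, 18, 3), (118, 8, 0), (112, 18, 0), (118, 18, 0),
    (118, 17, 3), (118, 3, 0), (13, 12, 1), (79, 19, 3), (109, 12, 1), (47, 18, 4), (45, 12, 0), (45,
    3, 0), (35, 18, 2), (61, 13, 2), (37, 18, 3), (62, 12, 10), (117, 18, 3), (117, 8, 2), (46, 18,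
    2), (71, 13, 1), (36, 18, 1), (45, 17, 1), (71, 3, 0), (114, 18, 0), (114, 17, 3), (114, 3, 0),
    (4, 19, 3), (80, 18, 0), (105, 17, 3), (105, 3, 0), (80, 13, 0), (65, 18, 3), (102, 8, 5), (102,
    18, 0), (102, 13, 1), (4, 17, 2), (75, 18, 0), (75, 13, 0), (73, 18, 3), (75, 8, 4), (74, 18, 0),
    (74, 13, 1), (11, 17, 3), (19, 12, 9), (33, 12, 2), (36, 3, 1), (71, 17, 2), (31, 13, 0), (11, 12,
    2), (117, 17, 2), (15, 17, 3), (11, 16, 2), (9, 13, 2), (86, 18, 2), (51, 18, 0), (0, 35, 0), (0,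
    34, 0), (6, 25, 0), (16, 7, 0), (27, 16, 3), (116, 11, 3), (116, 16, 2), (116, 18, 1), (18, 18,
    2), (26, 16, 3), (32, 16, 3), (32, 7, 3), (6, 12, 7), (35, 7, 0), (37, 16, 3), (47, 16, 3), (114,
    11, 3), (114, 16, 1), (62, 2, 0), (117, 11, 3), (117, 16, 1), (104, 16, 1), (48, 11, 0), (114, 8,
    6), (63, 18, 0), (63, 17, 3), (63, 7, 2), (118, 16, 3), (118, 11, 1), (112, 2, 0), (109, 16, 1),
    (41, 16, 1), (44, 7, 1), (42, 11, 1), (21, 7, 3), (10, 12, 0), (10, 17, 1), (8, 12, 2), (63, 16,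
    1), (110, 2, 1), (110, 11, 1), (71, 16, 1), (36, 16, 1), (63, 11, 1), (16, 11, 1), (113, 2, 1),
    (0, 33, 0), (0, 32, 0), (1, 23, 3), (5, 10, 3), (6, 15, 3), (10, 10, 3), (10, 15, 1), (8, 15, 1),
    (8, 10, 1), (0, 29, 2), (33, 10, 3), (86, 23, 3), (103, 6, 0), (103, 23, 1), (104, 10, 3), (117,
    15, 3), (117, 10, 1), (110, 10, 1), (99, 23, 3), (99, 15, 1), (69, 6, 0), (111, 10, 3), (95, 10,
    3), (95, 15, 1), (56, 10, 3), (56, 15, 1), (96, 10, 1), (98, 23, 1), (34, 5, 0), (98, 22, 3), (99,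
    4, 0), (103, 14, 3), (103, 22, 1), (104, 9, 3), (117, 14, 3), (117, 9, 1), (110, 9, 1), (47, 14,
    3), (68, 22, 3), (69, 4, 0), (111, 9, 3), (95, 9, 3), (95, 14, 1), (57, 9, 1), (86, 22, 1), (33,
    21, 1), (86, 26, 3), (96, 26, 0), (96, 21, 1), (96, 23, 1), (93, 21, 3), (93, 9, 1), (51, 14, 1),
    (88, 14, 3), (87, 9, 3), (93, 10, 1), (51, 15, 1), (88, 15, 3), (87, 10, 3), (56, 14, 3), (35, 20,
    0), (37, 19, 0), (47, 19, 0), (47, 23, 3), (47, 10, 1), (114, 15, 1), (62, 6, 2), (114, 5, 0),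
    (114, 14, 1), (62, 4, 2), (60, 14, 3), (61, 14, 3), (71, 9, 3), (71, 14, 1), (77, 22, 3), (36, 14,
    1), (48, 9, 3), (115, 22, 3), (115, 14, 1), (63, 9, 3), (63, 14, 1), (53, 4, 0), (53, 14, 1), (26,
    14, 1), (43, 9, 1), (116, 14, 3), (118, 4, 0), (119, 22, 3), (119, 9, 1), (79, 14, 3), (79, 22,
    1), (20, 14, 1), (112, 9, 1), (109, 14, 1), (42, 9, 3), (44, 4, 0)]

/-- Deductions. -/
def steps1 : List (ℕ × ℕ × ℕ) :=
  [(40, 22, 3), (59, 9, 3), (21, 9, 3), (21, 4, 2), (3, 22, 3), (49, 9, 3), (92, 4, 0), (72, 14, 3),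
    (74, 14, 3), (75, 9, 3), (75, 14, 1), (85, 4, 0), (84, 9, 3), (58, 14, 1), (4, 4, 0), (100, 9, 3),
    (101, 14, 3), (102, 14, 3), (102, 9, 1), (65, 14, 1), (105, 4, 0), (105, 14, 1), (76, 4, 2), (100,
    4, 2), (2, 21, 1), (57, 26, 7), (58, 23, 3), (85, 6, 0), (84, 10, 3), (75, 15, 3), (75, 10, 1),
    (74, 15, 1), (73, 10, 3), (72, 15, 1), (92, 6, 0), (49, 10, 1), (4, 6, 0), (100, 10, 3), (101, 15,
    3), (102, 15, 3), (102, 10, 1), (65, 15, 1), (105, 6, 0), (105, 15, 1), (76, 6, 2), (100, 6, 2),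
    (4, 23, 1), (21, 21, 1), (4, 26, 3), (80, 19, 0), (80, 23, 1), (81, 15, 1), (66, 15, 1), (78, 26,
    0), (78, 21, 1), (78, 19, 2), (81, 22, 3), (81, 14, 1), (81, 19, 2), (66, 21, 0), (78, 10, 1),
    (79, 23, 1), (118, 15, 3), (119, 23, 3), (119, 21, 0), (118, 19, 2), (119, 10, 1), (118, 6, 2),
    (116, 15, 1), (43, 10, 3), (63, 6, 0), (63, 15, 1), (53, 6, 0), (53, 15, 1), (26, 10, 1), (32, 15,
    3), (32, 6, 2), (30, 23, 3), (30, 15, 1), (22, 23, 1), (16, 6, 0), (113, 10, 3), (18, 10, 3), (36,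
    6, 0), (77, 23, 3), (77, 21, 0), (71, 15, 3), (71, 10, 1), (61, 15, 1), (71, 6, 2), (31, 15, 3),
    (45, 6, 0), (48, 10, 3), (115, 23, 3), (115, 21, 0), (104, 19, 0), (104, 23, 1), (45, 10, 1), (44,
    6, 2), (42, 29, 2), (42, 21, 1), (42, 23, 1), (59, 10, 3), (39, 5, 0), (42, 15, 1), (112, 10, 3),
    (41, 10, 3), (32, 29, 2), (16, 10, 1), (113, 5, 0), (113, 9, 1), (27, 14, 3), (32, 14, 3), (32,
    21, 1), (32, 23, 1), (28, 15, 3), (28, 6, 2), (14, 23, 1), (13, 5, 0), (17, 14, 3), (30, 22, 3),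
    (30, 21, 0), (49, 26, 7), (49, 21, 1), (49, 23, 1), (29, 21, 3), (17, 19, 2), (27, 20, 0), (28,
    21, 3), (28, 14, 1), (28, 4, 2), (22, 14, 3), (22, 22, 1), (11, 21, 1), (11, 9, 1), (12, 10, 3),
    (12, 21, 1), (12, 19, 2), (10, 5, 0), (10, 14, 1), (8, 14, 1), (1, 9, 3), (5, 9, 3), (6, 14, 3),
    (9, 14, 3), (1, 22, 1), (0, 30, 5), (52, 7, 0), (113, 16, 0), (113, 19, 0), (113, 21, 0), (36, 25,
    11), (104, 12, 7), (61, 17, 2), (114, 13, 1), (110, 18, 0), (110, 19, 0), (119, 26, 3), (117, 21,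
    1), (117, 19, 1), (115, 13, 0), (67, 18, 4), (108, 10, 3), (108, 9, 3), (108, 26, 7), (108, 21,
    1), (118, 26, 6), (107, 10, 3), (107, 26, 0), (110, 21, 0), (109, 19, 2), (59, 26, 7), (62, 20,
    0), (114, 19, 0), (114, 21, 0), (61, 19, 0), (114, 24, 8), (114, 7, 3), (59, 20, 0), (68, 26, 2),
    (62, 24, 5), (114, 29, 19), (104, 7, 2), (113, 11, 2), (113, 8, 3), (111, 26, 7), (111, 21, 1),
    (28, 12, 10), (53, 18, 1), (27, 18, 2), (30, 17, 1), (113, 6, 3), (117, 7, 2), (30, 16, 3), (48,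
    7, 5), (118, 12, 1), (116, 9, 1), (48, 4, 1), (52, 17, 0), (52, 15, 3), (52, 5, 0), (15, 14, 3),
    (15, 26, 7), (83, 21, 0), (117, 20, 1), (83, 6, 3), (51, 17, 3), (78, 12, 0), (90, 25, 0), (90,
    20, 0), (90, 23, 3), (90, 22, 3), (90, 21, 0), (90, 26, 6), (76, 18, 0), (108, 19, 3), (108, 18,
    1), (103, 18, 1), (114, 27, 3), (101, 21, 1), (115, 26, 2), (99, 18, 1), (108, 8, 2), (110, 25,
    9), (102, 21, 1), (66, 18, 3), (82, 18, 2), (107, 17, 3), (108, 20, 3), (108, 6, 1), (66, 20, 1),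
    (86, 12, 8), (67, 12, 0), (104, 20, 2), (52, 21, 0), (51, 26, 3), (111, 19, 3), (111, 17, 3),
    (111, 6, 1), (73, 12, 0), (95, 6, 3), (95, 25, 5), (53, 8, 2), (113, 18, 2), (116, 13, 0), (112,
    17, 3), (112, 20, 0), (112, 21, 0), (119, 19, 3), (119, 18, 1), (99, 27, 5), (44, 20, 1), (116, 7,
    1), (100, 20, 0), (114, 26, 6), (104, 18, 2), (63, 13, 1), (53, 17, 1), (118, 7, 1), (46, 25, 7),
    (100, 26, 7), (39, 20, 2), (60, 18, 2), (44, 29, 11), (113, 29, 23), (114, 30, 11), (52, 24, 8),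
    (99, 24, 5), (98, 16, 2), (94, 13, 2), (105, 18, 4), (115, 18, 2), (108, 13, 1), (105, 19, 0),
    (105, 23, 1), (94, 10, 3), (106, 6, 0), (94, 5, 0), (106, 4, 0), (94, 9, 1), (91, 21, 1), (105,
    27, 13), (106, 20, 0), (106, 22, 1), (31, 26, 6), (106, 8, 6), (111, 12, 7), (88, 6, 3), (88, 17,
    1), (96, 20, 3), (93, 12, 6), (106, 25, 9), (95, 19, 0), (95, 27, 15), (118, 20, 1), (119, 20, 2),
    (96, 27, 9), (95, 26, 5), (74, 21, 1), (79, 20, 3)]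

/-- Deductions. -/
def steps2 : List (ℕ × ℕ × ℕ) :=
  [(92, 17, 0), (52, 30, 1), (103, 16, 2), (115, 17, 3), (117, 25, 5), (116, 26, 3), (45, 24, 9),
    (45, 20, 2), (31, 24, 8), (115, 2, 1), (117, 28, 12), (110, 24, 2), (93, 26, 6), (105, 12, 2),
    (102, 3, 1), (102, 20, 2), (106, 26, 3), (119, 24, 0), (119, 2, 1), (119, 16, 1), (112, 24, 5),
    (112, 29, 24), (109, 24, 3), (93, 7, 4), (96, 2, 0), (105, 16, 3), (119, 7, 4), (102, 11, 3),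
    (102, 24, 0), (102, 7, 2), (111, 11, 3), (111, 16, 1), (111, 29, 21), (81, 16, 3), (81, 11, 0),
    (119, 27, 9), (119, 25, 10), (119, 12, 7), (105, 29, 10), (115, 6, 1), (115, 4, 2), (97, 21, 1),
    (97, 24, 4), (116, 30, 1), (72, 24, 5), (108, 7, 0), (108, 2, 1), (108, 16, 2), (104, 30, 1),
    (106, 16, 0), (115, 16, 1), (84, 24, 9), (113, 27, 7), (85, 21, 0), (111, 27, 12), (104, 28, 15),
    (93, 19, 3), (96, 17, 0), (96, 19, 2), (89, 24, 0), (107, 16, 2), (118, 30, 2), (119, 11, 1),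
    (107, 24, 6), (111, 7, 4), (118, 28, 13), (108, 30, 20), (106, 30, 13), (119, 29, 11), (116, 24,
    6), (56, 30, 15), (111, 13, 1), (50, 14, 1), (55, 9, 3), (89, 4, 0), (55, 28, 43), (89, 6, 0),
    (89, 21, 0), (108, 24, 5), (111, 24, 6), (107, 7, 4), (115, 29, 11), (108, 28, 28), (96, 29, 11),
    (101, 24, 1), (85, 29, 6), (111, 30, 21), (107, 29, 16), (83, 16, 0), (85, 18, 3), (101, 30, 8),
    (116, 27, 9), (118, 25, 2), (111, 25, 9), (97, 27, 7), (84, 29, 24), (119, 30, 7), (90, 30, 31),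
    (107, 30, 3), (55, 18, 2), (106, 13, 0), (87, 16, 3), (101, 29, 9), (108, 29, 21), (98, 24, 7),
    (9, 19, 2), (10, 21, 1), (98, 30, 11), (71, 22, 1), (87, 4, 1), (70, 28, 12), (98, 29, 14), (5,
    30, 0), (69, 30, 10), (61, 29, 14), (113, 30, 17), (23, 28, 44), (23, 14, 1), (18, 30, 15), (5,
    26, 5), (67, 30, 15)]

/-- The deductions. -/
def steps : List (ℕ × ℕ × ℕ) :=
  steps0 ++ steps1 ++ steps2

/-- Tree edges. -/
def tree0 : List (ℕ × ℕ) :=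
  [(0, 12), (1, 4), (1, 8), (1, 9), (2, 6), (2, 8), (2, 9), (2, 12), (5, 8), (5, 11), (7, 9), (7,
    11), (21, 8), (21, 9), (21, 12), (33, 6), (33, 8), (33, 11), (33, 12), (17, 6), (17, 9), (17, 11),
    (17, 12), (3, 8), (3, 9), (20, 6), (20, 8), (20, 11), (20, 12), (42, 6), (42, 9), (42, 11), (42,
    12), (4, 8), (4, 9), (35, 8), (35, 9), (35, 10), (35, 11), (35, 12), (34, 12), (12, 12), (86, 4),
    (86, 8), (86, 9), (32, 8), (32, 10), (32, 11), (32, 12), (11, 12), (13, 12), (30, 9), (49, 6),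
    (49, 8), (49, 11), (58, 6), (58, 9), (58, 11), (19, 4), (19, 9), (19, 10), (118, 12), (79, 4),
    (79, 8), (79, 9), (44, 4), (44, 8), (44, 9), (44, 11), (40, 4), (40, 8), (100, 6), (100, 8), (100,
    11), (64, 6), (64, 9), (64, 11), (104, 6), (104, 8), (104, 10), (104, 11), (104, 12), (36, 10),
    (36, 12), (37, 9), (37, 12), (47, 9), (47, 12), (103, 4), (103, 8), (103, 9), (98, 8), (98, 9),
    (69, 4), (69, 8), (69, 9), (94, 6), (94, 9), (57, 8), (57, 10), (93, 9), (93, 10), (31, 8), (31,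
    11), (16, 8), (16, 9), (27, 8), (27, 12), (25, 4), (85, 8), (119, 9), (55, 6), (55, 9), (78, 10),
    (78, 11), (46, 6), (46, 11), (76, 10), (48, 12)]

/-- The tree. -/
def tree : List (ℕ × ℕ) :=
  tree0

/-- The combinations. -/
def combs : List (List (ℕ × ℕ × ℤ)) :=
  [[(3, 2, 46836918226167486276779115590415338756420309), (18, 0,
    6840527812144760195692761963062959790042587), (0, 31,
    234958878127423255350321249640183331682997571), (22, 3,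
    (-2579033842577891758569575661991077119361507034)), (26, 3,
    (-79120218943431427461544990996571810326301940)), (14, 2,
    (-601415512490398984014126281423230654623278628)), (22, 2,
    (-13445791498403827724663879445260157600891918)), (1, 3,
    (-1157803258102422358903764083592621253486429350)), (49, 2, (-579459681720442488)), (30, 2,
    935247926296794175308), (29, 2, (-4834826688296481574970426536385362169087190)), (29, 3,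
    80744732622806685052642850526083277536613240)], [(0, 31,
    (-1166938285036653132060716988259567321)), (22, 3, 12808936411745966375111591449075765012), (26,
    3, 392955624156073391585141313153942396), (3, 2, (-232618547836293445730028713603145240)), (18, 0,
    (-33973918574469308208034176167041356)), (14, 2, 2986968580771724537188159374758291882), (22, 2,
    66779382831401361149009514933124248), (1, 3, 5750303879503407306807380308137608636), (49, 2,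
    2877923544), (30, 2, (-4644968600016)), (29, 2, 24012475753439669950258094412479112), (29, 3,
    (-401023875171473046625406661583655328))], [(22, 3, (-1))], [(30, 2, 2886602769074352677), (3, 2,
    144560147149323349305431787166728190235464), (18, 0, 21112996852773532561091422651062193218796),
    (0, 31, 725190539482672958310303336739078199792467), (14, 2,
    (-1856243285770338560838171421489358086475201)), (22, 2,
    (-41499861031899216157304360173513433196768)), (26, 3,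
    (-244201175613620902517669942051940124305250)), (1, 3,
    (-3573510292736177421056431974966437397559359)), (49, 2, (-1788477552090677)), (29, 2,
    (-14922486021104845499752514417420907593492)), (22, 3,
    (-7960077774242833017888463333917932132847876)), (29, 3,
    249215167682923454547308442521459953109328)], [(26, 3, (-98238906039018347896285328288485599)),
    (3, 2, 58154636959073361432507178400786310), (18, 0, 8493479643617327052008544041760339), (0, 31,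
    291734571259163283015179247064891830), (14, 2, (-746742145192931134297039843689572970)), (22, 2,
    (-16694845707850340287252378733281062)), (1, 3, (-1437575969875851826701845077034402159)), (49, 2,
    (-719480886)), (30, 2, 1161242150004), (29, 2, (-6003118938359917487564523603119778)), (22, 3,
    (-3202234102936491593777897862268941252)), (29, 3, 100255968792868261656351665395913832)], [(22,
    2, 30095608242582126570303818676), (3, 2, (-104834701801818470793902093729)), (18, 0,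
    (-15311099032826388644958499102)), (0, 31, (-525906589439451457603680440692)), (14, 2,
    1346143561505582069324438685544), (1, 3, 2591501830291819342692437909310), (26, 3,
    177094157206848712894760704281), (49, 2, 1297), (30, 2, (-2093358)), (29, 2,
    10821754148800018269521042184), (22, 3, 5772630951461620339876455111539), (29, 3,
    (-180730293263621370711838611936))], [(49, 2, (-1)), (3, 2, 80828605861078234999191456), (18, 0,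
    11805010819449798492648950), (0, 31, 405479251688089018969874581), (14, 2,
    (-1037890178493124186064048313)), (30, 2, 1614), (22, 2, (-23204015607233713623992251)), (26, 3,
    (-136541370244293533457859563)), (1, 3, (-1998073886115512214875601069)), (29, 2,
    (-8343680916576729583289224)), (22, 3, (-4450756323409113600523643257)), (29, 3,
    139344867589530740718522336)], [(22, 3, 1), (14, 2, (-1))], [(29, 3, 14412), (3, 2, 8360), (18, 0,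
    1221), (0, 31, 41934), (14, 2, (-107339)), (22, 2, (-2400)), (26, 3, (-14122)), (1, 3, (-206650)),
    (29, 2, (-863)), (22, 3, (-460321))]]

/-- The certificate. -/
def lin : Lin where
  n := 120
  ng := 14
  tbl i g := ((tblData.getD (i / 27) []).getD (i % 27) []).getD g 120
  form i g := ((formData.getD (i / 27) []).getD (i % 27) []).getD g []
  rep i := (repData.getD (i / 27) []).getD (i % 27) []
  rels := rels
  subs := subs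

end CfsgLib.ThMult.C
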