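import Cfsg.Agent.Lib.ThMult.Lin

/-!
# A coset certificate for G2(3):2 (generated)
-/

set_option autoImplicit false
set_option maxRecDepth 100000
set_option linter.style.longLine false

namespace CfsgLib.ThMult.G

/-- The table, a part. -/
def tblData0 : List (List ℕ) :=
  [[0, 0, 0, 0, 0, 0, 0, 0, 0, 0, 1, 1], [1, 1, 5, 5, 1, 1, 2, 2, 1, 1, 0, 0], [2, 2, 7, 7, 2, 2, 1,
    1, 17, 17, 3, 3], [3, 3, 16, 16, 3, 3, 4, 4, 4, 4, 2, 2], [4, 4, 36, 36, 4, 4, 3, 3, 3, 3, 17,
    17], [6, 6, 1, 1, 6, 6, 7, 7, 5, 5, 108, 108], [5, 5, 6, 6, 5, 5, 18, 18, 6, 6, 109, 109], [18,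
    18, 2, 2, 8, 8, 5, 5, 35, 35, 160, 122], [9, 9, 8, 8, 7, 7, 33, 33, 34, 34, 145, 161], [8, 8, 10,
    10, 18, 18, 49, 49, 20, 20, 122, 160], [10, 10, 9, 9, 10, 10, 11, 11, 42, 42, 39, 39], [11, 11,
    49, 49, 50, 50, 10, 10, 213, 213, 12, 74], [12, 12, 73, 73, 74, 74, 13, 13, 234, 234, 50, 11],
    [13, 13, 14, 14, 13, 13, 12, 12, 39, 39, 42, 42], [15, 15, 13, 13, 53, 53, 73, 73, 38, 38, 273,
    274], [14, 14, 15, 15, 16, 16, 54, 54, 37, 37, 276, 275], [53, 53, 3, 3, 15, 15, 36, 36, 36, 36,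
    274, 273], [17, 17, 35, 35, 17, 17, 17, 17, 2, 2, 4, 4], [7, 7, 18, 18, 9, 9, 6, 6, 19, 19, 161,
    145], [35, 35, 19, 19, 20, 20, 19, 19, 18, 18, 188, 137], [34, 34, 42, 42, 19, 19, 21, 21, 9, 9,
    110, 176], [43, 43, 41, 41, 45, 45, 20, 20, 22, 22, 388, 380], [31, 31, 23, 23, 46, 46, 120, 120,
    21, 21, 258, 373], [23, 23, 22, 22, 24, 24, 213, 213, 41, 41, 251, 244], [24, 24, 48, 48, 23, 23,
    24, 24, 25, 25, 244, 251], [25, 25, 26, 26, 41, 41, 214, 214, 24, 24, 40, 76], [170, 170, 25, 25,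
    27, 27, 168, 168, 48, 48, 167, 198]]

/-- The table, a part. -/
def tblData1 : List (List ℕ) :=
  [[171, 171, 45, 45, 26, 26, 28, 28, 47, 47, 220, 358], [172, 172, 44, 44, 28, 28, 27, 27, 29, 29,
    247, 69], [143, 143, 30, 30, 29, 29, 107, 107, 28, 28, 117, 70], [46, 46, 29, 29, 31, 31, 98, 98,
    44, 44, 373, 258], [22, 22, 31, 31, 30, 30, 32, 32, 43, 43, 419, 418], [120, 120, 32, 32, 32, 32,
    31, 31, 33, 33, 95, 189], [49, 49, 33, 33, 33, 33, 8, 8, 32, 32, 94, 202], [20, 20, 34, 34, 35,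
    35, 43, 43, 8, 8, 137, 188], [19, 19, 17, 17, 34, 34, 35, 35, 7, 7, 176, 110], [52, 52, 4, 4, 37,
    37, 16, 16, 16, 16, 277, 293], [38, 38, 37, 37, 36, 36, 72, 72, 15, 15, 314, 306], [37, 37, 39,
    39, 52, 52, 97, 97, 14, 14, 293, 277], [39, 39, 38, 38, 39, 39, 40, 40, 13, 13, 10, 10], [40, 40,
    97, 97, 76, 76, 39, 39, 244, 244, 41, 25], [41, 41, 21, 21, 25, 25, 42, 42, 23, 23, 76, 40], [42,
    42, 20, 20, 42, 42, 41, 41, 10, 10, 13, 13], [21, 21, 43, 43, 44, 44, 34, 34, 31, 31, 390, 389],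
    [45, 45, 28, 28, 43, 43, 45, 45, 30, 30, 380, 388], [44, 44, 27, 27, 21, 21, 44, 44, 46, 46, 389,
    390], [30, 30, 47, 47, 22, 22, 99, 99, 45, 45, 418, 419], [119, 119, 46, 46, 48, 48, 100, 100, 27,
    27, 397, 451], [215, 215, 24, 24, 47, 47, 48, 48, 26, 26, 401, 394], [33, 33, 11, 11, 49, 49, 9,
    9, 120, 120, 202, 94], [50, 50, 50, 50, 11, 11, 51, 51, 232, 232, 74, 12], [51, 51, 51, 51, 51,
    51, 50, 50, 51, 51, 75, 75], [36, 36, 52, 52, 38, 38, 53, 53, 53, 53, 306, 314], [16, 16, 53, 53,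
    14, 14, 52, 52, 52, 52, 275, 276]]

/-- The table, a part. -/
def tblData2 : List (List ℕ) :=
  [[73, 73, 54, 54, 96, 96, 15, 15, 55, 55, 555, 324], [233, 233, 55, 55, 56, 56, 80, 80, 54, 54,
    371, 307], [252, 252, 94, 94, 55, 55, 57, 57, 96, 96, 278, 563], [83, 83, 93, 93, 221, 221, 56,
    56, 58, 58, 460, 569], [82, 82, 59, 59, 343, 343, 259, 259, 57, 57, 575, 565], [506, 506, 58, 58,
    60, 60, 260, 260, 93, 93, 434, 436], [61, 61, 90, 90, 59, 59, 61, 61, 92, 92, 505, 435], [60, 60,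
    89, 89, 506, 506, 60, 60, 62, 62, 436, 434], [92, 92, 63, 63, 203, 203, 513, 513, 61, 61, 411,
    243], [339, 339, 62, 62, 64, 64, 514, 514, 89, 89, 577, 586], [320, 320, 86, 86, 63, 63, 65, 65,
    88, 88, 205, 611], [319, 319, 85, 85, 223, 223, 64, 64, 66, 66, 598, 570], [502, 502, 67, 67, 224,
    224, 337, 337, 65, 65, 239, 316], [87, 87, 66, 66, 68, 68, 262, 262, 85, 85, 462, 348], [246, 246,
    82, 82, 67, 67, 69, 69, 84, 84, 445, 427], [247, 247, 81, 81, 69, 69, 68, 68, 70, 70, 28, 172],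
    [117, 117, 71, 71, 70, 70, 142, 142, 69, 69, 29, 143], [235, 235, 70, 70, 72, 72, 178, 178, 81,
    81, 179, 615], [97, 97, 72, 72, 71, 71, 37, 37, 80, 80, 582, 510], [54, 54, 12, 12, 178, 178, 14,
    14, 233, 233, 556, 295], [74, 74, 121, 121, 12, 12, 75, 75, 231, 231, 11, 50], [75, 75, 109, 109,
    75, 75, 74, 74, 75, 75, 51, 51], [76, 76, 249, 249, 40, 40, 77, 77, 251, 251, 25, 41], [77, 77,
    78, 78, 77, 77, 76, 76, 77, 77, 214, 214], [79, 79, 77, 77, 79, 79, 249, 249, 78, 78, 168, 168],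
    [78, 78, 79, 79, 78, 78, 248, 248, 79, 79, 169, 169], [261, 261, 80, 80, 81, 81, 55, 55, 72, 72,
    474, 296]]

/-- The table, a part. -/
def tblData3 : List (List ℕ) :=
  [[259, 259, 69, 69, 80, 80, 82, 82, 71, 71, 325, 592], [58, 58, 68, 68, 245, 245, 81, 81, 83, 83,
    581, 580], [57, 57, 84, 84, 222, 222, 252, 252, 82, 82, 459, 461], [204, 204, 83, 83, 85, 85, 289,
    289, 68, 68, 467, 449], [86, 86, 65, 65, 84, 84, 86, 86, 67, 67, 463, 428], [85, 85, 64, 64, 204,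
    204, 85, 85, 87, 87, 449, 467], [67, 67, 88, 88, 246, 246, 263, 263, 86, 86, 427, 445], [269, 269,
    87, 87, 89, 89, 264, 264, 64, 64, 424, 426], [268, 268, 61, 61, 88, 88, 90, 90, 63, 63, 553, 425],
    [267, 267, 60, 60, 342, 342, 89, 89, 91, 91, 644, 589], [266, 266, 92, 92, 457, 457, 272, 272, 90,
    90, 344, 508], [62, 62, 91, 91, 93, 93, 491, 491, 60, 60, 410, 412], [203, 203, 57, 57, 92, 92,
    94, 94, 59, 59, 243, 411], [202, 202, 56, 56, 94, 94, 93, 93, 95, 95, 49, 33], [189, 189, 96, 96,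
    95, 95, 216, 216, 94, 94, 120, 32], [178, 178, 95, 95, 54, 54, 235, 235, 56, 56, 295, 556], [72,
    72, 40, 40, 235, 235, 38, 38, 261, 261, 615, 179], [99, 99, 107, 107, 99, 99, 30, 30, 99, 99, 263,
    263], [98, 98, 100, 100, 98, 98, 46, 46, 98, 98, 262, 262], [118, 118, 99, 99, 101, 101, 47, 47,
    107, 107, 195, 364], [102, 102, 106, 106, 100, 100, 102, 102, 106, 106, 194, 196], [101, 101, 105,
    105, 118, 118, 101, 101, 103, 103, 364, 195], [106, 106, 104, 104, 144, 144, 104, 104, 102, 102,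
    200, 367], [105, 105, 103, 103, 105, 105, 103, 103, 105, 105, 513, 513], [104, 104, 102, 102, 104,
    104, 106, 106, 104, 104, 491, 491], [103, 103, 101, 101, 107, 107, 105, 105, 101, 101, 201, 199],
    [144, 144, 98, 98, 106, 106, 29, 29, 100, 100, 367, 200]]

/-- The table, a part. -/
def tblData4 : List (List ℕ) :=
  [[109, 109, 108, 108, 109, 109, 115, 115, 108, 108, 5, 5], [108, 108, 75, 75, 108, 108, 121, 121,
    109, 109, 6, 6], [137, 137, 164, 164, 188, 188, 111, 111, 122, 122, 35, 20], [138, 138, 370, 370,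
    378, 378, 110, 110, 302, 302, 112, 362], [139, 139, 648, 648, 229, 229, 113, 113, 230, 230, 369,
    111], [140, 140, 559, 559, 386, 386, 112, 112, 114, 114, 289, 490], [141, 141, 564, 564, 387, 387,
    136, 136, 113, 113, 142, 115], [121, 121, 115, 115, 116, 116, 108, 108, 490, 490, 114, 236], [142,
    142, 189, 189, 115, 115, 117, 117, 288, 288, 387, 141], [70, 70, 190, 190, 117, 117, 116, 116,
    247, 247, 143, 29], [100, 100, 144, 144, 102, 102, 119, 119, 144, 144, 196, 194], [47, 47, 143,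
    143, 215, 215, 118, 118, 171, 171, 394, 401], [32, 32, 213, 213, 120, 120, 22, 22, 49, 49, 189,
    95], [115, 115, 74, 74, 142, 142, 109, 109, 432, 432, 141, 387], [145, 145, 162, 162, 161, 161,
    123, 123, 110, 110, 7, 9], [146, 146, 124, 124, 219, 219, 122, 122, 595, 595, 135, 157], [600,
    600, 123, 123, 125, 125, 162, 162, 125, 125, 523, 576], [126, 126, 595, 595, 124, 124, 303, 303,
    124, 124, 524, 522], [125, 125, 127, 127, 600, 600, 554, 554, 600, 600, 576, 523], [256, 256, 126,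
    126, 150, 150, 128, 128, 482, 482, 610, 472], [301, 301, 554, 554, 302, 302, 127, 127, 378, 378,
    129, 363], [512, 512, 185, 185, 230, 230, 130, 130, 229, 229, 300, 128], [627, 627, 131, 131, 153,
    153, 129, 129, 476, 476, 149, 147], [132, 132, 130, 130, 477, 477, 185, 185, 217, 217, 468, 260],
    [131, 131, 626, 626, 133, 133, 211, 211, 191, 191, 250, 431], [477, 477, 134, 134, 132, 132, 485,
    485, 299, 299, 260, 468], [157, 157, 133, 133, 135, 135, 525, 525, 298, 298, 146, 219]]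

/-- The table, a part. -/
def tblData5 : List (List ℕ) :=
  [[158, 158, 643, 643, 134, 134, 230, 230, 136, 136, 197, 123], [159, 159, 484, 484, 298, 298, 114,
    114, 135, 135, 254, 595], [110, 110, 196, 196, 176, 176, 138, 138, 145, 145, 19, 34], [111, 111,
    369, 369, 369, 369, 137, 137, 300, 300, 139, 229], [112, 112, 279, 279, 362, 362, 140, 140, 363,
    363, 378, 138], [113, 113, 278, 278, 471, 471, 139, 139, 141, 141, 288, 432], [114, 114, 295, 295,
    236, 236, 159, 159, 140, 140, 116, 121], [116, 116, 178, 178, 121, 121, 70, 70, 289, 289, 236,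
    114], [29, 29, 119, 119, 143, 143, 144, 144, 172, 172, 70, 117], [107, 107, 118, 118, 103, 103,
    143, 143, 118, 118, 199, 201], [122, 122, 199, 199, 160, 160, 146, 146, 137, 137, 18, 8], [123,
    123, 147, 147, 197, 197, 145, 145, 255, 255, 158, 134], [482, 482, 146, 146, 148, 148, 199, 199,
    256, 256, 130, 526], [149, 149, 663, 663, 147, 147, 258, 258, 257, 257, 153, 627], [148, 148, 150,
    150, 482, 482, 419, 419, 150, 150, 526, 130], [257, 257, 149, 149, 127, 127, 151, 151, 149, 149,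
    475, 476], [456, 456, 419, 419, 483, 483, 150, 150, 403, 403, 152, 525], [527, 527, 543, 543, 533,
    533, 153, 153, 464, 464, 455, 151], [526, 526, 154, 154, 130, 130, 152, 152, 472, 472, 482, 148],
    [155, 155, 153, 153, 618, 618, 543, 543, 662, 662, 421, 447], [154, 154, 615, 615, 156, 156, 521,
    521, 640, 640, 422, 420], [618, 618, 157, 157, 155, 155, 661, 661, 641, 641, 447, 421], [134, 134,
    156, 156, 158, 158, 533, 533, 297, 297, 123, 197], [135, 135, 510, 510, 157, 157, 363, 363, 159,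
    159, 219, 146], [136, 136, 296, 296, 297, 297, 141, 141, 158, 158, 253, 255], [161, 161, 173, 173,
    145, 145, 165, 165, 176, 176, 9, 7], [160, 160, 194, 194, 122, 122, 177, 177, 188, 188, 8, 18]]

/-- The table, a part. -/
def tblData6 : List (List ℕ) :=
  [[379, 379, 122, 122, 163, 163, 124, 124, 164, 164, 286, 284], [164, 164, 195, 195, 162, 162, 567,
    567, 379, 379, 503, 285], [163, 163, 110, 110, 379, 379, 370, 370, 162, 162, 284, 286], [177, 177,
    489, 489, 166, 166, 160, 160, 562, 562, 187, 441], [357, 357, 560, 560, 165, 165, 167, 167, 329,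
    329, 415, 193], [358, 358, 416, 416, 220, 220, 166, 166, 401, 401, 171, 26], [169, 169, 214, 214,
    169, 169, 26, 26, 168, 168, 78, 78], [168, 168, 169, 169, 168, 168, 170, 170, 169, 169, 79, 79],
    [26, 26, 170, 170, 171, 171, 169, 169, 215, 215, 358, 220], [27, 27, 172, 172, 170, 170, 172, 172,
    119, 119, 198, 167], [28, 28, 171, 171, 172, 172, 171, 171, 143, 143, 69, 247], [377, 377, 160,
    160, 174, 174, 489, 489, 175, 175, 290, 292], [175, 175, 200, 200, 173, 173, 469, 469, 377, 377,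
    291, 501], [174, 174, 176, 176, 377, 377, 404, 404, 173, 173, 292, 290], [188, 188, 175, 175, 137,
    137, 368, 368, 160, 160, 20, 35], [165, 165, 492, 492, 357, 357, 161, 161, 638, 638, 193, 415],
    [96, 96, 142, 142, 73, 73, 71, 71, 252, 252, 324, 555], [510, 510, 624, 624, 582, 582, 180, 180,
    325, 325, 97, 71], [511, 511, 181, 181, 206, 206, 179, 179, 308, 308, 356, 334], [182, 182, 180,
    180, 515, 515, 624, 624, 630, 630, 693, 680], [181, 181, 230, 230, 183, 183, 643, 643, 648, 648,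
    681, 697], [515, 515, 184, 184, 182, 182, 614, 614, 535, 535, 680, 693], [210, 210, 183, 183, 185,
    185, 428, 428, 228, 228, 486, 429], [211, 211, 129, 129, 184, 184, 131, 131, 186, 186, 466, 381],
    [212, 212, 229, 229, 228, 228, 187, 187, 185, 185, 628, 351], [193, 193, 436, 436, 415, 415, 186,
    186, 218, 218, 357, 165], [176, 176, 201, 201, 110, 110, 365, 365, 161, 161, 34, 19]]

/-- The table, a part. -/
def tblData7 : List (List ℕ) :=
  [[95, 95, 116, 116, 189, 189, 190, 190, 202, 202, 32, 120], [216, 216, 117, 117, 248, 248, 189,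
    189, 431, 431, 191, 446], [217, 217, 328, 328, 299, 299, 192, 192, 132, 132, 249, 190], [218, 218,
    550, 550, 237, 237, 191, 191, 193, 193, 329, 638], [187, 187, 440, 440, 441, 441, 212, 212, 192,
    192, 166, 177], [364, 364, 161, 161, 195, 195, 492, 492, 201, 201, 118, 101], [196, 196, 163, 163,
    194, 194, 378, 378, 367, 367, 102, 100], [195, 195, 137, 137, 364, 364, 369, 369, 199, 199, 101,
    118], [219, 219, 631, 631, 146, 146, 198, 198, 254, 254, 157, 135], [220, 220, 422, 422, 358, 358,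
    197, 197, 394, 394, 26, 171], [367, 367, 145, 145, 200, 200, 147, 147, 196, 196, 106, 144], [201,
    201, 174, 174, 199, 199, 470, 470, 364, 364, 107, 103], [200, 200, 188, 188, 367, 367, 493, 493,
    194, 194, 144, 106], [94, 94, 288, 288, 202, 202, 203, 203, 189, 189, 33, 49], [93, 93, 204, 204,
    62, 62, 202, 202, 506, 506, 412, 410], [84, 84, 203, 203, 86, 86, 288, 288, 246, 246, 428, 463],
    [586, 586, 616, 616, 577, 577, 206, 206, 424, 424, 339, 64], [613, 613, 207, 207, 180, 180, 205,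
    205, 551, 551, 355, 335], [208, 208, 206, 206, 566, 566, 616, 616, 294, 294, 498, 370], [207, 207,
    665, 665, 209, 209, 644, 644, 287, 287, 305, 567], [566, 566, 210, 210, 208, 208, 580, 580, 226,
    226, 370, 498], [184, 184, 209, 209, 211, 211, 467, 467, 227, 227, 381, 466], [185, 185, 666, 666,
    210, 210, 132, 132, 212, 212, 429, 486], [186, 186, 504, 504, 227, 227, 193, 193, 211, 211, 330,
    632], [213, 213, 120, 120, 232, 232, 23, 23, 11, 11, 234, 231], [214, 214, 168, 168, 214, 214, 25,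
    25, 214, 214, 77, 77], [48, 48, 215, 215, 119, 119, 215, 215, 170, 170, 451, 397]]

/-- The table, a part. -/
def tblData8 : List (List ℕ) :=
  [[190, 190, 235, 235, 249, 249, 95, 95, 260, 260, 217, 299], [191, 191, 476, 476, 446, 446, 218,
    218, 131, 131, 248, 216], [192, 192, 411, 411, 437, 437, 217, 217, 187, 187, 629, 562], [197, 197,
    253, 253, 123, 123, 220, 220, 253, 253, 134, 158], [198, 198, 455, 455, 167, 167, 219, 219, 397,
    397, 170, 27], [222, 222, 457, 457, 57, 57, 343, 343, 343, 343, 461, 459], [221, 221, 223, 223,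
    83, 83, 245, 245, 245, 245, 569, 460], [318, 318, 222, 222, 65, 65, 224, 224, 224, 224, 572, 593],
    [317, 317, 245, 245, 66, 66, 223, 223, 223, 223, 225, 238], [316, 316, 240, 240, 239, 239, 226,
    226, 572, 572, 502, 224], [315, 315, 227, 227, 287, 287, 225, 225, 209, 209, 303, 552], [228, 228,
    226, 226, 212, 212, 240, 240, 210, 210, 351, 628], [227, 227, 535, 535, 186, 186, 516, 516, 184,
    184, 632, 330], [362, 362, 186, 186, 112, 112, 436, 436, 129, 129, 138, 378], [363, 363, 182, 182,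
    129, 129, 135, 135, 112, 112, 301, 302], [231, 231, 432, 432, 234, 234, 231, 231, 74, 74, 213,
    232], [232, 232, 232, 232, 213, 213, 232, 232, 50, 50, 231, 234], [55, 55, 234, 234, 252, 252,
    261, 261, 73, 73, 563, 278], [234, 234, 233, 233, 231, 231, 244, 244, 12, 12, 232, 213], [71, 71,
    216, 216, 97, 97, 96, 96, 259, 259, 510, 582], [387, 387, 372, 372, 141, 141, 237, 237, 471, 471,
    115, 142], [437, 437, 238, 238, 192, 192, 236, 236, 441, 441, 562, 629], [239, 239, 237, 237, 316,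
    316, 372, 372, 593, 593, 224, 502], [238, 238, 442, 442, 225, 225, 336, 336, 598, 598, 317, 66],
    [516, 516, 225, 225, 241, 241, 227, 227, 444, 444, 473, 470], [480, 480, 443, 443, 240, 240, 375,
    375, 242, 242, 493, 374], [433, 433, 494, 494, 444, 444, 243, 243, 241, 241, 596, 350]]

/-- The table, a part. -/
def tblData9 : List (List ℕ) :=
  [[412, 412, 480, 480, 410, 410, 242, 242, 434, 434, 62, 93], [244, 244, 261, 261, 251, 251, 234,
    234, 40, 40, 23, 24], [343, 343, 224, 224, 82, 82, 222, 222, 222, 222, 565, 575], [68, 68, 506,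
    506, 87, 87, 247, 247, 204, 204, 348, 462], [69, 69, 431, 431, 247, 247, 246, 246, 117, 117, 172,
    28], [249, 249, 248, 248, 190, 190, 79, 79, 468, 468, 299, 217], [248, 248, 76, 76, 216, 216, 78,
    78, 250, 250, 446, 191], [468, 468, 251, 251, 260, 260, 250, 250, 249, 249, 477, 132], [251, 251,
    250, 250, 244, 244, 251, 251, 76, 76, 24, 23], [56, 56, 289, 289, 233, 233, 83, 83, 178, 178, 307,
    371], [254, 254, 219, 219, 595, 595, 455, 455, 219, 219, 298, 159], [253, 253, 594, 594, 255, 255,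
    483, 483, 197, 197, 297, 136], [595, 595, 256, 256, 254, 254, 300, 300, 146, 146, 159, 298], [127,
    127, 255, 255, 257, 257, 301, 301, 147, 147, 476, 475], [150, 150, 599, 599, 256, 256, 456, 456,
    148, 148, 472, 610], [419, 419, 402, 402, 418, 418, 148, 148, 388, 388, 30, 22], [81, 81, 260,
    260, 261, 261, 58, 58, 235, 235, 296, 474], [431, 431, 259, 259, 250, 250, 59, 59, 216, 216, 131,
    133], [80, 80, 244, 244, 259, 259, 233, 233, 97, 97, 592, 325], [263, 263, 337, 337, 263, 263, 67,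
    67, 263, 263, 99, 99], [262, 262, 264, 264, 262, 262, 87, 87, 262, 262, 98, 98], [270, 270, 263,
    263, 265, 265, 88, 88, 337, 337, 507, 322], [272, 272, 338, 338, 264, 264, 266, 266, 338, 338,
    323, 321], [91, 91, 339, 339, 340, 340, 265, 265, 267, 267, 423, 458], [90, 90, 268, 268, 341,
    341, 268, 268, 266, 266, 616, 617], [89, 89, 267, 267, 269, 269, 267, 267, 339, 339, 426, 424],
    [88, 88, 502, 502, 268, 268, 270, 270, 320, 320, 425, 553]]

/-- The table, a part. -/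
def tblData10 : List (List ℕ) :=
  [[264, 264, 271, 271, 272, 272, 269, 269, 271, 271, 321, 323], [337, 337, 270, 270, 514, 514, 502,
    502, 270, 270, 313, 311], [265, 265, 491, 491, 270, 270, 91, 91, 514, 514, 322, 507], [276, 276,
    290, 290, 275, 275, 287, 287, 293, 293, 16, 14], [275, 275, 284, 284, 276, 276, 283, 283, 277,
    277, 14, 16], [274, 274, 311, 311, 273, 273, 310, 310, 306, 306, 15, 53], [273, 273, 321, 321,
    274, 274, 294, 294, 314, 314, 53, 15], [306, 306, 286, 286, 314, 314, 306, 306, 274, 274, 38, 36],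
    [307, 307, 140, 140, 371, 371, 279, 279, 295, 295, 233, 56], [308, 308, 139, 139, 568, 568, 278,
    278, 511, 511, 280, 385], [309, 309, 620, 620, 612, 612, 281, 281, 335, 335, 551, 279], [282, 282,
    607, 607, 608, 608, 280, 280, 282, 282, 336, 310], [281, 281, 606, 606, 609, 609, 309, 309, 281,
    281, 372, 283], [310, 310, 371, 371, 336, 336, 274, 274, 310, 310, 282, 608], [503, 503, 274, 274,
    285, 285, 371, 371, 286, 286, 162, 164], [286, 286, 322, 322, 284, 284, 322, 322, 503, 503, 163,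
    379], [285, 285, 277, 277, 503, 503, 323, 323, 284, 284, 164, 162], [294, 294, 359, 359, 226, 226,
    273, 273, 208, 208, 304, 554], [289, 289, 202, 202, 490, 490, 204, 204, 116, 116, 386, 140], [288,
    288, 252, 252, 432, 432, 84, 84, 142, 142, 471, 113], [501, 501, 273, 273, 291, 291, 359, 359,
    292, 292, 175, 173], [292, 292, 312, 312, 290, 290, 448, 448, 501, 501, 377, 174], [291, 291, 293,
    293, 501, 501, 345, 345, 290, 290, 173, 175], [314, 314, 292, 292, 306, 306, 344, 344, 273, 273,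
    36, 38], [287, 287, 551, 551, 315, 315, 276, 276, 207, 207, 552, 303], [324, 324, 141, 141, 555,
    555, 296, 296, 278, 278, 73, 96], [325, 325, 159, 159, 592, 592, 295, 295, 510, 510, 80, 259]]

/-- The table, a part. -/
def tblData11 : List (List ℕ) :=
  [[298, 298, 641, 641, 159, 159, 446, 446, 157, 157, 595, 254], [297, 297, 299, 299, 136, 136, 299,
    299, 134, 134, 255, 253], [446, 446, 298, 298, 191, 191, 298, 298, 133, 133, 216, 248], [302, 302,
    301, 301, 301, 301, 255, 255, 138, 138, 363, 129], [128, 128, 300, 300, 300, 300, 256, 256, 369,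
    369, 512, 230], [300, 300, 303, 303, 128, 128, 595, 595, 111, 111, 230, 512], [554, 554, 302, 302,
    304, 304, 125, 125, 370, 370, 294, 226], [552, 552, 552, 552, 303, 303, 305, 305, 305, 305, 315,
    287], [498, 498, 498, 498, 370, 370, 304, 304, 304, 304, 566, 208], [277, 277, 323, 323, 293, 293,
    277, 277, 275, 275, 37, 52], [278, 278, 558, 558, 563, 563, 308, 308, 324, 324, 55, 252], [279,
    279, 630, 630, 551, 551, 307, 307, 180, 180, 309, 612], [280, 280, 497, 497, 385, 385, 282, 282,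
    356, 356, 568, 308], [283, 283, 555, 555, 372, 372, 275, 275, 283, 283, 281, 609], [509, 509, 275,
    275, 312, 312, 555, 555, 323, 323, 271, 338], [313, 313, 291, 291, 311, 311, 425, 425, 507, 507,
    514, 337], [312, 312, 314, 314, 509, 509, 424, 424, 321, 321, 338, 271], [293, 293, 313, 313, 277,
    277, 423, 423, 276, 276, 52, 37], [226, 226, 639, 639, 294, 294, 316, 316, 566, 566, 554, 304],
    [225, 225, 499, 499, 238, 238, 315, 315, 570, 570, 66, 317], [224, 224, 341, 341, 502, 502, 318,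
    318, 318, 318, 316, 239], [223, 223, 340, 340, 319, 319, 317, 317, 317, 317, 570, 598], [65, 65,
    320, 320, 318, 318, 320, 320, 502, 502, 593, 572], [64, 64, 319, 319, 339, 339, 319, 319, 269,
    269, 586, 577], [507, 507, 276, 276, 322, 322, 551, 551, 313, 313, 265, 270], [323, 323, 285, 285,
    321, 321, 285, 285, 509, 509, 264, 272], [322, 322, 306, 306, 507, 507, 286, 286, 311, 311, 270,
    265]]

/-- The table, a part. -/
def tblData12 : List (List ℕ) :=
  [[295, 295, 557, 557, 556, 556, 325, 325, 307, 307, 54, 178], [296, 296, 326, 326, 474, 474, 324,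
    324, 179, 179, 261, 81], [484, 484, 325, 325, 327, 327, 557, 557, 624, 624, 416, 402], [328, 328,
    610, 610, 326, 326, 409, 409, 625, 625, 417, 408], [327, 327, 191, 191, 484, 484, 550, 550, 626,
    626, 402, 416], [629, 629, 669, 669, 562, 562, 330, 330, 166, 166, 437, 192], [628, 628, 331, 331,
    351, 351, 329, 329, 429, 429, 228, 212], [332, 332, 330, 330, 657, 657, 669, 669, 660, 660, 696,
    674], [331, 331, 693, 693, 333, 333, 675, 675, 694, 694, 656, 691], [657, 657, 334, 334, 332, 332,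
    652, 652, 658, 658, 674, 696], [355, 355, 333, 333, 335, 335, 621, 621, 612, 612, 180, 613], [356,
    356, 697, 697, 334, 334, 356, 356, 280, 280, 206, 511], [372, 372, 471, 471, 283, 283, 239, 239,
    372, 372, 609, 281], [271, 271, 262, 262, 338, 338, 66, 66, 264, 264, 312, 509], [514, 514, 265,
    265, 337, 337, 339, 339, 265, 265, 311, 313], [63, 63, 266, 266, 320, 320, 338, 338, 268, 268,
    611, 205], [457, 457, 318, 318, 266, 266, 341, 341, 341, 341, 508, 344], [342, 342, 317, 317, 267,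
    267, 340, 340, 340, 340, 589, 644], [341, 341, 343, 343, 90, 90, 457, 457, 457, 457, 617, 616],
    [245, 245, 342, 342, 58, 58, 221, 221, 221, 221, 580, 581], [423, 423, 345, 345, 458, 458, 293,
    293, 644, 644, 340, 91], [448, 448, 344, 344, 346, 346, 292, 292, 584, 584, 404, 406], [347, 347,
    569, 569, 345, 345, 439, 439, 583, 583, 405, 469], [346, 346, 348, 348, 448, 448, 438, 438, 614,
    614, 406, 404], [445, 445, 347, 347, 427, 427, 349, 349, 428, 428, 67, 246], [444, 444, 438, 438,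
    433, 433, 348, 348, 516, 516, 350, 596], [633, 633, 667, 667, 601, 601, 351, 351, 374, 374, 242,
    349]]

/-- The table, a part. -/
def tblData13 : List (List ℕ) :=
  [[632, 632, 352, 352, 330, 330, 350, 350, 381, 381, 186, 227], [353, 353, 351, 351, 649, 649, 667,
    667, 382, 382, 359, 361], [352, 352, 700, 700, 354, 354, 668, 668, 699, 699, 360, 504], [649, 649,
    355, 355, 353, 353, 645, 645, 384, 384, 361, 359], [334, 334, 354, 354, 356, 356, 622, 622, 385,
    385, 511, 206], [335, 335, 698, 698, 355, 355, 335, 335, 309, 309, 613, 180], [166, 166, 405, 405,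
    177, 177, 358, 358, 629, 629, 441, 187], [167, 167, 452, 452, 198, 198, 357, 357, 451, 451, 27,
    170], [360, 360, 287, 287, 504, 504, 290, 290, 665, 665, 354, 352], [359, 359, 568, 568, 361, 361,
    501, 501, 664, 664, 649, 353], [504, 504, 362, 362, 360, 360, 571, 571, 682, 682, 352, 354], [229,
    229, 361, 361, 139, 139, 505, 505, 512, 512, 111, 369], [230, 230, 511, 511, 512, 512, 158, 158,
    139, 139, 128, 300], [194, 194, 377, 377, 196, 196, 366, 366, 200, 200, 100, 102], [368, 368, 493,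
    493, 366, 366, 188, 188, 637, 637, 443, 413], [492, 492, 488, 488, 365, 365, 364, 364, 602, 602,
    442, 376], [199, 199, 379, 379, 201, 201, 482, 482, 195, 195, 103, 107], [365, 365, 404, 404, 492,
    492, 176, 176, 561, 561, 376, 442], [378, 378, 138, 138, 138, 138, 196, 196, 301, 301, 362, 112],
    [567, 567, 111, 111, 305, 305, 164, 164, 303, 303, 207, 209], [563, 563, 283, 283, 278, 278, 284,
    284, 555, 555, 252, 55], [336, 336, 236, 236, 310, 310, 238, 238, 336, 336, 608, 282], [418, 418,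
    420, 420, 419, 419, 374, 374, 380, 380, 22, 30], [473, 473, 520, 520, 470, 470, 373, 373, 350,
    350, 241, 516], [494, 494, 435, 435, 414, 414, 241, 241, 376, 376, 602, 561], [443, 443, 412, 412,
    413, 413, 434, 434, 375, 375, 366, 368], [173, 173, 364, 364, 175, 175, 488, 488, 174, 174, 501,
    291]]

/-- The table, a part. -/
def tblData14 : List (List ℕ) :=
  [[369, 369, 567, 567, 111, 111, 195, 195, 128, 128, 229, 139], [162, 162, 367, 367, 164, 164, 600,
    600, 163, 163, 285, 503], [389, 389, 391, 391, 390, 390, 381, 381, 373, 373, 21, 44], [486, 486,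
    382, 382, 429, 429, 380, 380, 351, 351, 185, 210], [699, 699, 381, 381, 383, 383, 391, 391, 352,
    352, 665, 682], [384, 384, 659, 659, 382, 382, 383, 383, 649, 649, 666, 664], [383, 383, 385, 385,
    699, 699, 384, 384, 354, 354, 682, 665], [612, 612, 384, 384, 309, 309, 385, 385, 355, 355, 279,
    551], [471, 471, 387, 387, 113, 113, 413, 413, 387, 387, 432, 288], [236, 236, 386, 386, 114, 114,
    437, 437, 386, 386, 121, 116], [390, 390, 398, 398, 389, 389, 395, 395, 258, 258, 44, 21], [380,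
    380, 517, 517, 388, 388, 486, 486, 418, 418, 43, 45], [388, 388, 403, 403, 380, 380, 403, 403,
    419, 419, 45, 43], [479, 479, 380, 380, 392, 392, 382, 382, 420, 420, 640, 642], [393, 393, 465,
    465, 391, 391, 393, 393, 421, 421, 641, 662], [392, 392, 394, 394, 479, 479, 392, 392, 422, 422,
    642, 640], [397, 397, 393, 393, 451, 451, 465, 465, 198, 198, 48, 119], [403, 403, 430, 430, 396,
    396, 388, 388, 456, 456, 450, 478], [465, 465, 397, 397, 395, 395, 397, 397, 455, 455, 485, 464],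
    [394, 394, 396, 396, 401, 401, 396, 396, 220, 220, 215, 47], [430, 430, 388, 388, 399, 399, 430,
    430, 402, 402, 624, 626], [400, 400, 518, 518, 398, 398, 694, 694, 408, 408, 625, 643], [399, 399,
    401, 401, 430, 430, 660, 660, 416, 416, 626, 624], [451, 451, 400, 400, 397, 397, 429, 429, 167,
    167, 119, 48], [417, 417, 258, 258, 408, 408, 663, 663, 398, 398, 326, 328], [395, 395, 390, 390,
    465, 465, 390, 390, 151, 151, 464, 485], [469, 469, 368, 368, 405, 405, 175, 175, 671, 671, 347,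
    345]]

/-- The table, a part. -/
def tblData15 : List (List ℕ) :=
  [[406, 406, 357, 357, 404, 404, 452, 452, 672, 672, 448, 346], [405, 405, 407, 407, 469, 469, 481,
    481, 676, 676, 345, 347], [560, 560, 406, 406, 520, 520, 408, 408, 675, 675, 571, 439], [416, 416,
    481, 481, 402, 402, 407, 407, 399, 399, 327, 484], [550, 550, 410, 410, 500, 500, 327, 327, 571,
    571, 668, 675], [411, 411, 409, 409, 243, 243, 610, 610, 505, 505, 203, 92], [410, 410, 218, 218,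
    412, 412, 476, 476, 436, 436, 93, 62], [243, 243, 376, 376, 411, 411, 433, 433, 435, 435, 92,
    203], [442, 442, 437, 437, 376, 376, 386, 386, 414, 414, 365, 492], [536, 536, 415, 415, 375, 375,
    415, 415, 413, 413, 637, 597], [441, 441, 414, 414, 187, 187, 414, 414, 437, 437, 177, 166], [408,
    408, 167, 167, 417, 417, 560, 560, 400, 400, 328, 326], [402, 402, 456, 456, 416, 416, 599, 599,
    430, 430, 484, 327], [373, 373, 454, 454, 258, 258, 473, 473, 389, 389, 31, 46], [258, 258, 151,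
    151, 373, 373, 149, 149, 390, 390, 46, 31], [447, 447, 373, 373, 421, 421, 520, 520, 391, 391,
    155, 618], [422, 422, 483, 483, 420, 420, 594, 594, 392, 392, 156, 154], [421, 421, 198, 198, 447,
    447, 631, 631, 393, 393, 618, 155], [344, 344, 424, 424, 508, 508, 314, 314, 616, 616, 457, 266],
    [425, 425, 423, 423, 553, 553, 313, 313, 205, 205, 268, 88], [424, 424, 448, 448, 426, 426, 312,
    312, 586, 586, 89, 269], [553, 553, 427, 427, 425, 425, 474, 474, 611, 611, 88, 268], [462, 462,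
    426, 426, 348, 348, 475, 475, 449, 449, 68, 87], [467, 467, 614, 614, 449, 449, 184, 184, 348,
    348, 85, 204], [466, 466, 660, 660, 381, 381, 401, 401, 330, 330, 184, 211], [398, 398, 395, 395,
    400, 400, 398, 398, 417, 417, 643, 625], [260, 260, 247, 247, 468, 468, 506, 506, 190, 190, 132,
    477]]

/-- The table, a part. -/
def tblData16 : List (List ℕ) :=
  [[490, 490, 231, 231, 289, 289, 432, 432, 121, 121, 140, 386], [242, 242, 434, 434, 349, 349, 412,
    412, 480, 480, 601, 633], [435, 435, 433, 433, 505, 505, 376, 376, 243, 243, 61, 59], [434, 434,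
    375, 375, 436, 436, 443, 443, 412, 412, 60, 506], [505, 505, 187, 187, 435, 435, 229, 229, 411,
    411, 59, 61], [237, 237, 413, 413, 218, 218, 387, 387, 415, 415, 638, 329], [439, 439, 349, 349,
    571, 571, 347, 347, 500, 500, 560, 520], [438, 438, 570, 570, 440, 440, 346, 346, 499, 499, 407,
    542], [571, 571, 193, 193, 439, 439, 504, 504, 550, 550, 520, 560], [415, 415, 593, 593, 193, 193,
    536, 536, 237, 237, 165, 357], [413, 413, 239, 239, 443, 443, 471, 471, 536, 536, 368, 366], [376,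
    376, 241, 241, 442, 442, 435, 435, 494, 494, 492, 365], [349, 349, 572, 572, 242, 242, 445, 445,
    240, 240, 633, 601], [348, 348, 461, 461, 462, 462, 444, 444, 467, 467, 87, 68], [299, 299, 642,
    642, 217, 217, 297, 297, 477, 477, 190, 249], [420, 420, 453, 453, 422, 422, 542, 542, 479, 479,
    154, 156], [345, 345, 425, 425, 347, 347, 291, 291, 585, 585, 469, 405], [463, 463, 611, 611, 428,
    428, 450, 450, 427, 427, 84, 86], [464, 464, 524, 524, 485, 485, 449, 449, 527, 527, 465, 395],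
    [401, 401, 519, 519, 394, 394, 466, 466, 358, 358, 47, 215], [481, 481, 358, 358, 453, 453, 405,
    405, 519, 519, 543, 529], [454, 454, 447, 447, 452, 452, 541, 541, 540, 540, 546, 521], [453, 453,
    418, 418, 481, 481, 487, 487, 517, 517, 529, 543], [483, 483, 220, 220, 456, 456, 253, 253, 396,
    396, 525, 152], [151, 151, 417, 417, 455, 455, 257, 257, 395, 395, 527, 533], [340, 340, 221, 221,
    91, 91, 342, 342, 342, 342, 458, 423], [508, 508, 459, 459, 344, 344, 458, 458, 617, 617, 266,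
    457]]

/-- The table, a part. -/
def tblData17 : List (List ℕ) :=
  [[460, 460, 458, 458, 569, 569, 459, 459, 581, 581, 221, 83], [459, 459, 538, 538, 461, 461, 460,
    460, 575, 575, 222, 57], [569, 569, 445, 445, 460, 460, 572, 572, 580, 580, 83, 221], [427, 427,
    539, 539, 445, 445, 472, 472, 463, 463, 246, 67], [449, 449, 590, 590, 467, 467, 464, 464, 462,
    462, 204, 85], [450, 450, 532, 532, 478, 478, 463, 463, 152, 152, 396, 403], [396, 396, 392, 392,
    403, 403, 394, 394, 483, 483, 478, 450], [429, 429, 619, 619, 486, 486, 451, 451, 628, 628, 210,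
    185], [428, 428, 580, 580, 463, 463, 210, 210, 445, 445, 86, 84], [250, 250, 468, 468, 431, 431,
    468, 468, 248, 248, 133, 131], [404, 404, 470, 470, 406, 406, 174, 174, 670, 670, 346, 448], [493,
    493, 469, 469, 374, 374, 200, 200, 601, 601, 240, 480], [386, 386, 336, 336, 140, 140, 442, 442,
    236, 236, 490, 289], [475, 475, 662, 662, 476, 476, 462, 462, 153, 153, 127, 257], [374, 374, 487,
    487, 493, 493, 418, 418, 633, 633, 480, 240], [592, 592, 475, 475, 325, 325, 426, 426, 582, 582,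
    259, 80], [472, 472, 474, 474, 610, 610, 427, 427, 526, 526, 256, 150], [610, 610, 217, 217, 472,
    472, 411, 411, 130, 130, 150, 256], [133, 133, 618, 618, 131, 131, 478, 478, 446, 446, 431, 250],
    [485, 485, 549, 549, 464, 464, 477, 477, 533, 533, 395, 465], [391, 391, 540, 540, 393, 393, 699,
    699, 447, 447, 662, 641], [241, 241, 243, 243, 516, 516, 494, 494, 433, 433, 470, 473], [452, 452,
    408, 408, 454, 454, 406, 406, 518, 518, 521, 546], [147, 147, 600, 600, 149, 149, 367, 367, 127,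
    127, 627, 153], [455, 455, 421, 421, 151, 151, 254, 254, 465, 465, 533, 527], [326, 326, 136, 136,
    328, 328, 564, 564, 643, 643, 408, 417], [478, 478, 525, 525, 450, 450, 133, 133, 525, 525, 403,
    396]]

/-- The table, a part. -/
def tblData18 : List (List ℕ) :=
  [[381, 381, 495, 495, 466, 466, 389, 389, 632, 632, 211, 184], [541, 541, 473, 473, 488, 488, 454,
    454, 634, 634, 574, 578], [489, 489, 366, 366, 487, 487, 377, 377, 677, 677, 590, 579], [488, 488,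
    165, 165, 541, 541, 173, 173, 636, 636, 578, 574], [432, 432, 490, 490, 288, 288, 490, 490, 115,
    115, 113, 471], [513, 513, 272, 272, 513, 513, 92, 92, 513, 513, 105, 105], [366, 366, 177, 177,
    368, 368, 194, 194, 597, 597, 413, 443], [470, 470, 365, 365, 473, 473, 201, 201, 596, 596, 516,
    241], [375, 375, 242, 242, 536, 536, 480, 480, 443, 443, 597, 637], [544, 544, 486, 486, 496, 496,
    517, 517, 692, 692, 528, 678], [497, 497, 603, 603, 495, 495, 605, 605, 679, 679, 686, 545], [496,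
    496, 309, 309, 544, 544, 606, 606, 698, 698, 678, 528], [305, 305, 305, 305, 567, 567, 552, 552,
    552, 552, 209, 207], [500, 500, 316, 316, 550, 550, 639, 639, 439, 439, 675, 668], [499, 499, 516,
    516, 409, 409, 535, 535, 438, 438, 669, 667], [290, 290, 507, 507, 292, 292, 360, 360, 291, 291,
    174, 377], [66, 66, 269, 269, 317, 317, 271, 271, 319, 319, 238, 225], [284, 284, 509, 509, 286,
    286, 563, 563, 285, 285, 379, 163], [361, 361, 212, 212, 359, 359, 440, 440, 666, 666, 353, 649],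
    [436, 436, 571, 571, 434, 434, 362, 362, 410, 410, 506, 60], [59, 59, 246, 246, 61, 61, 431, 431,
    203, 203, 435, 505], [321, 321, 501, 501, 323, 323, 568, 568, 312, 312, 272, 264], [458, 458, 537,
    537, 423, 423, 508, 508, 589, 589, 91, 340], [311, 311, 503, 503, 313, 313, 556, 556, 322, 322,
    337, 514], [179, 179, 158, 158, 615, 615, 511, 511, 296, 296, 72, 235], [180, 180, 363, 363, 613,
    613, 510, 510, 279, 279, 335, 355], [129, 129, 682, 682, 363, 363, 627, 627, 362, 362, 302, 301]]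

/-- The table, a part. -/
def tblData19 : List (List ℕ) :=
  [[491, 491, 514, 514, 491, 491, 62, 62, 491, 491, 104, 104], [338, 338, 513, 513, 271, 271, 63,
    63, 272, 272, 509, 312], [183, 183, 566, 566, 181, 181, 583, 583, 639, 639, 697, 681], [240, 240,
    500, 500, 480, 480, 228, 228, 349, 349, 374, 493], [540, 540, 389, 389, 518, 518, 495, 495, 454,
    454, 530, 532], [519, 519, 399, 399, 517, 517, 534, 534, 481, 481, 673, 531], [518, 518, 451, 451,
    540, 540, 619, 619, 452, 452, 532, 530], [542, 542, 374, 374, 407, 407, 420, 420, 667, 667, 438,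
    440], [543, 543, 522, 522, 529, 529, 155, 155, 673, 673, 453, 481], [523, 523, 521, 521, 576, 576,
    615, 615, 576, 576, 125, 600], [522, 522, 527, 527, 524, 524, 582, 582, 524, 524, 126, 124], [576,
    576, 450, 450, 523, 523, 611, 611, 523, 523, 600, 125], [533, 533, 485, 485, 527, 527, 134, 134,
    485, 485, 151, 455], [153, 153, 582, 582, 627, 627, 527, 527, 475, 475, 147, 149], [152, 152, 523,
    523, 525, 525, 526, 526, 450, 450, 483, 456], [545, 545, 691, 691, 686, 686, 529, 529, 689, 689,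
    497, 495], [546, 546, 530, 530, 521, 521, 528, 528, 530, 530, 452, 454], [531, 531, 529, 529, 673,
    673, 691, 691, 529, 529, 519, 517], [530, 530, 548, 548, 532, 532, 674, 674, 546, 546, 518, 540],
    [673, 673, 464, 464, 531, 531, 590, 590, 543, 543, 517, 519], [525, 525, 661, 661, 152, 152, 157,
    157, 478, 478, 456, 483], [619, 619, 694, 694, 620, 620, 518, 518, 693, 693, 535, 630], [639, 639,
    228, 228, 648, 648, 500, 500, 183, 183, 603, 534], [414, 414, 598, 598, 494, 494, 441, 441, 442,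
    442, 561, 602], [538, 538, 508, 508, 573, 573, 537, 537, 579, 579, 677, 635], [537, 537, 460, 460,
    539, 539, 538, 538, 574, 574, 636, 634], [573, 573, 462, 462, 538, 538, 662, 662, 590, 590, 635,
    677]]

/-- The table, a part. -/
def tblData20 : List (List ℕ) :=
  [[517, 517, 479, 479, 519, 519, 544, 544, 453, 453, 531, 673], [487, 487, 542, 542, 489, 489, 453,
    453, 635, 635, 579, 590], [520, 520, 541, 541, 560, 560, 447, 447, 668, 668, 439, 571], [521, 521,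
    152, 152, 546, 546, 154, 154, 532, 532, 454, 452], [495, 495, 699, 699, 497, 497, 540, 540, 700,
    700, 545, 686], [528, 528, 678, 678, 678, 678, 546, 546, 684, 684, 496, 544], [529, 529, 547, 547,
    543, 543, 545, 545, 531, 531, 481, 453], [548, 548, 546, 546, 661, 661, 678, 678, 548, 548, 631,
    599], [547, 547, 531, 531, 549, 549, 686, 686, 547, 547, 594, 663], [661, 661, 478, 478, 548, 548,
    618, 618, 661, 661, 599, 631], [409, 409, 192, 192, 499, 499, 328, 328, 440, 440, 667, 669], [568,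
    568, 294, 294, 308, 308, 321, 321, 206, 206, 385, 280], [304, 304, 304, 304, 554, 554, 498, 498,
    498, 498, 226, 294], [426, 426, 573, 573, 424, 424, 592, 592, 577, 577, 269, 89], [303, 303, 128,
    128, 552, 552, 126, 126, 567, 567, 287, 315], [556, 556, 310, 310, 295, 295, 311, 311, 371, 371,
    178, 54], [555, 555, 563, 563, 324, 324, 509, 509, 563, 563, 96, 73], [564, 564, 324, 324, 558,
    558, 326, 326, 558, 558, 605, 607], [559, 559, 307, 307, 557, 557, 630, 630, 557, 557, 604, 606],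
    [558, 558, 113, 113, 564, 564, 648, 648, 564, 564, 607, 605], [407, 407, 166, 166, 542, 542, 416,
    416, 669, 669, 440, 438], [637, 637, 671, 671, 597, 597, 562, 562, 368, 368, 375, 536], [638, 638,
    636, 636, 329, 329, 561, 561, 165, 165, 218, 237], [371, 371, 556, 556, 307, 307, 503, 503, 556,
    556, 56, 233], [557, 557, 114, 114, 559, 559, 484, 484, 559, 559, 606, 604], [580, 580, 583, 583,
    581, 581, 566, 566, 569, 569, 58, 245], [209, 209, 515, 515, 207, 207, 565, 565, 315, 315, 567,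
    305]]

/-- The table, a part. -/
def tblData21 : List (List ℕ) :=
  [[370, 370, 378, 378, 498, 498, 163, 163, 554, 554, 208, 566], [551, 551, 360, 360, 279, 279, 507,
    507, 613, 613, 612, 309], [461, 461, 346, 346, 459, 459, 570, 570, 565, 565, 57, 222], [572, 572,
    439, 439, 593, 593, 569, 569, 316, 316, 65, 318], [440, 440, 505, 505, 438, 438, 361, 361, 409,
    409, 542, 407], [570, 570, 444, 444, 598, 598, 461, 461, 225, 225, 319, 223], [539, 539, 553, 553,
    537, 537, 640, 640, 578, 578, 634, 636], [579, 579, 575, 575, 590, 590, 687, 687, 538, 538, 489,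
    487], [581, 581, 574, 574, 580, 580, 587, 587, 460, 460, 245, 58], [524, 524, 673, 673, 522, 522,
    577, 577, 522, 522, 124, 126], [611, 611, 578, 578, 205, 205, 576, 576, 553, 553, 320, 63], [590,
    590, 577, 577, 579, 579, 673, 673, 573, 573, 487, 489], [574, 574, 589, 589, 578, 578, 653, 653,
    537, 537, 488, 541], [565, 565, 467, 467, 575, 575, 209, 209, 461, 461, 82, 343], [575, 575, 617,
    617, 565, 565, 591, 591, 459, 459, 343, 82], [615, 615, 526, 526, 179, 179, 523, 523, 474, 474,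
    235, 72], [614, 614, 565, 565, 584, 584, 515, 515, 346, 346, 672, 670], [585, 585, 644, 644, 583,
    583, 665, 665, 345, 345, 671, 676], [584, 584, 586, 586, 614, 614, 664, 664, 448, 448, 670, 672],
    [205, 205, 585, 585, 611, 611, 613, 613, 425, 425, 63, 320], [591, 591, 687, 687, 588, 588, 575,
    575, 587, 587, 646, 622], [623, 623, 653, 653, 587, 587, 589, 589, 588, 588, 621, 647], [617, 617,
    579, 579, 616, 616, 588, 588, 508, 508, 90, 341], [578, 578, 463, 463, 574, 574, 532, 532, 539,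
    539, 541, 488], [587, 587, 623, 623, 623, 623, 581, 581, 591, 591, 647, 621], [474, 474, 640, 640,
    296, 296, 553, 553, 615, 615, 81, 261], [598, 598, 441, 441, 570, 570, 598, 598, 238, 238, 223,
    319]]

/-- The table, a part. -/
def tblData22 : List (List ℕ) :=
  [[631, 631, 254, 254, 599, 599, 421, 421, 631, 631, 661, 548], [255, 255, 125, 125, 253, 253, 302,
    302, 123, 123, 136, 297], [601, 601, 637, 637, 633, 633, 597, 597, 493, 493, 349, 242], [602, 602,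
    638, 638, 561, 561, 596, 596, 492, 492, 414, 494], [593, 593, 536, 536, 572, 572, 593, 593, 239,
    239, 318, 65], [663, 663, 257, 257, 594, 594, 417, 417, 663, 663, 547, 549], [124, 124, 482, 482,
    126, 126, 379, 379, 126, 126, 522, 524], [596, 596, 670, 670, 350, 350, 602, 602, 470, 470, 444,
    433], [597, 597, 677, 677, 637, 637, 601, 601, 366, 366, 536, 375], [620, 620, 496, 496, 619, 619,
    604, 604, 680, 680, 630, 535], [607, 607, 605, 605, 605, 605, 603, 603, 605, 605, 564, 558], [606,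
    606, 604, 604, 604, 604, 496, 496, 604, 604, 559, 557], [605, 605, 282, 282, 607, 607, 497, 497,
    607, 607, 558, 564], [604, 604, 281, 281, 606, 606, 620, 620, 606, 606, 557, 559], [609, 609, 609,
    609, 281, 281, 609, 609, 609, 609, 283, 372], [608, 608, 608, 608, 282, 282, 608, 608, 608, 608,
    310, 336], [476, 476, 327, 327, 475, 475, 410, 410, 627, 627, 257, 127], [577, 577, 449, 449, 586,
    586, 524, 524, 426, 426, 64, 339], [385, 385, 658, 658, 280, 280, 612, 612, 334, 334, 308, 568],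
    [206, 206, 664, 664, 511, 511, 586, 586, 568, 568, 334, 356], [583, 583, 428, 428, 585, 585, 183,
    183, 347, 347, 676, 671], [582, 582, 155, 155, 510, 510, 522, 522, 592, 592, 71, 97], [644, 644,
    205, 205, 589, 589, 207, 207, 423, 423, 342, 267], [589, 589, 581, 581, 644, 644, 623, 623, 458,
    458, 267, 342], [156, 156, 477, 477, 154, 154, 549, 549, 642, 642, 420, 422], [534, 534, 466, 466,
    603, 603, 519, 519, 681, 681, 639, 648], [603, 603, 280, 280, 534, 534, 607, 607, 697, 697, 648,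
    639]]

/-- The table, a part. -/
def tblData23 : List (List ℕ) :=
  [[622, 622, 652, 652, 646, 646, 334, 334, 621, 621, 591, 588], [621, 621, 645, 645, 647, 647, 355,
    355, 622, 622, 587, 623], [588, 588, 591, 591, 591, 591, 617, 617, 623, 623, 622, 646], [643, 643,
    179, 179, 625, 625, 181, 181, 326, 326, 400, 398], [626, 626, 627, 627, 624, 624, 682, 682, 327,
    327, 430, 399], [625, 625, 132, 132, 643, 643, 666, 666, 328, 328, 398, 400], [130, 130, 625, 625,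
    526, 526, 512, 512, 610, 610, 148, 482], [330, 330, 681, 681, 632, 632, 629, 629, 466, 466, 227,
    186], [329, 329, 672, 672, 638, 638, 628, 628, 357, 357, 237, 218], [648, 648, 308, 308, 639, 639,
    558, 558, 181, 181, 534, 603], [594, 594, 197, 197, 663, 663, 422, 422, 594, 594, 549, 547], [351,
    351, 692, 692, 628, 628, 633, 633, 486, 486, 212, 228], [350, 350, 634, 634, 596, 596, 632, 632,
    473, 473, 433, 444], [635, 635, 633, 633, 677, 677, 692, 692, 487, 487, 538, 573], [634, 634, 668,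
    668, 636, 636, 700, 700, 541, 541, 537, 539], [677, 677, 562, 562, 635, 635, 671, 671, 489, 489,
    573, 538], [561, 561, 596, 596, 602, 602, 638, 638, 365, 365, 494, 414], [562, 562, 597, 597, 629,
    629, 637, 637, 177, 177, 192, 437], [535, 535, 315, 315, 630, 630, 499, 499, 515, 515, 620, 619],
    [662, 662, 592, 592, 641, 641, 573, 573, 155, 155, 393, 391], [642, 642, 297, 297, 640, 640, 642,
    642, 156, 156, 479, 392], [641, 641, 446, 446, 662, 662, 641, 641, 618, 618, 391, 393], [624, 624,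
    135, 135, 626, 626, 182, 182, 484, 484, 399, 430], [616, 616, 584, 584, 617, 617, 208, 208, 344,
    344, 341, 90], [650, 650, 622, 622, 652, 652, 354, 354, 645, 645, 654, 687], [647, 647, 647, 647,
    621, 621, 646, 646, 646, 646, 623, 587], [646, 646, 646, 646, 622, 622, 647, 647, 647, 647, 588,
    591]]

/-- The table, a part. -/
def tblData24 : List (List ℕ) :=
  [[630, 630, 112, 112, 535, 535, 559, 559, 182, 182, 619, 620], [354, 354, 657, 657, 352, 352, 650,
    650, 383, 383, 504, 360], [645, 645, 651, 651, 651, 651, 649, 649, 650, 650, 655, 653], [652, 652,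
    650, 650, 650, 650, 657, 657, 651, 651, 687, 654], [651, 651, 621, 621, 645, 645, 333, 333, 652,
    652, 653, 655], [687, 687, 588, 588, 654, 654, 579, 579, 653, 653, 650, 652], [655, 655, 655, 655,
    653, 653, 656, 656, 654, 654, 651, 645], [654, 654, 654, 654, 687, 687, 696, 696, 655, 655, 652,
    650], [696, 696, 696, 696, 674, 674, 654, 654, 701, 701, 657, 332], [333, 333, 649, 649, 331, 331,
    651, 651, 659, 659, 691, 656], [659, 659, 612, 612, 694, 694, 658, 658, 333, 333, 688, 695], [658,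
    658, 383, 383, 660, 660, 659, 659, 657, 657, 690, 701], [694, 694, 429, 429, 659, 659, 400, 400,
    331, 331, 695, 688], [549, 549, 533, 533, 547, 547, 156, 156, 549, 549, 663, 594], [640, 640, 472,
    472, 642, 642, 539, 539, 154, 154, 392, 479], [599, 599, 148, 148, 631, 631, 402, 402, 599, 599,
    548, 661], [665, 665, 613, 613, 682, 682, 585, 585, 360, 360, 383, 699], [664, 664, 208, 208, 666,
    666, 584, 584, 359, 359, 384, 382], [682, 682, 211, 211, 665, 665, 626, 626, 504, 504, 699, 383],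
    [668, 668, 350, 350, 675, 675, 352, 352, 520, 520, 500, 550], [667, 667, 635, 635, 669, 669, 353,
    353, 542, 542, 499, 409], [675, 675, 329, 329, 668, 668, 331, 331, 560, 560, 550, 500], [671, 671,
    601, 601, 676, 676, 677, 677, 469, 469, 583, 585], [670, 670, 561, 561, 672, 672, 636, 636, 404,
    404, 614, 584], [676, 676, 629, 629, 671, 671, 681, 681, 405, 405, 585, 583], [532, 532, 576, 576,
    530, 530, 578, 578, 521, 521, 540, 518], [691, 691, 686, 686, 656, 656, 531, 531, 688, 688, 331,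
    333]]

/-- The table, a part. -/
def tblData25 : List (List ℕ) :=
  [[669, 669, 676, 676, 667, 667, 332, 332, 407, 407, 409, 499], [672, 672, 675, 675, 670, 670, 693,
    693, 406, 406, 584, 614], [636, 636, 602, 602, 634, 634, 670, 670, 488, 488, 539, 537], [686, 686,
    545, 545, 545, 545, 547, 547, 683, 683, 495, 497], [698, 698, 680, 680, 692, 692, 680, 680, 496,
    496, 685, 684], [697, 697, 679, 679, 681, 681, 679, 679, 603, 603, 181, 183], [693, 693, 628, 628,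
    680, 680, 672, 672, 619, 619, 515, 182], [666, 666, 512, 512, 664, 664, 625, 625, 361, 361, 382,
    384], [685, 685, 684, 684, 684, 684, 685, 685, 678, 678, 692, 698], [689, 689, 683, 683, 683, 683,
    688, 688, 545, 545, 679, 700], [683, 683, 688, 688, 689, 689, 683, 683, 686, 686, 700, 679], [678,
    678, 674, 674, 528, 528, 548, 548, 685, 685, 544, 496], [653, 653, 587, 587, 655, 655, 574, 574,
    687, 687, 645, 651], [690, 690, 685, 685, 701, 701, 684, 684, 674, 674, 660, 658], [684, 684, 690,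
    690, 685, 685, 690, 690, 528, 528, 698, 692], [688, 688, 689, 689, 695, 695, 689, 689, 691, 691,
    694, 659], [674, 674, 528, 528, 696, 696, 530, 530, 690, 690, 332, 657], [700, 700, 632, 632, 679,
    679, 634, 634, 495, 495, 689, 683], [681, 681, 332, 332, 697, 697, 676, 676, 534, 534, 183, 181],
    [660, 660, 534, 534, 658, 658, 399, 399, 332, 332, 701, 690], [701, 701, 701, 701, 690, 690, 695,
    695, 696, 696, 658, 660], [656, 656, 656, 656, 691, 691, 655, 655, 695, 695, 333, 331], [680, 680,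
    335, 335, 693, 693, 698, 698, 620, 620, 182, 515], [679, 679, 356, 356, 700, 700, 697, 697, 497,
    497, 683, 689], [382, 382, 544, 544, 384, 384, 479, 479, 353, 353, 664, 666], [692, 692, 353, 353,
    698, 698, 635, 635, 544, 544, 684, 685], [695, 695, 695, 695, 688, 688, 701, 701, 656, 656, 659,
    694]]

/-- The table. -/
def tblData : List (List (List ℕ)) :=
  [tblData0, tblData1, tblData2, tblData3, tblData4, tblData5, tblData6, tblData7, tblData8,
    tblData9, tblData10, tblData11, tblData12, tblData13, tblData14, tblData15, tblData16, tblData17,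
    tblData18, tblData19, tblData20, tblData21, tblData22, tblData23, tblData24, tblData25]

/-- The values, a part. -/
def formData0 : List (List (List ℤ)) :=
  [[[], [], [], [], [], [], [], [], [], [], [0, 0, 0, (-1)], []], [[0, 0, 0, (-1)], [0, 0, 0, 1],
    [], [], [], [], [], [0, 0, 2, 4], [], [], [], [0, 0, 0, 1]], [[0, 0, (-1)], [0, 0, 1], [], [0, 0,
    (-2), (-4)], [], [], [0, 0, (-2), (-4)], [], [], [], [0, 0, 1, 9], []], [[0, 0, (-1)], [0, 0, 1],
    [], [], [], [], [0, 0, (-2), (-4)], [0, 0, (-2), (-4)], [], [], [], [0, 0, (-1), (-9)]], [[0, 0,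
    1], [0, 0, (-1)], [(-1), 3, (-5), (-6)], [(-1), 2, (-4), (-7)], [0, 0, 0, 9], [0, 0, 0, (-9)], [0,
    0, 2, 4], [0, 0, 2, 4], [], [], [], [0, 0, (-1), (-9)]], [[], [0, 0, 0, (-2)], [], [], [0, (-1),
    (-2), (-17)], [0, 1], [], [], [0, 0, (-1)], [0, 0, 1], [0, (-1), (-1), (-13)], []], [[0, 0, 0, 2],
    [], [0, 0, 0, (-1)], [0, 0, 0, 1], [0, (-1)], [0, 1, 2, 17], [0, 0, 1, 5], [0, 0, 1, 5], [0, 0,
    (-3), (-4)], [0, 0, 3, 4], [], [0, 1, 2, 15]], [[], [], [0, 0, 2, 4], [], [], [], [], [], [0, 0,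
    (-1)], [], [], []], [[], [0, 0, (-1), (-2)], [0, 0, (-2), 7], [0, 0, 2, (-7)], [], [], [], [], [],
    [0, 0, (-1)], [], []], [[0, 0, 1, 2], [], [0, 0, 2, 3], [], [], [0, 0, (-1), (-3)], [0, 0, 0, 1],
    [0, 0, 0, 1], [0, 0, (-1), (-3)], [], [0, 0, 1, 2], []], [[0, 4, 20, (-68)], [0, (-4), (-20), 68],
    [], [0, 0, (-2), (-3)], [0, 0, (-4), 1], [0, 0, 4, (-1)], [0, 0, (-2)], [], [0, 0, (-2), (-3)],
    [0, 0, (-4), (-3)], [], [1, 0, (-1), 18]], [[0, (-4), 11, (-34)], [0, 4, (-11), 34], [0, 0, (-1),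
    1], [0, 0, 0, 1], [], [], [], [0, 0, 2], [], [], [], []], [[0, (-1), 1, (-9)], [0, 1, (-1), 9],
    [], [], [0, (-14), (-3), (-7)], [0, (-14), (-3), (-7)], [], [], [], [], [0, 11, (-18), 85], []],
    [[0, (-1), 1, (-10)], [0, 1, (-1), 10], [], [], [0, 0, 2, (-1)], [0, 0, (-2), 1], [], [], [0, 0,
    (-3), 13], [0, 0, (-5), 13], [(-1), 0, (-6), (-8)], [1, (-1), 4, 4]], [[0, 1, (-2), 4], [0, 1,
    (-2), 4], [], [], [(-282), (-445), 1308, (-5055)], [(-152), 425, (-105), 2197], [], [], [0, 1,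
    (-2), 4], [0, 1, (-2), 4], [(-152), 425, (-105), 2197], [(-271), (-639), 1559, (-6601)]], [[0,
    (-1), 2, (-4)], [0, (-1), 2, (-4)], [0, 1, (-1), 10], [0, (-1), 1, (-10)], [1, (-2), 4, 7], [1,
    (-3), 6, 6], [], [], [], [], [], [452, (-499), (-1468), 702]], [[(-149), 410, (-88), 2139],
    [(-780), 269, 2309, (-3930)], [], [], [(-1), 3, (-6), (-6)], [(-1), 2, (-4), (-7)], [(-1), 6,
    (-12), 28], [(-1), 3, (-7), (-10)], [(-1), 2, (-4), (-7)], [(-1), 3, (-6), (-6)], [(-149), 410,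
    (-88), 2139], [(-153), 426, (-107), 2186]], [[0, 0, 1], [0, 0, (-1)], [0, 0, (-2), (-4)], [0, 0,
    (-1)], [0, 0, 0, 9], [0, 0, 0, (-9)], [0, 0, (-2), 1], [0, 0, 2, (-1)], [], [], [0, 0, 1, 9], []],
    [[], [], [0, 0, 0, 1], [0, 0, 0, (-1)], [0, 0, 1, 3], [], [0, 0, (-1), (-5)], [0, 0, (-1), (-5)],
    [], [], [], []], [[0, 0, 0, 3], [0, 0, (-1)], [0, 0, (-1), 1], [0, 0, 1, (-1)], [], [], [0, 0, 3,
    4], [0, 0, (-3), (-4)], [], [], [], [0, 0, 1]], [[0, 0, 0, 3], [0, 0, 1, 2], [0, 0, (-1)], [], [],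
    [], [], [0, 0, 2, 4], [], [0, 0, 1, 3], [], []], [[0, 0, 0, (-1)], [0, 0, 0, (-1)], [], [0, 0,
    (-2), (-7)], [0, 0, (-3), (-7)], [], [0, 0, (-2), (-4)], [], [0, 0, 0, (-1)], [0, 0, (-3), (-8)],
    [], []], [[], [], [0, 0, (-1), 1], [0, 0, 0, 1], [], [], [0, 0, 0, 3], [0, 0, 0, 3], [0, 0, 3, 8],
    [0, 0, 0, 1], [], []], [[0, (-4), (-20), 70], [0, 4, 20, (-70)], [0, 0, 0, (-1)], [0, 0, 1, (-1)],
    [], [], [0, 0, 2, 3], [0, 0, 2, 3], [], [], [0, (-5), 79, (-235)], []], [[0, 1, (-6), 32], [0,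
    (-1), 6, (-32)], [], [], [], [], [0, 0, (-3), 13], [0, 0, 3, (-13)], [], [], [0, 1, (-6), 32],
    [(-1), (-3), 64, (-212)]], [[0, (-1), 1, (-7)], [0, 1, (-1), 7], [], [], [], [], [], [], [], [],
    [0, 1, (-6), 32], [0, 1, (-1), 8]], [[0, (-3), 5, (-14)], [0, (-3), 5, (-13)], [], [], [0, (-3),
    5, (-12)], [0, (-3), 5, (-15)], [0, (-3), 5, (-15)], [0, (-3), 17, (-53)], [], [], [0, (-3), 5,
    (-14)], [0, (-3), 5, (-14)]]]

/-- The values, a part. -/
def formData1 : List (List (List ℤ)) :=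
  [[[], [], [0, 2, (-2), (-15)], [0, 3, (-6), 15], [0, 3, (-5), 15], [0, 3, (-5), 12], [0, (-1), 9,
    (-43)], [0, (-3), (-15), 2], [(-27235), (-211061), 133117, (-1535577)], [(-27208), (-211063),
    133013, (-1535410)], [], []], [[0, (-3), (-20), 63], [0, (-3), (-20), 61], [0, 0, (-1)], [], [0,
    (-1), (-29), 76], [0, 1, 29, (-76)], [0, 3, 15, (-2)], [0, 1, (-9), 43], [], [0, 0, (-2)], [0,
    (-3), 67, (-195)], [(-14), 9, 140, (-264)]], [[(-135), 202, 411, 184], [(-4), 19, 26, 90], [], [0,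
    0, 1], [0, 1, 27, (-76)], [0, (-1), (-27), 76], [(-40), (-321000), (-4706), (-1772359)], [(-5195),
    (-7862), 20037, (-101123)], [0, 0, 2], [], [0, (-3), 71, (-195)], [(-14), 9, 140, (-264)]], [[],
    [], [0, 0, (-1)], [], [], [], [], [], [], [], [], []], [[], [], [0, 0, 3, (-4)], [0, 0, (-3), 4],
    [], [], [0, 0, 0, 4], [], [], [], [], []], [[], [], [0, 0, (-3)], [0, 0, 3], [0, (-1), (-1),
    (-10)], [0, 1, 1, 10], [], [0, 0, 0, (-4)], [0, 0, 1], [], [], []], [[0, 0, 0, 2], [], [0, 4,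
    (-10), 32], [0, (-4), 10, (-32)], [0, 1, 0, 10], [0, (-1), 0, (-10)], [], [], [], [0, 0, (-1)],
    [], []], [[0, 0, (-1), (-2)], [0, 0, 0, (-3)], [0, 0, (-2), 4], [0, 0, 2, (-4)], [], [], [0, 0,
    1], [0, 0, 1], [0, 0, 1], [], [0, 0, 1], [0, 0, 0, (-3)]], [[0, 0, 1], [0, 0, 0, (-3)], [0, 0, 1],
    [0, 0, 2, 4], [], [], [0, 0, 3, 3], [0, 0, (-3), (-3)], [], [0, 0, 1], [0, 0, 1], [0, 0, 0,
    (-3)]], [[], [], [1, (-2), 4, 7], [1, (-3), 5, 6], [], [], [1, (-3), 7, 10], [1, (-6), 12, (-28)],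
    [1, (-3), 6, 6], [1, (-2), 4, 7], [279, 414, (-2154), 6406], [(-235810), (-1887958), 984459,
    (-13159595)]], [[], [], [0, (-1), 1, (-10)], [0, 1, (-1), 10], [], [], [0, (-4), (-15), (-8)], [0,
    0, (-25), 31], [], [], [(-48), 71, (-82), 395], [452, (-501), (-1467), 684]], [[], [], [1, (-1),
    (-19), 76], [1, (-2), (-23), 76], [(-1), 10, (-45), 153], [(-1), 10, (-45), 153], [0, 6, (-61),
    220], [0, 6, (-61), 220], [0, (-1), 2, (-4)], [0, (-1), 2, (-4)], [(-44467), (-225222), 199597,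
    (-1806355)], [(-48), (-643), 543, (-4588)]], [[0, (-4), 11, (-35)], [0, 4, (-11), 35], [(-1), 2,
    23, (-76)], [(-1), 1, 19, (-76)], [0, 0, (-4), 1], [0, 0, 4, (-1)], [(-1), 0, (-28), 68], [(-1),
    8, (-38), 144], [0, 0, 5, (-13)], [0, 0, 3, (-13)], [(-1), 0, 1, (-18)], []], [[0, (-1), 1, (-8)],
    [0, 1, (-1), 8], [], [], [0, (-1), 6, (-32)], [0, (-1), 6, (-32)], [1, (-8), 38, (-144)], [1, 0,
    28, (-68)], [], [], [], [0, (-1), 6, (-32)]], [[0, (-1), 1, (-8)], [0, 1, (-1), 8], [0, 0, 2, 7],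
    [], [], [], [], [], [], [], [], []], [[0, (-1), 1, (-10)], [0, 1, (-1), 10], [], [0, 0, 1], [0, 0,
    2, (-1)], [0, 0, (-2), 1], [], [], [0, 0, 4, 3], [0, 0, 2, 3], [(-1), 1, (-4), (-4)], [1, 0, 6,
    8]], [[0, 0, 0, 1], [0, 0, 0, 1], [0, 0, 2, (-4)], [0, 0, (-2), 4], [], [], [0, 0, (-1)], [0, 0,
    (-1)], [], [], [], []], [[0, 0, 0, 1], [0, 0, 0, 1], [], [0, 0, 1], [], [], [0, 0, 2, 7], [0, 0,
    (-2), (-6)], [], [], [0, 0, 0, 1], [0, 0, 0, 1]], [[0, 0, 0, (-1)], [0, 0, 0, (-1)], [0, (-3), 6,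
    (-15)], [0, (-2), 2, 15], [], [0, 0, 3, 7], [0, 0, 2, 6], [0, 0, (-2), (-7)], [0, 0, 0, (-1)], [0,
    0, 0, (-1)], [0, 0, 0, (-1)], [0, 0, 0, (-1)]], [[], [], [(-27208), (-211066), 133020,
    (-1535424)], [(-27235), (-211063), 133111, (-1535525)], [], [], [87527, 657643, (-475077),
    4889031], [137361, 451721, (-766555), 4508037], [0, 0, 0, 1], [0, 0, 0, 1], [], []], [[27235,
    211061, (-133117), 1535577], [27199, 209639, (-133285), 1528048], [27235, 211063, (-133111),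
    1535525], [27208, 211066, (-133020), 1535424], [27208, 211066, (-133018), 1535424], [27200,
    209640, (-133256), 1527970], [], [], [27208, 211063, (-133013), 1535410], [27235, 211061,
    (-133117), 1535577], [27208, 211063, (-133013), 1535410], []], [[0, (-3), 5, (-14)], [0, (-3), 5,
    (-14)], [], [], [(-27200), (-209640), 133256, (-1527970)], [(-27208), (-211066), 133018,
    (-1535424)], [0, 0, 3, (-13)], [0, 0, (-3), 13], [], [], [0, (-3), 0, 25], [(-1), 5, 3, (-13)]],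
    [[], [0, 0, 0, (-2)], [0, 0, 0, (-1)], [0, 0, 1, (-1)], [0, 1, 1, 6], [0, (-1), (-1), (-6)], [0,
    0, 0, (-1)], [0, 0, 0, (-1)], [0, 0, (-1), (-2)], [0, 0, (-1), (-2)], [0, (-1), 5, 7], [0, (-1),
    0, (-10)]], [[0, 4, 20, (-70)], [0, (-4), (-20), 70], [0, (-1), 0, (-6)], [0, 1, 0, 6], [], [],
    [(-1), 5, 23, (-64)], [(-1), 5, 15, (-62)], [0, (-11), 18, (-85)], [0, (-5), 9, (-41)], [0, (-14),
    (-3), (-7)], [0, (-11), 18, (-85)]], [[0, 4, 20, (-69)], [0, (-4), (-20), 69], [0, 1, (-8), 8],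
    [0, (-1), 8, (-8)], [0, 4, 18, (-68)], [0, (-4), (-18), 68], [1, (-5), (-15), 62], [1, (-5),
    (-23), 64], [0, 0, 17, (-87)], [0, 0, (-17), 87], [], [0, (-8), (-38), 137]], [[], [], [0, (-1),
    0, (-1)], [0, 1, 0, 1], [1, (-10), 45, (-153)], [1, (-10), 45, (-153)], [(-876), 1251, 1728,
    2347], [(-246), 728, (-30), 3584], [(-267), 573, 15, 2478], [(-650), 714, 1572, 163], [(-267),
    573, 15, 2480], [453, (-512), (-1424), 538]], [[780, (-269), (-2309), 3930], [149, (-410), 88,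
    (-2139)], [258, 752, (-1772), 7620], [(-258), (-752), 1772, (-7620)], [152, (-425), 105, (-2197)],
    [282, 445, (-1308), 5055], [246, (-728), 30, (-3584)], [876, (-1251), (-1728), (-2347)], [650,
    (-714), (-1572), (-163)], [267, (-573), (-15), (-2478)], [], [148, (-408), 84, (-2146)]]]

/-- The values, a part. -/
def formData2 : List (List (List ℤ)) :=
  [[[0, (-3), 6, (-24)], [0, (-5), 8, (-43)], [0, (-1), 1, (-10)], [0, 1, (-1), 10], [], [], [], [],
    [], [], [], []], [[], [], [0, (-1), 0, (-10)], [0, 1, 0, 10], [0, 0, (-1)], [0, 0, (-1)], [], [],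
    [], [], [], []], [[1, 2, (-14), (-20)], [18, (-106), (-44), (-494)], [], [], [0, 0, 1], [0, 0, 1],
    [], [0, 0, (-5), (-6)], [0, 0, 1], [0, 0, 1], [0, 0, 1], [0, 0, 1]], [[], [], [], [0, 0, 1, (-4)],
    [], [0, 0, 0, 4], [0, 0, 5, 6], [], [0, 0, 0, (-4)], [], [], []], [[], [], [0, 0, 1], [0, 0, 2],
    [0, 4, (-14), 46], [0, 4, (-12), 48], [0, 0, 2, 4], [0, 0, 2, 10], [], [0, 0, 0, 4], [], [0, 0, 0,
    (-4)]], [[], [], [0, 0, (-2)], [0, 0, (-1)], [0, 0, (-2), 4], [0, 0, (-2), 4], [0, 0, 1, 10], [0,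
    0, 1, 16], [], [0, 0, (-2)], [0, 0, 0, (-4)], []], [[0, 0, 7, (-28)], [0, 0, (-5), 18], [0, 0, 1],
    [], [0, 0, 2, (-4)], [0, 0, 2, (-4)], [], [], [0, 0, 0, (-4)], [], [], []], [[0, 0, 5, (-18)], [0,
    0, (-7), 28], [0, 7, 46, (-83)], [2, (-7), 11, (-85)], [0, 0, (-5), 19], [0, 0, 5, (-22)], [], [],
    [0, 0, 5, (-22)], [0, 0, (-5), 19], [0, 0, 5, (-18)], [0, 0, (-3), 11]], [[0, 0, (-2)], [0, 0,
    (-2)], [0, 7, 48, (-94)], [4, (-21), (-6), (-137)], [], [], [(-13), 79, 46, 348], [2, (-3), 33,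
    (-137)], [0, 0, 5, (-19)], [0, 0, (-5), 22], [0, 0, (-2)], []], [[], [], [(-4), 21, 6, 137], [0,
    (-7), (-48), 94], [], [], [2, (-10), (-15), (-43)], [2, (-10), (-15), (-43)], [], [], [(-2), 7,
    (-21), 100], []], [[0, 0, 2, 2], [], [0, 0, 4, 2], [59, (-72), (-119), 12], [], [], [0, 0, 1,
    (-2)], [], [], [], [], []], [[0, 0, 1], [0, 0, (-1)], [0, 0, 2], [], [0, 0, 3], [], [], [0, 0,
    (-1), 2], [], [0, 0, 1], [], [0, 0, 1]], [[0, 0, (-1)], [0, 0, (-1)], [0, 0, 2], [0, 0, 1], [0, 0,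
    (-1)], [0, 0, (-1)], [0, 0, (-1), (-1)], [0, 0, (-1), (-1)], [0, 0, (-1)], [], [0, 0, (-1)], [0,
    0, (-1)]], [[], [], [0, 0, (-1)], [0, 0, (-2)], [], [], [], [0, 0, 1], [], [], [], []], [[], [],
    [1, (-10), (-11), (-21)], [(-8), 29, (-82), 349], [], [], [], [], [], [], [(-47), 65, 172,
    (-152)], []], [[(-1), (-19), 90, (-248)], [(-12), 53, 97, 130], [(-12), 53, 97, 130], [(-1),
    (-16), 111, (-311)], [6, (-53), 13, (-432)], [(-6), 53, (-13), 432], [], [], [], [], [14, (-9),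
    (-140), 264], [(-1), (-19), 3, 8]], [[(-1), (-16), 108, (-311)], [(-1), (-14), 126, (-374)],
    [(-1), (-14), 124, (-374)], [(-1), (-16), 107, (-311)], [0, (-2), (-7), 50], [0, 2, 7, (-50)], [],
    [], [], [], [14, (-9), (-140), 264], []], [[], [], [1, 16, (-107), 311], [1, 14, (-124), 374], [0,
    0, (-21), 28], [0, 0, (-21), 28], [0, 0, 2, 1], [0, 0, 2, 1], [0, 0, 3], [0, 0, 3], [1, (-5),
    (-4), (-27)], []], [[0, 6, (-39), 188], [0, 6, (-39), 188], [0, 1, 31, (-41)], [0, (-1), (-31),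
    41], [0, 0, 21, (-28)], [0, 0, 21, (-28)], [0, 0, 25, (-31)], [0, 4, 15, 8], [0, 4, 15, 8], [0, 4,
    16, 8], [], [0, 0, 50, (-77)]], [[0, 5, (-8), 43], [0, 3, (-6), 24], [], [], [0, 3, (-6), 24], [0,
    1, (-2), 5], [], [], [0, 1, (-2), 5], [0, 5, (-8), 43], [0, 1, (-2), 5], [0, 1, (-2), 5]], [[0, 4,
    20, (-69)], [0, (-4), (-20), 69], [], [], [0, 14, 3, 7], [0, 14, 3, 7], [], [], [], [], [], [0,
    14, 3, 7]], [[0, 4, 20, (-69)], [0, (-4), (-20), 69], [(-1), 6, (-93), 270], [5, 36, (-93), 166],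
    [0, 4, 18, (-68)], [0, (-4), (-18), 68], [], [], [0, 0, 17, (-87)], [0, 0, (-17), 87], [0, 8, 38,
    (-137)], []], [[0, (-1), 1, (-8)], [0, 1, (-1), 8], [0, (-6), 99, (-310)], [(-1), (-2), 58,
    (-181)], [0, 1, (-6), 32], [0, 1, (-6), 32], [], [], [(-1), (-2), 58, (-181)], [(-1), (-4), 66,
    (-220)], [0, (-1), 1, (-8)], []], [[0, (-1), 1, (-7)], [0, 1, (-1), 7], [0, (-10), 86, (-326)],
    [0, (-6), 99, (-310)], [0, 4, 5, 40], [0, (-4), (-5), (-40)], [], [], [0, 0, 3, (-13)], [0, 0,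
    (-3), 13], [1, (-7), (-36), 165], [1, (-5), (-36), 178]], [[0, 0, 1, (-1)], [0, 0, 1, (-1)], [0,
    6, (-99), 310], [0, 10, (-86), 326], [0, 1, (-4), (-6)], [0, (-1), 5, 6], [], [], [0, 0, 5,
    (-16)], [0, 0, (-5), 16], [0, 0, (-1), 13], [0, (-1), 10, (-31)]], [[0, 0, (-1), 1], [0, 0, (-1),
    1], [0, (-2), 17, (-12)], [0, 2, (-17), 12], [0, 1, (-5), (-6)], [0, (-1), 4, 6], [], [], [0, 0,
    (-3), 13], [0, 0, 3, (-13)], [0, 0, (-2), 14], [0, (-1), 9, (-32)]], [[0, (-4), 5, (-34)], [0,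
    (-4), 5, (-36)], [0, 1, 0, 10], [0, (-1), 0, (-10)], [0, (-4), 5, (-36)], [0, (-4), 13, (-37)],
    [], [], [0, (-4), (-16), (-8)], [0, (-4), (-15), (-8)], [0, (-4), 5, (-34)], [0, (-4), 5, (-34)]]]

/-- The values, a part. -/
def formData3 : List (List (List ℤ)) :=
  [[[], [], [1, 16, (-111), 311], [12, (-53), (-97), (-130)], [0, 4, (-13), 37], [0, 4, (-5), 36],
    [0, 0, (-2), (-9)], [0, 0, (-2), (-9)], [0, 0, (-3)], [0, 0, (-3)], [], []], [[], [], [8, (-29),
    82, (-349)], [(-1), 10, 11, 21], [0, 0, 0, 8], [0, 0, 0, 4], [0, 0, 2, 9], [0, 0, 2, 9], [0, 0, 0,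
    4], [0, 0, 0, 4], [], [0, 0, 0, 4]], [[], [], [8, (-29), 81, (-353)], [(-1), 10, 10, 17], [], [],
    [1, 2, (-9), (-15)], [(-4), 15, 23, (-43)], [0, 0, 0, (-4)], [0, 0, 0, (-4)], [0, 0, 0, (-4)],
    []], [[(-8), 29, (-78), 349], [9, (-108), 59, (-839)], [1, (-10), (-10), (-17)], [(-8), 29, (-81),
    353], [], [], [], [], [], [], [14, 134, (-73), 963], []], [[], [], [], [0, 0, (-2)], [], [], [0,
    0, (-1), 2], [17, (-131), (-9), (-715)], [], [], [], []], [[], [], [(-59), 72, 119, (-12)], [0, 0,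
    (-4), (-2)], [(-1), 0, 7, 9], [(-18), 148, 24, 766], [(-17), 131, 9, 715], [0, 0, 1, (-2)], [],
    [], [], [(-64), 196, 182, 560]], [[], [], [0, 0, (-11), (-4)], [0, 0, (-3), (-2)], [], [], [], [],
    [], [], [], [(-5), 124, 53, 568]], [[0, 0, 8, 4], [0, 0, 8, 4], [0, 0, 3, 2], [0, 0, 11, 4], [],
    [], [0, 0, 0, (-3)], [0, 0, 0, (-3)], [], [], [1, (-5), (-10), (-19)], []], [[2, (-14), (-14),
    (-30)], [2, (-14), (-14), (-32)], [(-2), 7, (-11), 85], [0, (-7), (-46), 83], [], [], [0, 39,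
    (-100), 445], [(-4), 59, (-50), 473], [], [], [0, (-7), (-43), 69], [2, (-14), (-15), (-31)]],
    [[], [], [], [0, 0, (-1)], [0, 4, (-14), 48], [0, 4, (-16), 46], [4, (-59), 50, (-473)], [0,
    (-39), 100, (-445)], [0, 0, 0, (-4)], [0, 0, 0, (-4)], [], [2, 35, 1, 165]], [[], [], [0, 0, (-1),
    4], [], [0, 0, (-2), 8], [0, 0, (-2), 8], [0, 0, 1, (-4)], [], [0, 0, 0, 4], [0, 0, 0, 4], [],
    []], [[0, 0, 2], [0, 0, 2], [], [0, 0, 1, (-4)], [], [], [], [], [], [0, 0, 0, 4], [], []], [[],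
    [0, 0, 2], [0, 0, (-1), 4], [], [], [], [], [0, 0, 4, 10], [0, 0, 2], [], [], []], [[0, (-1), 5,
    9], [0, 1, 0, 10], [], [], [0, 1, 0, 10], [0, (-1), 0, (-10)], [0, 0, (-4), (-10)], [], [], [0, 0,
    (-1)], [0, 1, 0, 10], []], [[0, (-1), (-1), (-10)], [0, (-1), 4, 6], [], [0, 0, 2], [0, (-1), 4,
    6], [0, 1, (-4), (-6)], [], [], [0, 0, 1], [], [0, (-1), (-1), (-6)], []], [[], [], [0, 0, (-2)],
    [], [], [], [0, 0, (-2)], [0, 0, (-2)], [0, 0, (-1)], [0, 0, (-1)], [], []], [[0, (-6), 39,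
    (-188)], [0, (-6), 39, (-188)], [], [], [0, (-6), 60, (-215)], [0, (-6), 60, (-216)], [0, (-6),
    61, (-220)], [0, (-6), 61, (-220)], [0, (-6), 60, (-216)], [0, (-6), 60, (-216)], [0, (-6), 60,
    (-216)], [1, (-11), 53, (-243)]], [[223143, 1892666, (-1331369), 14024245], [224229, 1886649,
    (-1333041), 13994496], [35077, 1659291, (-590428), 10685069], [107133, 1174774, (-763844),
    8489267], [223143, 1892667, (-1331370), 14024234], [(-40), (-320995), (-4644), (-1772593)], [],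
    [], [(-1085), 1207937, (-408936), 7675176], [107133, 1174774, (-763845), 8489267], [7, (-58), 18,
    (-371)], [(-6), 19, 20, 83]], [[(-224229), (-1886649), 1333041, (-13994496)], [(-223143),
    (-1892666), 1331369, (-14024245)], [], [], [40, 320995, 4644, 1772593], [(-223143), (-1892667),
    1331370, (-14024234)], [(-137361), (-451721), 766555, (-4508037)], [(-87527), (-657643), 475077,
    (-4889031)], [(-107133), (-1174774), 763845, (-8489267)], [1085, (-1207937), 408936, (-7675176)],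
    [(-107126), (-1174832), 763863, (-8489640)], [(-137378), (-451585), 766632, (-4507436)]], [[], [],
    [], [], [], [], [], [], [], [], [], []], [[], [], [93248, (-449778), (-287224), (-1688041)],
    [(-93248), 449778, 287223, 1688041], [], [], [86, 20728, (-6399), 131579], [47034, 325236,
    (-218734), 2400689], [], [], [], []], [[], [], [], [], [], [], [(-47034), (-325236), 218734,
    (-2400689)], [(-86), (-20728), 6399, (-131579)], [], [], [], []], [[], [], [39968, (-14173),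
    (-39202), 59580], [(-7422), (-483796), 239866, (-3276415)], [], [], [132257, 1085713, (-737082),
    7950728], [7777, 1059857, (-265103), 6535550], [], [], [], []], [[], [], [7422, 483796, (-239866),
    3276415], [(-39968), 14173, 39202, (-59580)], [0, (-1), 1, 11], [0, (-1), 1, 11], [(-7777),
    (-1059857), 265103, (-6535550)], [(-132257), (-1085713), 737082, (-7950728)], [72086, (-484695),
    (-173490), (-2196584)], [71033, (-498615), (-199023), (-2206593)], [(-147116), (-1160534), 803133,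
    (-8548701)], [(-27661), (-1175477), 350579, (-7408576)]], [[], [], [], [], [0, 1, (-1), (-11)],
    [0, 1, (-1), (-11)], [(-137412), (-772575), 761797, (-6279427)], [(-103932), (-684653), 569791,
    (-5303201)], [(-71033), 498615, 199023, 2206593], [(-72086), 484695, 173490, 2196584], [(-147127),
    (-1160473), 803181, (-8548481)], [(-137381), (-451577), 766674, (-4507477)]], [[], [], [93248,
    (-449778), (-287223), (-1688041)], [(-93248), 449778, 287224, 1688041], [], [], [103932, 684653,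
    (-569791), 5303201], [137412, 772575, (-761797), 6279427], [], [], [], []], [[], [], [(-107133),
    (-1174774), 763844, (-8489267)], [(-35077), (-1659291), 590428, (-10685069)], [], [], [5195, 7862,
    (-20037), 101123], [40, 321000, 4706, 1772359], [], [], [], []]]

/-- The values, a part. -/
def formData4 : List (List (List ℤ)) :=
  [[[0, 1, 1, 13], [0, 1, 1, 11], [6, 28, (-15), (-6)], [(-6), (-28), 15, 6], [0, 0, (-1), (-4)],
    [0, 2, 2, 26], [], [], [0, 0, (-1)], [0, 0, 1], [], [0, 1, 1, 13]], [[0, (-1), (-1), (-11)], [0,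
    (-1), (-1), (-13)], [(-5), (-36), 93, (-166)], [1, (-6), 93, (-270)], [0, (-2), (-2), (-26)], [0,
    0, 1, 4], [(-5), (-36), 95, (-159)], [(-5), (-36), 93, (-166)], [0, 0, (-3), (-4)], [0, 0, 3, 4],
    [0, (-1), (-2), (-15)], []], [[0, 0, 1, 3], [0, 0, 1], [0, 0, 2, 1], [0, 0, 2, 1], [], [], [0, 0,
    2, 1], [0, 0, 1, 1], [0, 0, 1, 2], [0, 0, 0, (-1)], [0, 0, 0, 3], []], [[], [], [], [0, 0, 1], [],
    [], [0, 0, (-1), (-1)], [0, 0, (-2), (-1)], [], [], [], []], [[], [], [], [], [], [], [], [], [0,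
    0, 2, 5], [0, 0, 2, 5], [34430, 223085, (-164048), 1674433], []], [[(-22), (-366), 177, (-2533)],
    [(-22), (-366), 177, (-2533)], [0, 0, 2, 5], [0, 0, 2, 5], [18, (-100), (-96), (-245)], [18,
    (-100), (-96), (-246)], [], [], [0, 0, 2, 5], [0, 0, 2, 5], [1, 15, (-12), 16], [0, 0, (-2), 2]],
    [[26, 103, (-145), 897], [(-587), (-945), 3007, (-12354)], [], [], [0, 0, (-3), (-4)], [0, 0,
    (-3), (-3)], [], [], [0, 0, (-2), (-5)], [0, 0, (-2), (-5)], [1, 15, (-14), 11], [0, 0, (-3),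
    (-3)]], [[(-5), (-35), 94, (-154)], [0, (-25), 62, (-234)], [0, 1, 0, 8], [0, (-1), 0, (-8)], [],
    [], [], [], [], [], [0, 0, 3, 3], []], [[1, 32, (-3), 60], [(-4), 16, 43, 8], [0, (-7), 88,
    (-283)], [0, (-7), 88, (-283)], [], [], [0, (-6), 59, (-191)], [0, (-6), 88, (-276)], [0, (-7),
    89, (-283)], [0, 31, 11, 90], [0, 0, 0, (-1)], [(-556), (-991), 2867, (-12286)]], [[1, 14, (-126),
    374], [1, 16, (-108), 311], [0, 0, (-1)], [], [0, 1, 29, (-76)], [0, (-1), (-29), 76], [0, 6,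
    (-88), 276], [0, 6, (-59), 191], [0, 0, (-2)], [0, 0, (-2)], [1, 12, (-133), 424], [0, 3, (-71),
    195]], [[], [], [56849, (-439967), (-175514), (-1950769)], [(-189152), (-227358), 742613,
    (-3309427)], [], [], [4897, 7842, (-18660), 97680], [(-19835), (-115597), 85452, (-872654)], [],
    [], [], []], [[(-27199), (-209639), 133285, (-1528048)], [(-27235), (-211061), 133117,
    (-1535577)], [137, (-181), (-515), 211], [1, 11, (-38), 134], [], [], [19835, 115597, (-85452),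
    872654], [(-4897), (-7842), 18660, (-97680)], [], [], [140, (-193), (-515), 66], [0, 0, (-5),
    39]], [[], [], [0, 0, 2, 1], [0, 0, 1, 1], [0, (-1), (-1), (-6)], [0, 1, 1, 6], [0, 0, 0, (-3)],
    [0, 0, 0, (-3)], [0, 0, 1, 2], [0, 0, 1, 2], [0, (-1), (-1), (-10)], [0, 1, 1, 6]], [[0, 25,
    (-62), 234], [5, 35, (-94), 154], [], [], [6, 50, (-105), 168], [1, 40, (-72), 248], [5, 36,
    (-93), 166], [5, 36, (-95), 159], [1, 40, (-72), 248], [1, 40, (-72), 248], [33, (-494), 30,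
    (-3280)], [5, 35, (-94), 154]], [[0, 0, 1, 4], [0, 0, 1, 4], [43809, 160495, (-190301), 1398874],
    [44983, 270142, (-127089), 1843771], [0, 0, (-1), (-2)], [0, 0, 0, 1], [], [0, 0, 2, 3], [0, 0, 0,
    1], [0, 0, (-1), (-2)], [], [0, 0, (-1), (-2)]], [[], [], [42245, 304525, (-206903), 2234513],
    [34365, 223788, (-163918), 1678085], [], [], [0, 0, (-2), (-3)], [], [0, 0, 0, (-1)], [0, 0, 0,
    (-1)], [], []], [[], [], [(-34365), (-223788), 163918, (-1678085)], [(-42245), (-304525), 206903,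
    (-2234513)], [(-22541), (-436946), 48501, (-2548639)], [(-83272), 91221, 157850, 39820], [], [],
    [(-60236), (-329478), 263335, (-2526479)], [(-34365), (-223788), 163918, (-1678086)], [(-44237),
    (-158074), 190915, (-1385595)], []], [[9204, 110813, (-64329), 785387], [9204, 110813, (-64329),
    785387], [], [], [83272, (-91221), (-157850), (-39820)], [22541, 436946, (-48501), 2548639], [],
    [], [34365, 223788, (-163918), 1678086], [60236, 329478, (-263335), 2526479], [34398, 223978,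
    (-163923), 1679143], [25227, 114025, (-98783), 897319]], [[(-9204), (-110813), 64329, (-785387)],
    [(-9204), (-110813), 64329, (-785387)], [], [], [31792, 233688, (-155225), 1706306], [31792,
    233688, (-155225), 1706306], [(-168), 279, 552, 168], [(-168), 279, 552, 168], [(-149776),
    (-347647), 528750, (-3374745)], [40970, 344402, (-219380), 2490695], [59128, 400391, (-239612),
    2850119], [1193, 49293, (-18408), 322943]], [[], [], [], [], [], [], [(-168), 279, 552, 168],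
    [(-168), 279, 552, 168], [], [], [], []], [[], [], [], [], [], [], [168, (-279), (-552), (-168)],
    [168, (-279), (-552), (-168)], [], [], [0, (-264), 61, (-1752)], []], [[0, 264, (-61), 1752], [75,
    118, (-192), 1423], [0, (-1), 3, 10], [0, (-1), 3, 10], [32, 26, (-59), 366], [32, 26, (-59),
    366], [], [], [(-19), (-362), 525, (-3331)], [33, 39, (-78), 457], [75, 118, (-191), 1423], [0,
    264, (-61), 1752]], [[], [], [], [], [], [], [], [], [], [], [], []], [[], [], [], [], [0, 0,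
    (-1)], [0, 0, (-1)], [0, (-1), 3, 10], [0, (-1), 4, 10], [], [], [0, 0, (-1)], [0, 0, (-1)]], [[],
    [], [], [], [0, 0, (-1)], [0, 0, (-1)], [], [], [], [], [0, 0, (-1)], [0, 0, (-1)]], [[], [],
    [(-137), 679, 304, 2879], [(-16), 163, 40, 836], [0, 0, 1], [0, 0, 1], [45, 24, (-81), 266], [45,
    24, (-88), 322], [0, 0, 1], [0, 0, 1], [], []], [[], [], [16, (-163), (-40), (-836)], [137,
    (-679), (-304), (-2879)], [], [], [], [], [], [], [], []]]

/-- The values, a part. -/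
def formData5 : List (List (List ℤ)) :=
  [[[], [], [], [], [], [], [], [], [], [], [], []], [[], [], [], [], [], [], [], [], [], [], [],
    [0, 0, (-1), (-1)]], [[0, 0, (-1)], [0, 0, (-1), (-3)], [], [], [], [], [], [], [], [0, 0, (-1)],
    [0, 0, (-1)], [0, 0, (-1)]], [[], [], [], [], [119377, 31889, (-326385), 1143775], [(-36628),
    (-408453), 201285, (-2788093)], [], [], [], [], [], []], [[], [], [(-1), (-263), 65, (-1705)],
    [10, (-3), (-16), (-15)], [], [], [597, 563, (-2863), 9556], [0, 52, (-76), 419], [], [], [], []],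
    [[22, 366, (-177), 2533], [22, 366, (-177), 2533], [21, 103, (-108), 832], [21, 103, (-108), 830],
    [1, (-37), 64, (-402)], [19, (-151), (-35), (-696)], [0, (-52), 76, (-419)], [(-597), (-563),
    2863, (-9556)], [(-569), (-1090), 2900, (-12735)], [21, 103, (-108), 832], [], [1, (-37), 64,
    (-402)]], [[587, 945, (-3007), 12354], [(-26), (-103), 145, (-897)], [], [], [587, 945, (-3010),
    12351], [(-28), 529, (-124), 3434], [(-28), 527, (-35), 3183], [(-26), (-103), 145, (-896)],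
    [(-21), (-103), 108, (-832)], [569, 1090, (-2900), 12735], [556, 991, (-2867), 12286], [(-33),
    494, (-30), 3280]], [[4, (-16), (-43), (-8)], [(-1), (-32), 3, (-60)], [4, (-15), (-22), 44], [4,
    (-15), (-14), 37], [(-1), (-40), 72, (-248)], [(-6), (-50), 105, (-168)], [], [], [], [], [4,
    (-16), (-43), (-9)], [(-1), (-15), 14, (-11)]], [[4, (-19), (-26), (-90)], [135, (-202), (-411),
    (-184)], [(-1), (-11), 38, (-134)], [(-137), 181, 515, (-211)], [136, (-193), (-473), 45],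
    [(-136), 193, 473, (-45)], [(-19608), 51015, 44234, 154066], [76683, (-324381), (-260928),
    (-1078249)], [(-137), 181, 516, (-211)], [(-1), (-11), 38, (-134)], [], [(-1), (-12), 133,
    (-424)]], [[], [], [189152, 227358, (-742613), 3309427], [(-56849), 439967, 175514, 1950769], [],
    [], [(-76683), 324381, 260928, 1078249], [19608, (-51015), (-44234), (-154066)], [], [], [], []],
    [[0, 0, (-1), (-4)], [0, 0, (-1), (-4)], [], [], [0, 0, 1, 3], [], [], [0, 0, 1], [0, 0, 1], [],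
    [], []], [[], [], [14406, 149382, (-86735), 1056900], [5387, 38459, (-23017), 272503], [], [], [0,
    0, (-1)], [], [], [], [], []], [[], [], [(-5387), (-38459), 23017, (-272503)], [(-14406),
    (-149382), 86735, (-1056900)], [], [], [(-5203), (-7755), 20142, (-100912)], [(-52248), (-333404),
    239148, (-2504522)], [], [], [], []], [[], [], [], [], [], [], [75, 118, (-191), 1424], [(-184),
    165, 551, (-488)], [0, 0, (-1)], [], [], []], [[], [], [105469, (-41512), (-262801), 560754],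
    [(-14379), (-149286), 86594, (-1056023)], [], [], [75, 118, (-191), 1423], [(-14), 10, 8, 154],
    [], [], [], []], [[], [0, 0, (-1)], [14379, 149286, (-86594), 1056023], [(-105469), 41512, 262801,
    (-560754)], [], [], [31, 34, (-74), 424], [14, 165, (-66), 1141], [], [], [], []], [[], [], [],
    [], [], [], [(-14), (-165), 66, (-1141)], [(-31), (-34), 74, (-424)], [], [], [], [202, (-248),
    (-618), 259]], [[187, (-242), (-496), (-101)], [141, (-256), (-431), (-314)], [], [], [], [],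
    [(-31), (-34), 72, (-430)], [170, (-274), (-559), (-107)], [], [], [], []], [[], [], [], [], [],
    [], [(-170), 274, 559, 107], [31, 34, (-72), 430], [], [], [], []], [[0, 0, (-1)], [0, 0, (-1)],
    [], [], [0, 0, (-1)], [0, 0, (-1)], [31, 34, (-72), 430], [31, 34, (-72), 430], [], [], [0, 0,
    (-1)], [3081, (-21809), (-7408), (-97428)]], [[0, 0, 1], [0, 0, 1], [0, 1, (-11), 13], [0, 1,
    (-11), 13], [], [], [(-335), 14907, (-3987), 93749], [565, 1446, (-800), 10332], [1, (-9), (-16),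
    2], [27, 93, (-147), 888], [], []], [[], [], [(-16), 163, 40, 836], [1, (-5), (-7), (-10)], [],
    [], [0, 0, 0, (-1)], [0, 0, 0, (-1)], [1, (-5), (-7), (-10)], [1, (-5), (-7), (-10)], [(-84),
    (-13008), 4423, (-83828)], []], [[], [], [(-1), 5, 7, 10], [16, (-163), (-40), (-836)], [], [],
    [(-1), 8, (-17), 52], [(-1), 8, (-17), 52], [], [], [], []], [[], [], [16, (-162), (-51), (-823)],
    [(-1), 6, (-4), 23], [], [], [0, 0, (-2), (-4)], [0, 0, (-2), (-4)], [], [], [], []], [[], [],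
    [16, (-163), (-30), (-849)], [25, 108, (-135), 909], [], [], [26, 103, (-145), 896], [28, (-527),
    35, (-3183)], [], [], [], []], [[], [], [], [], [], [0, 0, (-1), (-3)], [0, 0, 0, (-3)], [], [],
    [], [], []], [[], [], [0, 0, (-2)], [0, 0, (-2), 6], [0, 0, 0, (-1)], [0, 0, 1, 2], [0, 1, 1, 13],
    [0, 1, 0, 7], [], [], [], []]]

/-- The values, a part. -/
def formData6 : List (List (List ℤ)) :=
  [[[(-43348), (-305330), 132691, (-2050894)], [(-121430), (-372069), 322699, (-2987453)],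
    [(-44983), (-270142), 127089, (-1843771)], [(-43809), (-160495), 190301, (-1398874)], [], [], [],
    [], [(-97517), 307218, 160006, 1211018], [(-92465), (-157473), 261276, (-1597304)], [], [159,
    (-320), (-331), (-1064)]], [[(-126147), (-97632), 357310, (-1555991)], [(-68552), 521814, 98579,
    2601172], [(-121091), (-410651), 332799, (-3227184)], [(-48619), (-201439), 187727, (-1618063)],
    [], [], [(-19533), 29979, 50173, 21829], [19642, 316474, (-130628), 2115961], [(-92465),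
    (-157473), 261272, (-1597299)], [(-77030), (-245489), 228725, (-2009581)], [197, (-579), (-350),
    (-2634)], [159, (-316), (-303), (-1136)]], [[68552, (-521814), (-98579), (-2601172)], [126147,
    97632, (-357310), 1555991], [0, 0, (-2), (-1)], [0, 0, (-2), (-1)], [0, 0, (-4), 5], [0, 0, (-4),
    5], [], [], [92465, 157473, (-261276), 1597304], [97517, (-307218), (-160006), (-1211018)],
    [68885, (-522536), (-99250), (-2603785)], [49094, 3805, (-72132), 240298]], [[0, 1, (-2), 7], [0,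
    1, (-2), 7], [88, 4583, (-473), 27908], [147, 4075, (-541), 25028], [], [], [], [0, 0, 0, 3],
    [147, 4075, (-540), 25028], [88, 4583, (-473), 27908], [0, 1, 1, 5], []], [[0, 1, (-2), 8], [0, 1,
    (-2), 8], [88, 4583, (-473), 27906], [88, 4583, (-473), 27906], [], [], [], [], [0, 1, (-2), 8],
    [0, 1, (-2), 8], [0, 1, (-2), 8], [0, 1, (-2), 8]], [[], [], [8070, (-153026), (-6497),
    (-808752)], [8070, (-153026), (-6497), (-808752)], [], [], [], [], [0, 0, (-5), 39], [0, 0, (-5),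
    39], [], [0, 3, (-5), 14]], [[], [], [0, 3, (-5), 15], [0, 3, (-5), 15], [0, 1, (-11), 46], [0, 1,
    (-17), 72], [0, 3, (-17), 53], [0, 3, (-5), 15], [0, 0, (-3), 13], [0, 0, 3, (-13)], [0, 1, (-10),
    31], [0, 0, 1, (-13)]], [[], [], [0, 1, (-5), 32], [0, (-1), 5, (-32)], [0, (-1), 17, (-72)], [0,
    (-1), 11, (-46)], [], [], [0, 0, (-3), 13], [0, 0, 3, (-13)], [0, 1, (-9), 32], [0, 0, 2, (-14)]],
    [[0, 3, (-5), 13], [0, 3, (-5), 14], [0, (-1), 5, (-32)], [0, 1, (-5), 32], [], [], [], [], [],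
    [], [], []], [[], [], [], [], [], [], [0, (-4), (-11), 19], [0, (-4), (-11), 19], [], [], [], []],
    [[0, 3, 20, (-61)], [0, 3, 20, (-63)], [], [], [0, 1, (-5), 32], [0, (-1), 5, (-32)], [0, 4, 11,
    (-19)], [0, 4, 11, (-19)], [1, 11, (-38), 134], [137, (-181), (-516), 211], [1, 19, (-3), (-8)],
    [0, (-1), 92, (-290)]], [[0, 0, (-1)], [0, 0, (-2)], [], [], [0, 0, (-2), 2], [0, 0, (-1), (-9)],
    [119, 4242, (-417), 25615], [88, 4583, (-473), 27905], [], [], [0, 0, (-1)], [(-204), 1594,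
    (-769), 15068]], [[0, 0, 0, (-2)], [], [0, 0, 2, (-2)], [0, 0, 1, 9], [0, 0, 1, 9], [0, 0, 2,
    (-2)], [6067, 14511, (-21966), 151380], [(-1), 5, 11, 7], [0, 0, 2, (-2)], [0, 0, 2, (-2)], [0, 0,
    0, (-2)], [0, 0, 0, (-2)]], [[], [0, 0, 0, 2], [], [], [], [], [], [], [], [], [], []], [[], [0,
    0, (-1), (-3)], [], [], [], [], [], [], [], [], [], [0, 0, (-1)]], [[0, (-1), 2, (-7)], [0, (-1),
    2, (-7)], [], [0, 0, 1], [], [], [0, (-1), 0, (-7)], [0, (-1), (-1), (-13)], [], [], [0, 0, (-1)],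
    []], [[], [], [(-4), 15, 14, (-37)], [(-4), 15, 22, (-44)], [0, (-1), 2, (-5)], [0, (-3), 6,
    (-24)], [0, 0, (-2), (-1)], [0, 0, (-2), (-1)], [(-4), 15, 22, (-44)], [(-4), 15, 14, (-37)], [],
    []], [[(-1), 5, 33, (-24)], [(-1), 5, 33, (-22)], [(-17), 167, 84, 801], [0, (-1), 37, (-47)],
    [(-1), 5, (-17), 55], [(-1), 5, 4, 27], [], [], [(-1), 5, 7, 27], [(-1), 5, 33, (-24)], [(-1), 11,
    (-53), 243], [(-1), 5, 4, 27]], [[], [], [], [], [], [], [], [], [0, 0, 2, 2], [], [], [0, 0, 0,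
    (-2)]], [[0, 255, (-73), 1745], [(-11), 15, (-11), 150], [], [], [11, (-162), (-18), (-852)], [21,
    90, (-108), 874], [0, 255, (-70), 1753], [0, 255, (-70), 1753], [0, 255, (-72), 1744], [0, 255,
    (-73), 1745], [], []], [[11, (-15), 11, (-150)], [0, (-255), 73, (-1745)], [0, 0, 2, 5], [0, 0, 2,
    5], [21, (-165), (-35), (-867)], [21, (-165), (-35), (-867)], [0, 0, 2, 5], [0, 0, 2, 5], [], [],
    [3865, (-132283), 31383, (-802735)], [0, (-255), 72, (-1749)]], [[], [], [(-24), (-73), 138,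
    (-891)], [(-46), 93, 85, 114], [(-21), 165, 35, 867], [(-21), 165, 35, 867], [632, (-21895), 5651,
    (-134565)], [(-215), 1122, (-120), 6077], [0, 0, 0, (-2)], [], [(-21), (-90), 108, (-874)], [10,
    (-375), 603, (-3621)]], [[(-14), 116, (-21), 923], [(-7), 45, 14, 402], [46, (-93), (-85),
    (-114)], [24, 73, (-138), 891], [(-7), 45, 14, 402], [(-7), 45, 14, 402], [], [], [(-150), (-84),
    446, (-1812)], [(-394), (-589), 2205, (-8028)], [(-7), 45, 14, 402], [(-1), 5, (-76), 348]], [[0,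
    1, (-3), (-11)], [0, 1, (-3), (-11)], [0, 1, (-3), (-10)], [0, 1, (-3), (-10)], [7, (-45), (-14),
    (-402)], [7, (-45), (-14), (-402)], [0, 1, (-4), (-10)], [0, 1, (-3), (-10)], [0, 1, (-3), (-10)],
    [0, 1, (-3), (-10)], [0, 0, 1, (-2)], []], [[(-17467), (-33363), 72434, (-386737)], [(-17258),
    (-33063), 70792, (-380837)], [(-19), (-362), 524, (-3331)], [0, 264, (-62), 1752], [(-103), (-50),
    555, (-1844)], [(-147), (-85), 481, (-1908)], [], [], [0, (-1), 3, 10], [0, (-1), 3, 10],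
    [(-7700), 24032, 26097, 58640], [0, (-1), 3, 10]], [[0, 0, (-1), 1], [0, 0, (-1), 1], [(-26), 547,
    (-16), 3329], [(-19), (-362), 522, (-3341)], [0, 0, (-1), 1], [0, 0, (-1), 1], [], [], [], [0, 0,
    (-1)], [0, 0, (-1), 1], [0, (-1), (-1), (-5)]], [[0, 0, 1, 3], [], [0, 0, (-2), 6], [0, 0, (-2),
    6], [], [], [(-4918), (-8183), 19174, (-100866)], [(-20228), (-116191), 87726, (-880985)], [], [],
    [0, 0, 0, 3], []]]

/-- The values, a part. -/
def formData7 : List (List (List ℤ)) :=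
  [[[0, 1, (-4), (-6)], [0, 1, 1, 10], [0, 7, (-88), 283], [0, 7, (-88), 283], [0, (-1), 0, (-8)],
    [0, 1, 0, 8], [0, 1, 0, 7], [0, 1, (-4), (-7)], [0, 0, 1], [0, 0, 1], [], [0, 1, 1, 10]], [[], [],
    [], [0, 0, 1], [], [], [0, (-1), 4, 7], [0, (-1), 0, (-7)], [0, 0, (-1)], [0, 0, (-1)], [], []],
    [[], [], [], [], [], [], [], [], [], [], [0, 0, (-1)], []], [[0, 0, 0, (-1)], [0, 0, 0, (-1)], [],
    [], [], [], [], [], [0, 0, (-1)], [], [], []], [[0, 0, 1, (-1)], [0, 0, 1, (-1)], [], [], [0,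
    (-1), 2, (-8)], [0, (-1), 1, (-8)], [(-17389), (-33305), 72054, (-385300)], [14231, (-142303),
    (-11682), (-736695)], [], [0, 0, 1], [0, (-1), 2, (-8)], [0, 0, 1]], [[], [], [0, 0, 2, (-6)], [0,
    0, 2], [], [], [0, 1, 3, 7], [0, 1, 3, 7], [], [], [], []], [[], [], [48619, 201439, (-187727),
    1618063], [121091, 410651, (-332799), 3227184], [], [], [190346, 663963, (-691462), 5608903],
    [5195, 7806, (-19889), 100502], [], [], [], []], [[], [], [], [], [], [], [], [], [], [], [], []],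
    [[], [], [], [], [], [], [], [], [], [], [], []], [[], [], [(-6606), 70602, 7938, 364142],
    [(-2744), 8944, 9990, 19851], [], [], [], [], [140, (-193), (-515), 66], [(-186), 257, 482, 112],
    [0, 3, (-5), 14], []], [[], [], [], [], [], [], [52248, 333404, (-239148), 2504522], [5203, 7755,
    (-20142), 100912], [], [], [], []], [[], [], [0, 0, (-1), (-9)], [0, 0, (-2), 2], [], [], [5088,
    7705, (-19406), 98791], [5019, 7951, (-19509), 100267], [], [], [], []], [[], [], [0, 0, 2, (-6)],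
    [0, 0, 2, (-6)], [], [], [(-20228), (-116191), 87728, (-880991)], [4999, 28538, (-25589), 230131],
    [], [], [], []], [[0, (-1), 0, (-10)], [0, 1, (-5), (-9)], [], [], [0, 1, 0, 8], [0, (-1), 0,
    (-8)], [0, 1, (-7), (-22)], [0, 1, (-3), (-8)], [0, 0, (-1)], [0, 0, (-1)], [], [0, 1, (-5),
    (-7)]], [[0, 0, (-2)], [], [], [], [], [], [0, (-1), 3, 8], [0, (-1), 7, 22], [], [], [0, 0,
    (-2)], []], [[(-9), 108, (-59), 839], [8, (-29), 78, (-349)], [], [], [18, (-148), (-24), (-766)],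
    [1, 0, (-7), (-9)], [0, (-1), 7, 22], [0, (-1), 7, 22], [(-8), 94, 3, 647], [(-8), 94, 3, 647],
    [1, 0, (-7), (-9)], [1, 0, (-7), (-9)]], [[0, 0, 2, 2], [0, 0, 2, 2], [], [], [(-2), 7, (-19),
    102], [(-2), 7, (-20), 102], [1, (-9), (-36), 52], [1, (-9), (-36), 52], [1, (-5), (-10), (-19)],
    [1, (-5), (-10), (-19)], [0, 0, 2, 2], []], [[], [], [], [], [], [], [(-1), 9, 36, (-52)], [(-1),
    9, 36, (-52)], [], [0, 0, 2], [], []], [[55705, 603174, (-326590), 4194299], [68930, 446626,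
    (-328404), 3352495], [], [], [1, 259, (-95), 1796], [(-9), 7, (-5), 70], [(-1), 9, 36, (-52)],
    [(-1), 9, 36, (-52)], [(-4), (-92), 36, (-557)], [51309, 136590, (-131248), 1145694], [(-385235),
    (-194149), 1005321, (-3937849)], [(-76873), (-235534), 226014, (-1948127)]], [[(-68930),
    (-446626), 328404, (-3352495)], [(-55705), (-603174), 326590, (-4194299)], [(-68979), (-445415),
    327670, (-3344295)], [(-57717), (-593916), 331706, (-4157208)], [(-55800), (-603207), 326990,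
    (-4195494)], [(-68859), (-446166), 328072, (-3348815)], [(-55795), (-603263), 326915, (-4195654)],
    [(-55795), (-603263), 326915, (-4195654)], [(-188877), (-134074), 530118, (-2215591)], [(-105692),
    65063, 336834, (-542473)], [], [(-34430), (-223085), 164047, (-1674433)]], [[0, 0, 0, 1], [0, 0,
    0, 1], [(-33), (-31), 86, (-405)], [(-18), (-126), 104, (-889)], [68859, 446166, (-328072),
    3348815], [55800, 603207, (-326990), 4195494], [], [], [0, 0, 2], [0, 0, 2], [(-34241), (-223526),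
    163428, (-1675231)], [59645, 787746, (-241195), 5026989]], [[7, (-45), (-14), (-402)], [14,
    (-116), 21, (-923)], [18, 126, (-104), 889], [33, 31, (-86), 405], [0, 1, (-5), (-7)], [0, 1,
    (-5), (-7)], [33, 31, (-86), 405], [18, 126, (-104), 889], [4171, (-132898), 31248, (-804719)],
    [4154, (-132907), 31310, (-805137)], [], []], [[0, (-1), 3, 11], [0, (-1), 3, 11], [(-85), 1251,
    (-583), 8067], [(-102), 876, (-501), 5416], [0, (-1), 5, 7], [0, (-1), 5, 7], [], [], [16533,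
    (-145498), 1062, (-797972)], [(-5601), (-194620), 78287, (-1276092)], [0, (-1), 4, 9], [0, (-1),
    4, 9]], [[17258, 33063, (-70792), 380837], [17467, 33363, (-72434), 386737], [17193, 33117,
    (-71189), 381846], [5584, 194245, (-78206), 1273441], [], [], [(-14231), 142303, 11682, 736695],
    [17389, 33305, (-72054), 385300], [5601, 194620, (-78287), 1276092], [(-16533), 145498, (-1062),
    797972], [5601, 194619, (-78283), 1276101], []], [[0, 1, (-1), 9], [0, (-1), 1, (-9)], [0, 0,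
    (-1), (-1)], [0, 0, (-2), (-1)], [0, (-5), 9, (-41)], [0, (-1), 1, (-9)], [0, 0, (-2), (-3)], [0,
    0, (-2), (-3)], [], [], [], []], [[0, (-1), 1, (-7)], [0, 1, (-1), 7], [0, (-3), 5, (-15)], [0,
    (-3), 5, (-15)], [0, (-1), (-1), (-6)], [0, 1, 1, 6], [], [], [0, 0, 3, (-13)], [0, 0, (-3), 13],
    [(-1), 5, 36, (-178)], [(-1), 7, 36, (-165)]], [[0, 3, (-5), 14], [0, 3, (-5), 14], [0, (-1), 6,
    (-32)], [0, 1, (-6), 32], [], [], [0, 0, 3, (-13)], [0, 0, (-3), 13], [], [], [23581, 109619,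
    (-98939), 878271], []]]

/-- The values, a part. -/
def formData8 : List (List (List ℤ)) :=
  [[[], [], [], [0, 0, (-2)], [], [0, 0, (-1)], [], [], [0, 0, (-1)], [], [], []], [[], [], [], [],
    [], [], [], [], [], [], [], []], [[0, 0, 0, 1], [0, 0, 0, 1], [33, 39, (-82), 443], [(-19),
    (-362), 510, (-3304)], [0, 0, 0, 1], [0, 0, 0, 1], [], [], [0, 0, 1], [], [0, 0, 0, 1], [147,
    4074, (-539), 25021]], [[], [], [(-4415), (-74512), 43567, (-529469)], [5388, 38455, (-23025),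
    272493], [], [], [0, 0, 0, 1], [0, 0, 0, 1], [], [], [], []], [[], [], [0, 3, 0, (-20)], [0, 3, 0,
    (-20)], [], [], [0, 0, 0, (-1)], [0, 0, 0, (-1)], [], [], [], []], [[0, 0, 0, (-4)], [0, 0, 0,
    (-4)], [], [0, 0, (-2), 4], [0, 0, 0, (-4)], [], [], [], [0, 4, (-12), 44], [0, 4, (-12), 38], [0,
    0, 0, (-4)], [0, 0, 0, (-4)]], [[0, 0, 0, 4], [0, 0, 0, 4], [2, (-7), 24, (-100)], [2, (-7), 30,
    (-104)], [], [], [0, (-4), 12, (-41)], [0, (-4), 9, (-31)], [], [0, 0, 0, 4], [], []], [[0, 0,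
    (-1)], [0, 0, (-3)], [(-2), 7, (-30), 104], [(-2), 7, (-24), 100], [], [0, 0, (-3)], [2, (-10),
    (-15), (-41)], [2, (-10), (-15), (-41)], [0, 0, (-3)], [0, 0, (-1)], [], [(-1), 5, 8, 15]], [[],
    [], [(-2), 7, (-28), 104], [(-2), 7, (-24), 104], [0, 0, 1], [0, 0, 1], [(-2), 10, 15, 41], [(-2),
    10, 15, 41], [0, 0, 1], [0, 0, 3], [], []], [[], [], [0, 0, 1], [], [], [], [], [0, 0, 3], [0, 0,
    1], [], [], []], [[21402, (-99586), (-39917), (-421546)], [59245, 185015, (-183976), 1558244],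
    [2117, 558989, (-37613), 3216841], [4138, (-132929), 31332, (-805124)], [(-178422), 612287,
    329806, 2381436], [(-2039), 691702, (-68465), 4019752], [0, 0, (-3)], [], [0, 0, (-2)], [0, 0,
    (-2)], [(-12844), (-323013), 123469, (-2096151)], [118860, 398168, (-270169), 2996462]], [[19300,
    (-658732), (-2867), (-3638234)], [17109, 33077, (-70685), 380318], [(-4138), 132929, (-31332),
    805124], [(-2117), (-558989), 37613, (-3216841)], [], [], [5560, 193427, (-77359), 1266901],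
    [(-4121), 132938, (-31395), 805542], [(-4154), 132907, (-31310), 805137], [(-4171), 132898,
    (-31248), 804719], [(-4171), 132898, (-31248), 804719], []], [[(-17109), (-33077), 70685,
    (-380318)], [(-19300), 658732, 2867, 3638234], [124, 149, (-652), 2727], [159, (-64), (-537),
    1275], [147, 85, (-481), 1908], [103, 50, (-555), 1844], [], [], [394, 589, (-2205), 8028], [150,
    84, (-446), 1812], [140, 3834, (-369), 23169], [149, 89, (-522), 2160]], [[], [], [0, (-264), 62,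
    (-1752)], [19, 362, (-524), 3331], [], [], [0, 0, (-2), (-10)], [0, 0, (-2), (-10)], [(-33),
    (-39), 78, (-457)], [19, 362, (-525), 3331], [], []], [[0, 0, (-2), (-5)], [0, 0, (-2), (-5)], [0,
    0, (-2), (-5)], [0, 0, (-2), (-5)], [(-32), (-26), 59, (-366)], [(-32), (-26), 59, (-366)], [],
    [], [0, 0, (-2), (-5)], [0, 0, (-2), (-5)], [0, 0, (-2), (-5)], [0, 0, (-2), (-5)]], [[0, (-4),
    (-20), 69], [0, 4, 20, (-69)], [1, 11, (-2), (-45)], [1, 11, (-2), (-45)], [0, 4, 20, (-69)], [0,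
    4, 20, (-69)], [0, 0, (-17), 87], [0, 0, 17, (-87)], [], [], [], [0, 3, 21, (-78)]], [[0, 2,
    (-29), 114], [0, (-2), 29, (-114)], [0, 5, (-8), 38], [0, (-5), 8, (-38)], [0, 1, (-1), 9], [0, 5,
    (-9), 41], [0, 6, (-34), 133], [0, (-6), 34, (-133)], [0, 5, (-9), 41], [0, 11, (-18), 85], [0,
    (-3), (-21), 78], []], [[], [], [0, (-5), 9, (-42)], [0, (-5), 8, (-43)], [(-4), 15, 14, (-37)],
    [1, 2, (-13), (-18)], [0, (-4), 5, (-35)], [0, (-4), 5, (-35)], [0, (-5), 8, (-43)], [0, (-1), 2,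
    (-5)], [], []], [[0, 1, (-1), 9], [0, (-1), 1, (-9)], [0, 5, (-8), 43], [0, 5, (-9), 42], [0,
    (-4), (-20), 69], [0, (-4), (-20), 69], [(-1), 8, (-43), 157], [(-1), 0, (-31), 81], [], [], [],
    []], [[], [], [0, 0, 2], [], [0, 6, (-60), 216], [0, 6, (-60), 215], [0, 0, 2], [0, 0, 2], [], [0,
    0, 3], [], []], [[], [], [], [], [28, (-529), 124, (-3434)], [(-587), (-945), 3010, (-12351)], [0,
    0, 2, 3], [0, 0, 2, 3], [1, (-6), 75, (-312)], [16, (-87), (-140), (-103)], [], [(-4), 16, 43,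
    9]], [[], [], [35, 32, (-58), 342], [(-17), (-370), 526, (-3364)], [], [], [0, 0, (-2), (-3)], [0,
    0, (-2), (-3)], [0, (-1), 1, (-8)], [0, (-1), 1, (-8)], [147, 4074, (-539), 25020], []], [[], [],
    [17, 370, (-526), 3364], [(-35), (-32), 58, (-342)], [], [], [15, 232, (-217), 1648], [15, 232,
    (-217), 1648], [(-1), 5, 9, 15], [(-1), 5, 11, 15], [], []], [[], [], [], [], [], [], [(-86),
    (-684), 810, (-5386)], [(-86), (-684), 810, (-5386)], [], [], [], [0, 0, 1]], [[(-2), 7, (-24),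
    100], [(-2), 7, (-24), 100], [], [0, 0, (-1)], [15, (-262), 382, (-2487)], [(-2), 7, (-24), 100],
    [4121, (-132938), 31395, (-805542)], [(-5560), (-193427), 77359, (-1266901)], [0, 0, 1], [0, 0,
    1], [(-54), (-47), 197, (-854)], [(-2), 7, (-24), 100]], [[], [], [0, 0, (-2)], [0, 0, (-2)], [2,
    (-7), 24, (-100)], [(-15), 262, (-382), 2487], [(-58), 344, (-151), 2477], [(-58), 344, (-148),
    2473], [(-74), 233, (-159), 1723], [(-74), 233, (-159), 1723], [], [(-17), 269, (-406), 2587]],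
    [[7077, (-139727), 6690, (-776212)], [8658, 43029, (-75927), 450969], [], [], [59, 29, (-222),
    764], [59, 29, (-226), 764], [], [], [74, (-233), 159, (-1723)], [74, (-233), 159, (-1723)],
    [12174, (-129475), (-8190), (-679812)], [19127, 173654, (-111503), 1263538]]]

/-- The values, a part. -/
def formData9 : List (List (List ℤ)) :=
  [[[0, 0, (-2)], [], [], [], [], [], [], [], [0, 0, 2, (-4)], [], [], []], [[0, 1, (-1), 8], [0,
    (-1), 1, (-8)], [(-1), (-3), 59, (-231)], [0, (-6), 85, (-267)], [0, (-6), 85, (-267)], [(-1),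
    (-3), 64, (-213)], [1, 0, 31, (-81)], [1, (-8), 43, (-157)], [], [], [], [0, (-1), 6, (-32)]],
    [[0, 4, (-12), 42], [0, 4, (-12), 44], [2, (-7), 24, (-104)], [2, (-7), 28, (-104)], [0, 0, 0,
    (-4)], [0, 0, 0, (-8)], [0, 4, (-9), 31], [0, 4, (-12), 41], [0, 0, 0, (-4)], [], [0, 0, 0, (-4)],
    [0, 0, 0, (-4)]], [[], [], [9, (-109), 57, (-835)], [(-2), 7, (-27), 100], [], [], [(-12), 53, 97,
    131], [15, (-207), 108, (-1439)], [8, (-94), (-3), (-647)], [8, (-94), (-3), (-647)], [], []],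
    [[12, (-53), (-97), (-130)], [1, 19, (-90), 248], [0, 0, 1], [], [0, (-1), (-29), 76], [0, 1, 29,
    (-76)], [(-15), 207, (-108), 1439], [12, (-53), (-97), (-131)], [0, 0, 2], [0, 0, 2], [0, 1,
    (-92), 290], [0, 3, (-67), 195]], [[0, 0, (-1)], [0, 0, (-1)], [0, 0, (-9), 13], [0, 0, 9, (-13)],
    [], [], [], [], [0, 0, (-1)], [0, 0, (-1)], [], []], [[0, 0, 1], [0, 0, 1], [1, 2, (-58), 181],
    [0, 6, (-99), 310], [0, 0, 1], [], [], [], [], [], [0, 0, 1], [0, 0, 1]], [[], [], [], [], [], [],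
    [0, 0, 7, (-22)], [0, 0, (-7), 22], [], [], [], [0, 0, 1]], [[0, 1, (-6), 31], [0, (-1), 6,
    (-31)], [], [], [1, 3, (-64), 213], [0, 6, (-85), 267], [0, 0, (-7), 22], [0, 0, 7, (-22)], [1, 4,
    (-66), 220], [1, 2, (-58), 181], [1, 3, (-64), 212], [0, 5, (-79), 235]], [[(-18), 106, 44, 494],
    [(-1), (-2), 14, 20], [], [], [(-1), (-2), 13, 18], [4, (-15), (-14), 37], [4, (-15), (-23), 43],
    [(-1), (-2), 9, 15], [4, (-15), (-14), 37], [4, (-15), (-22), 44], [(-1), (-2), 13, 18], [4,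
    (-15), (-22), 44]], [[], [], [(-5388), (-38455), 23025, (-272493)], [4415, 74512, (-43567),
    529469], [0, 0, 0, (-1)], [0, 0, 0, (-1)], [182, (-114), (-618), 972], [(-186), 257, 482, 113],
    [], [], [], []], [[], [], [34014, 224121, (-162836), 1677165], [24239, 111247, (-96394), 876070],
    [], [], [(-186), 257, 482, 112], [(-186), 257, 482, 112], [], [], [], []], [[0, 0, (-1), (-1)],
    [0, 0, (-1), (-1)], [9204, 110813, (-64330), 785386], [9204, 110813, (-64330), 785386], [], [],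
    [], [], [], [], [], []], [[], [], [(-9204), (-110813), 64330, (-785386)], [(-9204), (-110813),
    64330, (-785386)], [0, 0, (-1)], [0, 0, (-1)], [33, 39, (-82), 480], [33, 39, (-82), 480], [], [],
    [], []], [[0, 0, 1], [], [1051, 49659, (-17921), 323803], [1051, 49660, (-17922), 323803], [0, 0,
    1], [0, 0, 1], [31, 34, (-73), 425], [215, (-75), (-700), 1452], [], [0, 0, 1], [0, 0, 1], [0, 0,
    1]], [[], [], [82, 16707, (-4369), 104770], [54, 16617, (-4220), 103905], [], [], [184, (-165),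
    (-551), 488], [(-75), (-118), 191, (-1424)], [0, 0, 0, 1], [0, 0, 0, 1], [], []], [[], [], [], [],
    [], [], [0, 0, (-2), (-10)], [0, 0, (-2), (-4)], [0, 0, (-3)], [], [], []], [[], [], [], [], [],
    [], [0, 0, (-1), (-16)], [0, 0, (-1), (-10)], [], [0, 0, 1], [0, 0, 1], []], [[0, 4, (-5), 36],
    [0, 4, (-5), 34], [0, 6, (-85), 267], [1, 3, (-59), 231], [], [], [0, 4, (-5), 35], [0, 4, (-5),
    35], [0, 6, (-60), 216], [0, 6, (-60), 216], [], []], [[(-2), 14, 28, 33], [(-2), 14, 28, 33], [0,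
    0, (-3), (-1)], [0, 0, (-3), (-1)], [11, (-63), 26, (-421)], [4, (-39), 40, (-399)], [0, 0, (-1)],
    [], [0, 0, 0, 2], [0, 0, (-2), 2], [137378, 451585, (-766632), 4507436], [107126, 1174832,
    (-763863), 8489640]], [[2, (-14), (-28), (-33)], [2, (-14), (-28), (-33)], [0, 0, (-3), (-5)], [0,
    0, (-2), (-5)], [(-4), 39, (-40), 399], [(-11), 63, (-26), 421], [], [], [0, 0, 2, (-2)], [0, 0,
    0, (-2)], [6, (-19), (-20), (-83)], [(-7), 58, (-18), 371]], [[0, 0, 0, (-4)], [0, 0, 0, 2], [0,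
    0, 2, 5], [0, 0, 3, 5], [], [0, 0, 0, 2], [0, 0, 0, 3], [0, 0, 0, 3], [0, 0, 0, 2], [], [], [0, 0,
    0, 4]], [[(-3), 9, 47, (-46)], [(-3), 9, 47, (-44)], [(-7), 32, 6, 208], [(-7), 32, 6, 206], [0,
    0, 0, (-2)], [], [(-4), 63, (-64), 515], [0, 43, (-112), 486], [0, 0, 0, (-2)], [0, 0, 0, (-2)],
    [], []], [[], [], [8, (-30), 77, (-355)], [(-3), (-32), 111, (-454)], [0, 0, (-2), 8], [0, 0,
    (-2), 8], [0, (-43), 112, (-486)], [4, (-63), 64, (-515)], [0, 0, 0, 4], [0, 0, 0, 4], [0, 0,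
    (-2), 8], [1, 109, 163, 248]], [[], [], [5, (-84), (-26), (-409)], [(-3), (-32), 117, (-455)],
    [(-3), (-32), 117, (-455)], [(-3), (-32), 117, (-455)], [2, (-53), 86, (-474)], [2, (-53), 86,
    (-474)], [0, 0, 0, (-4)], [0, 0, 0, (-4)], [5, 48, 104, 2], [(-2), 55, 52, 191]], [[(-2), 14, 14,
    32], [(-2), 14, 14, 30], [3, 32, (-117), 455], [(-5), 84, 26, 409], [], [], [(-2), 53, (-86),
    474], [(-2), 53, (-86), 474], [0, 0, (-7), (-3)], [(-8), 52, 133, (-40)], [0, 0, (-7), (-3)], [1,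
    (-5), (-19), (-24)]], [[0, 0, (-8), (-4)], [0, 0, (-8), (-4)], [], [], [], [], [2, (-14), (-30),
    (-33)], [2, (-10), (-46), 12], [2, (-10), (-44), 15], [0, 0, (-6), (-2)], [], [0, (-7), (-52),
    69]]]

/-- The values, a part. -/
def formData10 : List (List (List ℤ)) :=
  [[[0, 0, 0, (-2)], [0, 0, 0, 4], [(-2), 14, 30, 33], [2, (-14), (-29), (-31)], [(-9), 46, 21,
    196], [(-3), 9, 47, (-48)], [(-2), 10, 46, (-12)], [(-2), 14, 30, 33], [0, 0, 0, 2], [], [0, 0, 0,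
    (-2)], [0, 0, 0, 2]], [[0, 0, 0, 2], [], [(-2), 14, 29, 31], [2, (-14), (-30), (-33)], [], [], [],
    [0, 0, 0, 2], [], [0, 0, 0, (-2)], [], []], [[3, (-9), (-47), 44], [3, (-9), (-47), 46], [0, 0,
    (-1), 4], [0, 0, (-1), 4], [3, (-9), (-47), 48], [9, (-46), (-21), (-196)], [], [0, 0, (-1), 4],
    [2, (-3), 14, (-56)], [2, (-3), 27, (-110)], [3, (-9), (-47), 50], [2, (-3), 14, (-58)]], [[152,
    (-424), 103, (-2193)], [54, (-100), 149, (-719)], [(-57433), (-196934), 174662, (-1596494)],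
    [(-48954), (-3963), 71828, (-240322)], [], [], [(-49759), 670111, 8870, 3665334], [(-133410),
    492576, 198052, 2124259], [(-4119), (-266214), 35219, (-1555052)], [(-48954), (-3967), 71835,
    (-240356)], [153, (-426), 107, (-2186)], [152, (-425), 105, (-2197)]], [[], [], [136, (-143),
    (-322), 21], [222, (-7), (-1030), 2013], [137, (-214), (-167), (-600)], [148, (-408), 84,
    (-2146)], [222, (-3), (-997), 1955], [136, (-143), (-316), 26], [222, (-7), (-1030), 2013], [222,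
    (-3), (-1001), 1950], [271, 639, (-1559), 6601], [149, (-410), 88, (-2139)]], [[], [], [], [0, 0,
    (-1)], [], [], [0, 0, 5, 7], [0, 0, 5, 7], [0, 0, 0, 2], [0, 0, 0, 2], [(-452), 499, 1468,
    (-702)], []], [[(-54), 100, (-149), 719], [(-152), 424, (-103), 2193], [(-63), 146, (-114), 954],
    [(-49), 83, (-126), 546], [(-148), 408, (-84), 2146], [(-137), 214, 167, 600], [], [], [(-48), 71,
    (-82), 395], [170, (-419), (-222), (-1544)], [(-148), 408, (-84), 2146], []], [[(-546), 159, 2169,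
    (-3926)], [500, 146, (-2017), 5313], [], [], [522, 133, (-2197), 5719], [(-133), (-140), 752,
    (-2155)], [], [], [(-222), 3, 1001, (-1950)], [(-222), 7, 1030, (-2013)], [48, 643, (-543), 4588],
    [(-279), (-414), 2154, (-6406)]], [[], [], [(-21), (-103), 108, (-830)], [(-21), (-103), 108,
    (-832)], [], [], [0, 0, (-4), (-4)], [0, 0, (-4), (-4)], [], [], [], [0, 0, (-1)]], [[], [],
    [(-10), 3, 16, 15], [1, 263, (-65), 1705], [0, 4, 26, (-66)], [0, 4, 26, (-66)], [0, 0, 4, 4], [0,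
    0, 4, 4], [0, 0, (-2), (-2)], [0, 0, 0, (-2)], [], []], [[], [0, 0, 0, 2], [68, (-341), 66,
    (-1369)], [151, (-940), 499, (-5734)], [0, 0, 0, (-2)], [0, 0, 0, (-2)], [192, (-1633), (-1474),
    (-7429)], [7, (-362), 110, (-3298)], [0, 0, (-2)], [], [], []], [[1427, (-36931), (-1139),
    (-197418)], [21255, (-118946), (-33582), (-549654)], [], [], [(-21809), 102263, 41555, 434151],
    [(-610), 6096, 3003, 21820], [(-7), 362, (-110), 3298], [(-192), 1633, 1474, 7429], [(-577), 6786,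
    5809, 22963], [(-888), 6446, 5607, 18954], [(-94), (-313), 737, (-2144)], [(-258), 5132, 2831,
    17125]], [[(-21255), 118946, 33582, 549654], [(-1427), 36931, 1139, 197418], [], [], [(-1473),
    42428, 2887, 218593], [(-21967), 125391, 36683, 573030], [224, (-5074), (-3120), (-17827)], [178,
    (-815), (-1317), (-2543)], [888, (-6446), (-5607), (-18954)], [577, (-6786), (-5809), (-22963)],
    [240, (-4843), (-3324), (-16259)], [(-21479), 124284, 36190, 568353]], [[(-34), (-206), 223,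
    (-1574)], [(-102), (-713), 1085, (-5989)], [0, 0, 1], [], [(-86), (-792), 937, (-6231)], [(-20),
    (-140), 173, (-1232)], [(-136), 143, 316, (-26)], [(-222), 3, 997, (-1955)], [0, 0, 1], [0, 0, 1],
    [21479, (-124284), (-36190), (-568353)], [(-488), 1107, 493, 4677]], [[(-136), 143, 321, (-21)],
    [(-52), (-99), 289, (-1140)], [(-222), 7, 1030, (-2013)], [(-136), 143, 322, (-21)], [0, 4, 28,
    (-72)], [0, 4, 28, (-72)], [0, 0, 6, 5], [0, 0, 6, 5], [], [], [(-159), 320, 331, 1064],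
    [(-68885), 522536, 99250, 2603785]], [[], [], [(-37), (-186), 252, (-1545)], [39, (-265), (-93),
    (-1406)], [0, (-4), (-28), 72], [0, (-4), (-28), 72], [0, 0, 0, 6], [0, 0, 0, 5], [1234, (-34250),
    6427, (-205252)], [38, (-259), (-20), (-1564)], [(-159), 316, 303, 1136], [(-75993), (-279160),
    235502, (-2212199)]], [[], [], [], [], [38, (-263), (-47), (-1498)], [23, (-177), (-10), (-1085)],
    [], [], [], [], [(-49094), (-3805), 72132, (-240298)], []], [[], [], [237895, (-431612),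
    (-513220), (-848111)], [38363, (-416508), (-92173), (-2057221)], [2039, (-691702), 68465,
    (-4019752)], [178422, (-612287), (-329806), (-2381436)], [133410, (-492576), (-198052),
    (-2124259)], [49759, (-670111), (-8870), (-3665334)], [105692, (-65063), (-336834), 542473],
    [188877, 134074, (-530118), 2215591], [(-55433), 361976, (-32454), 2026651], [70869, (-846758),
    1675, (-4643958)]], [[1, 1, (-14), (-30)], [1, 1, (-14), (-30)], [], [], [0, (-31), (-11), (-90)],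
    [0, (-31), (-11), (-90)], [0, 1, (-7), (-22)], [0, 1, (-7), (-22)], [0, (-31), (-11), (-90)], [0,
    7, (-89), 283], [], []], [[(-1), (-1), 14, 30], [(-1), (-1), 14, 30], [], [], [], [], [], [], [],
    [], [], [(-1), (-15), 12, (-16)]], [[], [], [48954, 3963, (-71828), 240322], [57433, 196934,
    (-174662), 1596494], [], [], [43320, 88322, (-118760), 834877], [57697, 193170, (-178508),
    1590551], [0, 0, 1], [9637, 69018, (-30927), 462449], [], [0, 0, 1]], [[], [], [70908, 53081,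
    (-184204), 850682], [45263, 78831, (-123587), 795643], [], [], [0, 0, 0, 1], [0, 0, 0, 1], [0, 0,
    (-1)], [0, 0, (-1)], [], [0, 0, 0, 2]], [[], [], [], [], [], [], [], [], [(-9637), (-69018),
    30927, (-462449)], [0, 0, (-1)], [204, (-1594), 769, (-15068)], []], [[44419, 225293, (-199679),
    1806750], [236360, 1886461, (-985295), 13153867], [], [], [(-14388), (-26919), 82690, (-368364)],
    [43118, 249436, (-200572), 1941603], [44447, 225447, (-199584), 1807620], [(-1327), (-184115),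
    81684, (-1215981)], [48954, 3967, (-71835), 240356], [4119, 266214, (-35219), 1555052], [235810,
    1887958, (-984459), 13159595], [44467, 225222, (-199597), 1806355]], [[], [], [(-7), (-168), 47,
    (-1130)], [(-7), (-168), 47, (-1130)], [], [], [], [], [(-51309), (-136590), 131248, (-1145694)],
    [4, 92, (-36), 557], [], [(-76880), (-235702), 226061, (-1949257)]], [[], [], [], [], [], [],
    [(-1), 5, 10, 13], [(-1), 5, 27, (-32)], [], [], [0, (-1), 2, (-5)], []], [[], [], [(-25), (-108),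
    135, (-909)], [(-16), 163, 30, 849], [], [], [1, (-5), (-27), 32], [1, (-5), (-10), (-13)], [0, 0,
    (-3)], [], [0, 4, (-5), 34], []]]

/-- The values, a part. -/
def formData11 : List (List (List ℤ)) :=
  [[[], [], [], [], [], [], [0, 0, (-1), (-1)], [0, 0, (-1), (-1)], [], [], [0, 0, 0, (-1)], []],
    [[], [], [16, (-163), (-39), (-836)], [27, 97, (-141), 877], [], [], [0, 0, (-1)], [0, 0, (-1)],
    [], [], [], []], [[], [], [(-27), (-97), 141, (-877)], [(-16), 163, 39, 836], [], [], [0, 0, 1],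
    [0, 0, 1], [0, 0, (-1)], [0, 0, (-1)], [], []], [[], [], [(-34431), (-223073), 164019,
    (-1674301)], [(-34298), (-223519), 163519, (-1675759)], [], [], [], [], [], [], [], [(-75),
    (-118), 191, (-1423)]], [[], [], [34298, 223519, (-163519), 1675759], [34431, 223073, (-164019),
    1674301], [], [], [(-33), (-39), 82, (-480)], [(-33), (-39), 82, (-480)], [(-119271), (-32567),
    326114, (-1147284)], [(-119271), (-32567), 326114, (-1147284)], [], [0, 0, 2, 5]], [[], [], [],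
    [], [], [], [], [], [], [], [0, 0, 2, 5], []], [[68670, 446607, (-327452), 3349613], [68670,
    446607, (-327452), 3349613], [], [], [45965, 725814, (-240543), 4660690], [(-38158), (-463290),
    164853, (-3027278)], [], [], [0, 0, 1], [0, 0, 1], [76880, 235702, (-226061), 1949257], [12844,
    323013, (-123469), 2096151]], [[55433, (-361976), 32454, (-2026651)], [55433, (-361976), 32454,
    (-2026651)], [(-46952), (-1566204), 496987, (-9961149)], [344597, 919614, (-1063206), 8071266],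
    [38158, 463290, (-164853), 3027278], [(-45965), (-725814), 240543, (-4660690)], [], [], [(-91947),
    588875, 73364, 2987723], [38158, 463290, (-164852), 3027278], [(-63411), (-759983), 302581,
    (-5022056)], [55433, (-361976), 32454, (-2026651)]], [[(-3782), 27606, 61414, 3910], [(-3782),
    27606, 61414, 3910], [], [], [0, 0, 1], [], [], [], [(-38158), (-463290), 164852, (-3027278)],
    [91947, (-588875), (-73364), (-2987723)], [(-63427), (-760140), 302609, (-5023078)], []],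
    [[(-500), (-146), 2017, (-5313)], [546, (-159), (-2169), 3926], [], [], [(-43118), (-249436),
    200572, (-1941603)], [14388, 26919, (-82690), 368364], [], [], [0, 0, 0, (-2)], [0, 0, 0, (-2)],
    [(-452), 501, 1467, (-684)], [267, (-573), (-15), (-2480)]], [[], [], [(-5), 1, 36, (-47)], [(-5),
    1, 36, (-47)], [], [], [0, 0, (-4), (-5)], [0, 0, (-4), (-5)], [], [], [], [1, 2, (-13), (-18)]],
    [[], [], [1, 263, (-65), 1705], [(-10), 3, 16, 15], [], [], [0, 0, 4, 5], [0, 0, 4, 5], [], [0, 0,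
    (-2), (-2)], [], [0, 0, 0, (-2)]], [[0, 0, 0, (-2)], [], [4, 6744, (-507), 39517], [(-20516),
    (-73591), 78675, (-619898)], [], [], [(-178), 815, 1317, 2543], [(-224), 5074, 3120, 17827], [],
    [0, 0, (-2), (-2)], [0, 4, 24, (-68)], []], [[102, 713, (-1085), 5989], [34, 206, (-223), 1574],
    [], [], [16, 119, (-102), 788], [16, 119, (-102), 788], [0, 0, (-5), (-7)], [0, 0, (-5), (-7)],
    [0, 0, (-1)], [0, 0, (-1)], [258, (-5132), (-2831), (-17125)], [(-352), 964, 172, 4695]], [[0, 0,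
    0, 2], [], [0, 0, 1], [], [], [], [0, 0, 5, 7], [0, 0, 6, 7], [0, 0, 0, 2], [], [], []], [[], [],
    [(-45263), (-78831), 123587, (-795643)], [(-70908), (-53081), 184204, (-850682)], [], [], [(-1),
    5, 36, (-28)], [(-1), 5, 36, (-26)], [], [0, 0, 0, (-2)], [], []], [[], [], [], [], [0, 0, 0, 2],
    [0, 0, 0, 2], [], [], [], [], [], []], [[(-236360), (-1886461), 985295, (-13153867)], [(-44419),
    (-225293), 199679, (-1806750)], [], [], [133, 140, (-752), 2155], [(-522), (-133), 2197, (-5719)],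
    [52, (-51), (-18), (-78)], [(-174), 482, 150, 2062], [(-170), 419, 222, 1544], [48, (-71), 82,
    (-395)], [(-453), 512, 1424, (-538)], [48, (-71), 82, (-395)]], [[(-59245), (-185015), 183976,
    (-1558244)], [(-21402), 99586, 39917, 421546], [4, (-330), 27, (-1985)], [15, (-70), (-54),
    (-295)], [], [], [(-16), (-161), 39, (-1058)], [(-27), (-421), 119, (-2748)], [(-5), 99, (-41),
    627], [(-16), (-161), 40, (-1063)], [34424, 223180, (-164066), 1675008], [63411, 759983,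
    (-302581), 5022056]], [[], [], [31, 91, (-93), 762], [31, 91, (-92), 762], [], [], [27, 421,
    (-119), 2748], [16, 161, (-39), 1058], [0, 0, 3], [0, 0, 3], [0, 0, 1], []], [[], [], [], [], [],
    [], [(-2), 10, 12, 42], [(-2), 10, 14, 40], [], [], [], []], [[0, 0, 3], [0, 0, 1], [(-2), 7,
    (-29), 108], [(-2), 7, (-27), 108], [0, 0, 1], [], [2, (-10), (-14), (-40)], [2, (-10), (-12),
    (-42)], [], [], [0, 0, 3], []], [[0, 0, 1], [0, 0, (-1)], [0, 0, (-5), (-2)], [2, (-14), (-30),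
    (-37)], [], [0, 0, (-1)], [0, 0, 1, 1], [0, 0, 1, 1], [0, 0, (-1)], [], [(-1), 5, 9, 15], []],
    [[], [0, 0, (-2), (-2)], [(-2), 14, 30, 37], [0, 0, 5, 2], [], [], [0, 0, (-1), (-1)], [0, 0,
    (-1), (-1)], [0, 0, 6, 2], [(-2), 10, 44, (-15)], [], [(-2), 7, (-23), 104]], [[], [], [49, (-83),
    126, (-546)], [63, (-146), 114, (-954)], [0, 0, 0, 4], [0, 0, 0, 4], [0, (-4), (-26), 71], [0,
    (-4), (-26), 71], [], [], [], [0, 0, 0, 2]], [[0, 0, 0, (-6)], [], [(-39), 265, 93, 1406], [37,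
    186, (-252), 1545], [0, 0, 0, (-4)], [0, 0, 0, (-4)], [0, 0, 0, (-5)], [0, 0, 0, (-6)], [0, 0, 0,
    (-2)], [0, 0, 0, (-2)], [0, 0, 0, (-4)], [(-3), 9, 47, (-50)]], [[], [0, 0, 0, 6], [], [], [], [],
    [], [], [], [0, 0, 0, (-2)], [0, 0, 0, (-2)], []]]

/-- The values, a part. -/
def formData12 : List (List (List ℤ)) :=
  [[[], [], [(-26), (-103), 145, (-897)], [0, (-1), 57, (-106)], [], [], [(-1), 5, 27, (-31)],
    [(-1), 5, 27, (-31)], [], [], [], []], [[], [], [1, (-6), 30, (-74)], [(-16), 162, 51, 825], [],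
    [], [1, (-5), (-27), 31], [1, (-5), (-27), 31], [1, (-5), (-33), 24], [1, (-5), (-7), (-27)], [],
    []], [[], [0, 0, 0, (-2)], [16, (-162), (-51), (-825)], [(-1), 6, (-30), 74], [27, 97, (-141),
    874], [16, (-163), (-59), (-813)], [0, 0, 0, (-1)], [0, 0, 0, (-1)], [], [], [], []], [[0, 0, 0,
    1], [0, 0, 0, 1], [0, 0, 0, 1], [0, 0, 0, 1], [(-16), 163, 59, 813], [(-27), (-97), 141, (-874)],
    [], [], [(-4375), (-2163), 21214, (-78719)], [(-3536), 13765, 10236, 40740], [(-27), (-97), 141,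
    (-876)], [(-27), (-97), 141, (-876)]], [[0, 0, 0, (-1)], [0, 0, 0, (-1)], [], [], [(-16), 163, 39,
    836], [(-27), (-97), 141, (-877)], [], [], [], [], [(-27), (-97), 141, (-875)], [(-27), (-97),
    141, (-875)]], [[], [], [(-326), (-29451), 11562, (-193929)], [11850, 73602, (-49489), 540044],
    [9708, 62915, (-46475), 476694], [(-553), (-4242), 5133, (-37457)], [0, (-1), (-3), 31], [0, (-1),
    (-3), 31], [0, (-1), 2, (-8)], [0, (-1), 2, (-8)], [], []], [[3957, (-137524), 33588, (-836624)],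
    [(-7700), 24033, 26093, 58632], [], [], [], [], [0, 1, 3, (-31)], [0, 1, 3, (-31)], [], [],
    [(-149), (-89), 522, (-2160)], [(-5601), (-194619), 78283, (-1276101)]], [[(-11607), 156724,
    (-6063), 864665], [50, (-4833), 1433, (-30591)], [], [], [(-104), 11137, (-3375), 70385], [(-104),
    11137, (-3375), 70385], [228, (-17846), 5527, (-112404)], [228, (-17846), 5531, (-112403)], [],
    [], [(-47), (-37), (-31), (-267)], [96, (-8503), 2436, (-52869)]], [[(-50), 4833, (-1433), 30591],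
    [11607, (-156724), 6063, (-864665)], [100, 3537, (-440), 21530], [100, 3537, (-441), 21530],
    [(-97), 4796, (-1464), 30324], [(-61), 4480, (-926), 27279], [], [], [(-49), 4831, (-1428),
    30512], [(-49), 4831, (-1428), 30512], [(-95), 893, (-80), 4733], [(-228), 13502, (-4025),
    84616]], [[16, 10667, (-2290), 66571], [16, 10667, (-2290), 66571], [], [0, 0, 1], [61, (-4480),
    926, (-27279)], [97, (-4796), 1464, (-30324)], [(-66), 11257, (-3376), 71221], [(-64), 11247,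
    (-3378), 71179], [], [], [], []], [[0, 0, 0, 2], [], [0, 0, (-1)], [], [0, 0, 0, 2], [0, 0, 0, 2],
    [0, 0, 0, 1], [0, 0, 0, 1], [0, 0, 2], [], [0, 0, 0, 2], [0, 0, 0, 2]], [[], [], [197, (-1259),
    1023, (-8796)], [161, (-943), 485, (-5751)], [0, 0, 0, (-2)], [0, 0, 0, (-2)], [(-1), 9, (-2),
    58], [1, (-9), 2, (-58)], [], [0, 0, 2], [], [0, 0, 0, (-2)]], [[20, 140, (-202), 1196], [20, 140,
    (-202), 1196], [], [], [20, 140, (-173), 1232], [86, 792, (-937), 6231], [86, 684, (-810), 5386],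
    [86, 684, (-810), 5386], [102, 911, (-1038), 7019], [102, 911, (-1038), 7019], [20, 140, (-202),
    1196], [94, 313, (-737), 2144]], [[], [0, 0, 0, (-2)], [0, 0, 3, 1], [0, 0, 3, 1], [0, 0, 0,
    (-2)], [0, 0, 0, (-2)], [0, 0, 1, 1], [0, 0, 1, 1], [], [0, 0, 0, (-2)], [], []], [[], [], [7,
    (-32), (-6), (-206)], [7, (-32), (-6), (-208)], [0, 0, 0, 2], [0, 0, 0, 2], [(-10), 55, 56, 120],
    [(-2), 10, 15, 44], [0, 0, 0, 2], [0, 0, 0, 2], [], []], [[], [], [3, 32, (-111), 454], [(-8), 30,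
    (-77), 355], [], [], [2, (-10), (-15), (-44)], [10, (-55), (-56), (-120)], [8, (-52), (-133), 40],
    [0, 0, 7, 3], [], [0, 0, (-2), (-2)]], [[], [], [2, (-7), 27, (-108)], [2, (-7), 29, (-108)], [0,
    0, 2, (-8)], [0, 0, 2, (-8)], [2, (-11), 42, (-151)], [(-4), 22, 33, 43], [2, (-7), 30, (-108)],
    [2, (-7), 28, (-108)], [0, 0, 2, (-8)], [0, 0, 2, (-8)]], [[(-2), 11, (-42), 152], [(-2), 11,
    (-42), 150], [], [], [3, 32, (-117), 455], [3, 32, (-117), 455], [4, (-22), (-33), (-43)], [(-2),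
    11, (-42), 151], [(-2), 7, (-28), 108], [(-2), 7, (-30), 108], [(-5), 95, 52, 392], [(-2), 7,
    (-26), 104]], [[2, (-11), 42, (-150)], [2, (-11), 42, (-152)], [0, 0, 2, (-4)], [0, 0, 2, (-4)],
    [0, (-4), 16, (-46)], [0, (-4), 14, (-48)], [], [], [0, (-4), 12, (-44)], [0, (-4), 14, (-42)],
    [(-3), 84, 95, 236], [(-1), 77, 111, 150]], [[0, (-4), 12, (-44)], [0, (-4), 12, (-42)], [0, 0,
    (-2), 4], [0, 0, (-2), 4], [0, (-4), 12, (-48)], [0, (-4), 14, (-46)], [], [], [0, (-4), 12,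
    (-38)], [0, (-4), 12, (-44)], [0, (-4), 12, (-48)], [0, (-4), 9, (-44)]], [[0, 0, (-2), 8], [0, 0,
    (-2), 8], [(-1228), 17629, (-5427), 113927], [3754, (-49199), 30167, (-343952)], [(-3), 88, 79,
    286], [(-3), 88, 79, 286], [1327, 184115, (-81684), 1215981], [(-44447), (-225447), 199584,
    (-1807620)], [0, 0, 0, 4], [0, 0, 0, 4], [0, 0, (-2), 8], []], [[], [], [(-3754), 49199, (-30167),
    343952], [1228, (-17629), 5427, (-113927)], [], [], [], [], [293, 2984, 287, 12828], [34019,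
    20834, (-82138), 363184], [205, (-1599), 760, (-15077)], []], [[], [], [41286, 111633, (-116872),
    957338], [(-3757), 49287, (-30088), 344242], [], [], [(-10881), (-142323), 54013, (-935122)],
    [(-31649), 87026, 78867, 246001], [(-37634), 163915, 80387, 659581], [41286, 111633, (-116872),
    957334], [], []], [[], [], [(-35507), (-160341), 120721, (-1224475)], [5926, 60296, (-42027),
    447629], [], [], [41604, 50286, (-99186), 569844], [(-7424), (-60685), 27329, (-405894)],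
    [(-8758), (-60803), 28773, (-410783)], [(-52339), (-253725), 215486, (-1997794)], [], [(-35342),
    (-185281), 127027, (-1379115)]], [[(-47), 65, 172, (-152)], [(-7), 138, 81, 602], [(-5926),
    (-60296), 42027, (-447629)], [35507, 160341, (-120721), 1224475], [], [], [(-394), (-589), 2205,
    (-8028)], [(-394), (-589), 2205, (-8028)], [], [], [], []], [[2, (-7), 25, (-100)], [2, (-7), 25,
    (-100)], [33, 84, (-69), 662], [33, 84, (-69), 662], [(-42779), (-294874), 148716, (-2039373)],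
    [7644, (-141670), 6417, (-785956)], [394, 589, (-2205), 8028], [394, 589, (-2205), 8028], [], [],
    [230463, 1943716, (-988541), 13461118], [24512, 184531, (-128192), 1367049]], [[], [], [2142,
    10687, (-3014), 63352], [2142, 10687, (-3014), 63352], [], [], [(-6953), (-71092), 50580,
    (-532747)], [(-13166), (-94925), 70199, (-720246)], [(-13114), (-94871), 69978, (-719294)],
    [(-76956), (-266546), 251658, (-2186492)], [(-19127), (-173654), 111503, (-1263538)], [(-230463),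
    (-1943716), 988541, (-13461118)]]]

/-- The values, a part. -/
def formData13 : List (List (List ℤ)) :=
  [[[27237, (-239282), 11277, (-1307984)], [139, (-519), 1445, (-5443)], [(-584), 4161, 1310,
    20921], [226, (-21515), 6484, (-135562)], [], [], [13166, 94925, (-70199), 720246], [6953, 71092,
    (-50580), 532747], [], [], [0, 1, (-3), (-10)], [4171, (-132898), 31248, (-804719)]], [[723,
    (-4680), 135, (-26364)], [986, (-12679), 1204, (-73823)], [(-226), 21515, (-6484), 135562], [584,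
    (-4161), (-1310), (-20921)], [(-219), 21442, (-6447), 135038], [(-219), 21442, (-6447), 135038],
    [], [], [724, (-8374), 81, (-47276)], [724, (-8374), 81, (-47276)], [724, (-8374), 81, (-47276)],
    [(-167), 20811, (-5912), 130837]], [[(-986), 12679, (-1204), 73823], [(-723), 4680, (-135),
    26364], [], [], [(-10), (-4047), 452, (-24226)], [(-10), (-4047), 452, (-24226)], [227, (-25209),
    6429, (-156473)], [115, (-19774), 4756, (-122684)], [1, (-3694), (-54), (-20912)], [27, (-3439),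
    305, (-20013)], [(-66199), (-346888), 273303, (-2679172)], [86, (-4945), 529, (-28979)]], [[11,
    353, (-506), 3314], [11, 353, (-506), 3314], [], [], [10, 4047, (-452), 24226], [10, 4047, (-452),
    24226], [], [], [11, 353, (-506), 3314], [9, 363, (-504), 3356], [70, (-351), 65, (-1411)], [11,
    353, (-506), 3314]], [[], [0, 0, 0, (-2)], [], [], [], [], [], [], [], [0, 0, 2, 2], [], []], [[],
    [], [(-27), 2799, 31, 16283], [103, (-1665), 1507, (-11806)], [], [], [(-1), 9, (-2), 58], [1,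
    (-9), 2, (-58)], [0, 0, 2, 2], [], [], []], [[0, (-1), 2, (-8)], [0, (-1), 2, (-8)], [3845,
    (-44705), 29617, (-316342)], [(-40467), (-113743), 113089, (-952264)], [], [], [0, (-1), 2, (-8)],
    [0, (-1), 2, (-8)], [], [], [0, (-1), 1, (-8)], [0, 0, 1, (-1)]], [[], [], [197, 590, 193, 3256],
    [162, (-834), 55, (-4337)], [], [], [0, 1, (-2), 8], [0, 1, (-2), 8], [16771, 41436, (-67115),
    417329], [23546, 108194, (-99074), 870651], [], []], [[(-71802), (-15681), 176770, (-625511)],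
    [(-65937), (-351193), 274426, (-2705719)], [(-38363), 416508, 92173, 2057221], [(-237895), 431612,
    513220, 848111], [85, (-1251), 583, (-8067)], [85, (-1251), 583, (-8067)], [(-57697), (-193170),
    178508, (-1590551)], [(-43320), (-88322), 118760, (-834877)], [], [], [(-11), (-353), 506,
    (-3314)], [(-724), 8374, (-81), 47276]], [[65937, 351193, (-274426), 2705719], [71802, 15681,
    (-176770), 625511], [64925, 379753, (-277832), 2874977], [74643, 15874, (-188857), 662716],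
    [29807, 210156, (-145732), 1559876], [71818, 14886, (-176068), 619725], [], [], [0, 0, 1, 1], [0,
    0, 1, 1], [71802, 15681, (-176770), 625511], [66199, 346888, (-273303), 2679172]], [[26, (-547),
    12, (-3342)], [26, (-547), 12, (-3342)], [], [], [(-71818), (-14886), 176068, (-619725)],
    [(-29807), (-210156), 145732, (-1559876)], [26, (-547), 12, (-3343)], [26, (-547), 12, (-3343)],
    [(-59), 704, (-571), 4725], [(-59), 704, (-571), 4725], [167, (-20811), 5912, (-130837)], [(-70),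
    351, (-65), 1411]], [[], [], [], [], [], [], [0, 0, (-3), (-15)], [0, 0, (-3), (-15)], [], [], [],
    [(-5154), (-28537), 26010, (-231388)]], [[0, 0, 2, 5], [0, 0, 2, 5], [0, (-255), 73, (-1745)],
    [10, (-3), (-17), (-17)], [], [], [0, 0, 2, 4], [0, 0, 2, 4], [], [], [], []], [[], [], [], [],
    [], [], [4855, 8154, (-19339), 101025], [(-14845), (-74707), 66028, (-597090)], [], [], [], []],
    [[(-43213), (-475022), 232714, (-3238858)], [(-1092), 19579, (-5266), 121349], [], [], [14,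
    (-21294), 6000, (-132232)], [81597, (-264039), (-153415), (-951797)], [20228, 116191, (-87726),
    880985], [4918, 8183, (-19174), 100866], [19870, 115651, (-85624), 873629], [14939, 105050,
    (-70851), 775436], [20277, 115643, (-87665), 877535], [20239, 116320, (-87692), 881828]], [[43179,
    475710, (-233394), 3244544], [(-80963), 431177, 109695, 1987232], [(-79), 24986, (-6596), 155520],
    [25497, 180856, (-121470), 1336340], [(-81597), 264039, 153415, 951797], [(-14), 21294, (-6000),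
    132232], [14845, 74707, (-66028), 597090], [(-4855), (-8154), 19339, (-101025)], [117, (-315),
    (-73), (-1714)], [117, (-315), (-73), (-1714)], [117, (-315), (-75), (-1714)], []], [[], [], [],
    [], [], [], [5203, 7755, (-20142), 100913], [5203, 7755, (-20142), 100913], [], [], [], []],
    [[1092, (-19579), 5266, (-121349)], [43213, 475022, (-232714), 3238858], [], [], [43232, 475384,
    (-233223), 3242163], [43269, 471220, (-236029), 3232032], [], [], [119, 4242, (-417), 25615], [88,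
    4583, (-473), 27905], [11, 129, 34, 842], [44, (-218), 113, (-1546)]], [[(-34430), (-223085),
    164048, (-1674433)], [190346, 663963, (-691462), 5608902], [], [], [36628, 408453, (-201285),
    2788093], [(-119377), (-31889), 326385, (-1143775)], [], [], [119271, 32567, (-326114), 1147284],
    [119271, 32567, (-326114), 1147284], [5154, 28537, (-26010), 231388], [(-34430), (-223085),
    164048, (-1674433)]], [[68670, 446607, (-327453), 3349613], [(-34430), (-223085), 164047,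
    (-1674433)], [0, 0, (-1)], [], [], [0, 0, (-1)], [], [], [0, 0, (-1)], [0, 0, (-1)], [76873,
    235534, (-226014), 1948127], [34241, 223526, (-163428), 1675231]], [[], [], [], [0, 0, (-1)], [],
    [], [0, 0, (-6), (-5)], [0, 0, (-6), (-5)], [], [], [(-4), 15, 22, (-44)], []], [[(-20), (-140),
    202, (-1196)], [(-20), (-140), 202, (-1196)], [], [], [(-16), (-119), 102, (-788)], [(-16),
    (-119), 102, (-788)], [(-15), (-232), 217, (-1648)], [(-15), (-232), 217, (-1648)], [(-102),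
    (-911), 1038, (-7019)], [(-102), (-911), 1038, (-7019)], [], [(-240), 4843, 3324, 16259]], [[],
    [], [(-78), 27792, (-6754), 172680], [81, 16713, (-4362), 104780], [], [], [52, 54, (-221), 953],
    [52, 54, (-221), 953], [0, 0, 0, 1], [0, 0, 0, 1], [], []], [[(-52), (-54), 221, (-954)], [(-52),
    (-54), 221, (-954)], [144, 3841, (-419), 23196], [144, 3841, (-419), 23196], [], [], [(-52),
    (-54), 221, (-953)], [(-52), (-54), 221, (-953)], [76956, 266546, (-251658), 2186492], [13114,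
    94871, (-69978), 719294], [17, (-269), 406, (-2587)], []], [[58, (-344), 151, (-2478)], [58,
    (-344), 151, (-2478)], [0, 0, (-1), 4], [0, 0, (-1), 4], [2, (-6), 26, (-100)], [2, (-6), 26,
    (-100)], [58, (-344), 148, (-2473)], [58, (-344), 151, (-2477)], [], [0, 0, (-1)], [117, (-315),
    (-74), (-1714)], [77, 4454, (-508), 27067]], [[], [0, 0, (-3), (-4)], [0, 0, (-1), (-4)], [], [],
    [], [(-16), (-111), (-8), (-754)], [(-16), (-111), (-8), (-754)], [0, 0, 1], [], [], [(-11),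
    (-129), (-34), (-842)]], [[0, 0, 2], [0, 0, 1], [], [], [], [], [(-27110), 7643, 50521,
    (-123984)], [46727, 137986, (-154924), 1212727], [0, 0, (-2), 2], [0, 0, (-2), 2], [], []]]

/-- The values, a part. -/
def formData14 : List (List (List ℤ)) :=
  [[[(-190346), (-663963), 691462, (-5608902)], [34430, 223085, (-164048), 1674433], [], [], [], [],
    [(-5195), (-7806), 19889, (-100502)], [(-190346), (-663963), 691462, (-5608903)], [], [], [], []],
    [[121430, 372069, (-322699), 2987453], [43348, 305330, (-132691), 2050894], [], [], [0, 0, 4,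
    (-5)], [0, 0, 4, (-5)], [54785, 207930, (-239866), 1806338], [54785, 207930, (-239866), 1806338],
    [77030, 245489, (-228725), 2009581], [92465, 157473, (-261272), 1597299], [75993, 279160,
    (-235502), 2212199], [77716, 250607, (-227899), 2037313]], [[0, 0, 0, (-1)], [0, 0, 0, (-1)], [],
    [], [0, 0, 0, (-1)], [0, 0, 0, (-1)], [], [], [0, 0, 0, (-1)], [0, 0, 0, (-1)], [], [0, 0, 0,
    (-1)]], [[], [], [], [], [], [], [], [], [], [], [], []], [[], [], [], [], [], [], [], [],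
    [(-724), 8374, (-81), 47276], [(-724), 8374, (-81), 47276], [], []], [[], [], [], [], [], [],
    [(-1), 5, (-1), 20], [1, (-5), 1, (-20)], [], [], [], [(-71802), (-15681), 176771, (-625512)]],
    [[], [], [(-11), (-353), 509, (-3312)], [(-9), (-363), 505, (-3356)], [], [], [(-1), 5, (-1), 21],
    [1, (-5), 1, (-21)], [(-9), (-363), 504, (-3356)], [(-11), (-353), 506, (-3314)], [], []], [[0, 0,
    0, (-2)], [0, 0, 0, (-2)], [9, 363, (-505), 3356], [11, 353, (-509), 3312], [], [], [(-1), 5, 5,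
    23], [1, (-5), (-5), (-23)], [0, 0, (-2), (-2)], [], [], []], [[1, 1, (-14), (-30)], [1, 1, (-14),
    (-30)], [(-13), 98, 117, 188], [(-13), 98, 117, 188], [(-18), 100, 96, 246], [(-18), 100, 96,
    245], [(-2), 211, 102, 985], [(-2), 211, 102, 982], [0, 7, (-89), 282], [0, 7, (-89), 282], [1,
    22, (-99), 298], []], [[], [], [13, (-98), (-117), (-188)], [13, (-98), (-117), (-188)], [0, 0, 3,
    3], [0, 0, 3, 4], [0, 0, 2, 4], [0, 0, 2, 4], [0, (-7), 89, (-282)], [0, (-7), 89, (-282)], [(-5),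
    (-35), 94, (-154)], [0, 0, 0, 1]], [[0, 0, 0, (-1)], [0, 0, 0, (-1)], [140, (-193), (-509), 27],
    [140, (-193), (-509), 27], [0, 0, 0, (-1)], [0, 0, 0, (-1)], [140, (-193), (-509), 27], [45, 24,
    (-82), 270], [0, 0, 0, (-1)], [0, 0, 0, (-1)], [0, 0, 0, (-1)], []], [[0, 0, 0, 1], [0, 0, 0, 1],
    [], [], [0, 0, 0, 1], [0, 0, 0, 1], [0, 0, 0, 2], [0, 0, 0, 2], [], [], [], [0, 0, 0, 1]], [[0, 0,
    0, 1], [0, 0, 0, 1], [], [], [0, 0, 0, 1], [0, 0, 0, 1], [140, (-193), (-510), 29], [45, 24,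
    (-82), 270], [], [], [0, 0, 0, 1], []], [[], [], [], [], [], [], [], [], [1804, 15875, (-14248),
    131170], [(-3135), 30785, 6101, 150242], [(-3134), 30776, 6085, 150244], [81, 16713, (-4363),
    104779]], [[140, (-196), (-515), 85], [(-1), 5, (-1), 19], [0, 0, 0, (-1)], [0, 0, 0, (-1)], [],
    [], [0, 0, 0, (-1)], [0, 0, 0, (-1)], [4043, 44381, (-30131), 329040], [1804, 15875, (-14248),
    131170], [(-2530), 8779, 9370, 20593], [(-2514), 8615, 9332, 19757]], [[1, (-5), 1, (-19)],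
    [(-140), 196, 515, (-85)], [], [], [1, (-5), 1, (-20)], [(-1), 5, (-1), 21], [0, 0, 0, 1], [0, 0,
    0, 1], [(-3790), 27658, 7696, 129179], [(-3790), 27658, 7696, 129179], [(-3790), 27658, 7696,
    129179], [(-2531), 8780, 9360, 20627]], [[(-140), 193, 515, (-66)], [1, (-8), 2], [], [], [22518,
    114410, (-98962), 904373], [18153, 99799, (-81700), 780027], [], [], [186, (-257), (-482),
    (-112)], [(-140), 193, 515, (-66)], [1, (-5), (-3), 13], [(-140), 193, 515, (-66)]], [[], [], [],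
    [], [], [], [(-45), (-24), 82, (-270)], [(-140), 193, 509, (-27)], [], [], [(-60), (-16), 204,
    (-626)], [(-45), (-24), 81, (-266)]], [[], [], [0, (-3), 1, 20], [0, (-3), 0, 20], [], [],
    [(-140), 193, 515, (-67)], [(-45), (-24), 87, (-308)], [], [], [], []], [[(-1), 8, (-2)], [140,
    (-193), (-515), 66], [0, 3, 0, (-20)], [0, 3, (-1), (-20)], [0, 0, (-5), 39], [0, 0, (-5), 39],
    [45, 24, (-87), 308], [140, (-193), (-515), 67], [], [], [], [(-27208), (-211063), 133013,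
    (-1535410)]], [[(-140), 193, 509, (-28)], [(-140), 193, 509, (-28)], [(-140), 193, 509, (-27)],
    [(-140), 193, 509, (-27)], [], [], [], [], [9154, 311281, (-95900), 1961335], [(-3317), 31039,
    6781, 150167], [(-3317), 31039, 6781, 150167], [(-2532), 23705, 5002, 115175]], [[199, (-3232),
    288, (-18566)], [(-623), 17996, (-4626), 112427], [], [], [], [], [], [], [4512, (-10413),
    (-13287), (-16857)], [73, 17837, (-4224), 110761], [(-4325), (-6999), 22639, (-109252)], [(-869),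
    23321, (-3114), 137855]], [[623, (-17996), 4626, (-112427)], [(-199), 3232, (-288), 18566], [0,
    (-3), (-4), 59], [0, (-3), (-4), 59], [], [], [0, (-3), (-4), 59], [0, (-3), (-4), 59], [(-322),
    21900, (-5752), 136981], [5135, (-28409), (-8661), (-129282)], [227, (-17844), 5526, (-112324)],
    [(-868), 23316, (-3113), 137836]], [[19055, 93774, (-80706), 744142], [19835, 115597, (-85447),
    872616], [0, 3, 4, (-59)], [0, 3, 4, (-59)], [0, 0, 5, (-39)], [0, 0, 5, (-39)], [], [], [0, 0, 5,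
    (-39)], [0, 0, 5, (-39)], [0, 0, 5, (-39)], [0, 3, 0, (-25)]], [[0, 0, 0, (-2)], [0, 0, 0, (-2)],
    [(-54), (-16617), 4220, (-103905)], [(-82), (-16707), 4369, (-104770)], [0, 0, 0, (-2)], [0, 0, 0,
    (-2)], [(-157), (-16825), 4560, (-106194)], [(-366), (-33778), 9868, (-214289)], [3317, (-31039),
    (-6781), (-150167)], [(-9154), (-311281), 95900, (-1961335)], [], [27, 97, (-141), 875]], [[], [],
    [], [], [], [], [(-45), (-24), 82, (-270)], [(-140), 193, 510, (-29)], [], [], [], []],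
    [[(-68447), 16622, 161286, (-398100)], [6067, 14511, (-21966), 151381], [], [], [37474, (-100742),
    (-85146), (-288496)], [20983, 39702, (-61628), 400521], [], [], [88, 4583, (-473), 27905], [119,
    4242, (-417), 25615], [35342, 185281, (-127027), 1379115], [(-205), 1599, (-760), 15077]]]

/-- The values, a part. -/
def formData15 : List (List (List ℤ)) :=
  [[[], [], [40467, 113743, (-113089), 952264], [(-3845), 44705, (-29617), 316342], [(-20983),
    (-39702), 61628, (-400521)], [(-37474), 100742, 85146, 288496], [(-20832), (-49703), 64724,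
    (-464016)], [(-37722), 121540, 76814, 431447], [(-37355), 104984, 84729, 314111], [(-20895),
    (-35119), 61155, (-372616)], [], []], [[], [], [(-51867), (-275635), 217101, (-2121432)], [6327,
    72655, (-47711), 530627], [], [], [31113, 51535, (-82532), 533002], [(-8954), (-63321), 29727,
    (-426504)], [(-8758), (-60803), 28773, (-410783)], [39930, 131870, (-119166), 1073321], [], []],
    [[(-388), (-12217), 5581, (-81950)], [(-388), (-12217), 5581, (-81950)], [(-6327), (-72655),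
    47711, (-530627)], [51867, 275635, (-217101), 2121432], [(-4648), 18358, (-1776), 103935],
    [(-365), (-13043), 5703, (-87314)], [(-114), (-505), 594, (-3947)], [(-114), (-505), 594,
    (-3947)], [], [], [], [8902, (-101647), (-5366), (-536247)]], [[0, 0, 0, 2], [0, 0, 0, 2],
    [(-4649), 8743, 14363, 5625], [(-51), (-18480), 4787, (-115107)], [0, 0, 0, 2], [0, 0, 0, 2],
    [114, 505, (-594), 3947], [114, 505, (-594), 3947], [(-73), (-17837), 4224, (-110761)], [(-4512),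
    10413, 13287, 16857], [27, 97, (-141), 876], []], [[], [], [(-135), 54, 528, (-1122)], [(-135),
    54, 527, (-1126)], [], [], [], [], [], [], [], []], [[0, 0, (-2)], [0, 0, (-2)], [135, (-54),
    (-527), 1126], [135, (-54), (-528), 1122], [], [], [135, (-54), (-528), 1123], [135, (-54),
    (-528), 1119], [], [0, 0, 0, 4], [], []], [[0, 0, 2], [0, 0, 2], [19, 362, (-510), 3304], [(-33),
    (-39), 82, (-443)], [], [], [(-33), (-39), 82, (-443)], [(-33), (-39), 82, (-443)], [0, 0, 2, 4],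
    [0, 0, 2, 4], [], [0, 0, 2]], [[], [0, 0, 2], [], [0, 0, 1, 4], [], [], [27593, (-59147),
    (-79012), (-89306)], [19127, 173654, (-111503), 1263537], [0, 0, 0, 8], [0, 0, 0, 4], [], [0, 0,
    2]], [[615, 458, (-2930), 9095], [33, (-347), 79, (-2388)], [19, 362, (-511), 3301], [19, 362,
    (-511), 3301], [], [], [2, (-211), (-102), (-982)], [2, (-211), (-102), (-985)], [(-86), (-260),
    69, (-1844)], [615, 458, (-2929), 9095], [(-20239), (-116320), 87692, (-881828)], [(-19605),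
    50818, 43972, 153607]], [[], [], [56, (-338), 94, (-2294)], [17, 368, (-548), 3442], [(-2), 6,
    (-26), 100], [(-2), 6, (-26), 100], [88, 56, (-258), 1145], [88, 56, (-258), 1145], [(-615),
    (-458), 2929, (-9095)], [86, 260, (-69), 1844], [(-283), (-409), 1999, (-6355)], [(-730), 22917,
    (-5868), 140985]], [[0, (-1), 0, (-8)], [0, (-1), 0, (-6)], [(-17), (-368), 548, (-3442)], [(-56),
    338, (-94), 2294], [0, 0, 1, (-1)], [0, 0, 1, (-1)], [(-88), (-56), 258, (-1145)], [(-88), (-56),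
    258, (-1145)], [], [], [], [0, (-1), 2, (-8)]], [[0, 0, 0, (-2)], [0, 0, 0, (-2)], [(-8070),
    153026, 6497, 808752], [(-8070), 153026, 6497, 808752], [0, 0, 0, (-2)], [0, 0, 0, (-2)], [(-360),
    (-12125), 5443, (-81095)], [(-5295), (-1657), 19765, (-65013)], [(-5135), 28409, 8661, 129282],
    [322, (-21900), 5752, (-136981)], [27, 97, (-141), 875], []], [[0, 0, 0, 2], [0, 0, 0, 2],
    [(-3509), 13862, 10094, 41616], [2672, (-25678), (-5585), (-124447)], [0, 0, 0, 2], [0, 0, 0, 2],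
    [(-690), (-704), 1172, (-7086)], [(-690), (-704), 1172, (-7086)], [(-10738), (-344819), 110433,
    (-2186030)], [2530, (-8779), (-9370), (-20594)], [], [27, 97, (-141), 876]], [[], [], [], [], [],
    [], [], [], [], [], [], []], [[], [], [], [], [], [], [14, (-10), (-8), (-154)], [(-75), (-118),
    191, (-1423)], [], [], [], []], [[29, (-28671), 7089, (-178129)], [3035, (-21824), (-7361),
    (-97619)], [(-81), (-16713), 4362, (-104780)], [78, (-27792), 6754, (-172680)], [], [], [(-84),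
    (-13008), 4423, (-83827)], [(-14664), (-108381), 70800, (-791395)], [3135, (-30785), (-6101),
    (-150242)], [(-1804), (-15875), 14248, (-131170)], [], []], [[], [], [2430, (-23062), (-6315),
    (-107383)], [2744, (-8941), (-9990), (-19871)], [], [], [], [], [(-1804), (-15875), 14248,
    (-131170)], [(-4043), (-44381), 30131, (-329040)], [], [0, 0, 1]], [[], [], [2744, (-8944),
    (-9990), (-19851)], [6606, (-70602), (-7938), (-364142)], [3079, (-21799), (-7409), (-97387)],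
    [3081, (-21809), (-7407), (-97428)], [6606, (-70602), (-7938), (-364142)], [6606, (-70602),
    (-7938), (-364142)], [3790, (-27658), (-7696), (-129179)], [3790, (-27658), (-7696), (-129179)],
    [], []], [[0, 0, 2, (-8)], [0, 0, 2, (-8)], [(-3), 93, 71, 276], [4, 148, (-4), 769], [0, 0, 2,
    (-8)], [0, 0, 2, (-8)], [174, (-482), (-150), (-2062)], [(-52), 51, 18, 78], [(-1), 81, 100, 188],
    [(-1), 81, 100, 188], [], [0, 0, 2, (-8)]], [[(-1), 5, 18, 23], [(-1), 5, 18, 23], [(-4), (-148),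
    4, (-769)], [3, (-93), (-71), (-276)], [0, (-5), 9, 10], [0, (-5), 9, 10], [], [], [(-1), 5, 10,
    19], [(-1), 5, 10, 19], [(-1), 5, 19, 24], [(-1), 5, 10, 19]], [[1, (-5), (-18), (-23)], [1, (-5),
    (-18), (-23)], [(-42570), (-86991), 115243, (-818565)], [19780, (-18755), (-5219), (-74834)], [0,
    0, (-6), (-2)], [0, 0, (-7), (-3)], [1, (-5), (-36), 26], [1, (-5), (-36), 28], [2, (-10), (-44),
    15], [0, 0, (-6), (-2)], [(-2), 14, 15, 31], []], [[(-2), 7, (-22), 102], [(-2), 7, (-22), 102],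
    [(-15), (-135), 81, (-948)], [(-1), (-108), (-158), (-247)], [0, 0, 7, 3], [0, 0, 6, 2], [0, 0, 3,
    5], [0, 0, 3, 5], [], [], [], [0, 0, 7, 3]], [[], [], [1, 108, 158, 247], [15, 135, (-81), 948],
    [], [], [(-424), (-563), 2248, (-8116)], [29, (-18), (-128), 207], [], [], [], []], [[3036,
    (-95394), 21797, (-572712)], [(-47), 65, 172, (-152)], [150, (-4279), 633, (-23334)], [678,
    (-21988), 5566, (-134679)], [], [], [], [], [], [], [], [(-1), 0, 7, 9]], [[], [], [], [], [], [],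
    [], [], [], [], [1, (-5), 76, (-348)], [0, 1, (-4), (-9)]], [[140, (-193), (-509), 28], [140,
    (-193), (-509), 28], [], [], [], [], [], [], [(-2530), 8779, 9370, 20594], [10738, 344819,
    (-110433), 2186030], [(-2530), 8779, 9370, 20594], []], [[], [], [], [0, 0, (-1)], [], [], [0, 0,
    (-1), (-15)], [0, 0, (-1), (-15)], [0, 0, 1], [0, 0, 1], [0, 0, 1], []]]

/-- The values, a part. -/
def formData16 : List (List (List ℤ)) :=
  [[[(-1), (-15), 10, (-16)], [(-1), (-15), 10, (-14)], [(-1), (-11), 2, 45], [(-1), (-11), 2, 45],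
    [], [], [0, 0, 1, (-3)], [0, 0, (-1), 3], [(-1), (-40), 72, (-248)], [(-1), (-40), 72, (-248)],
    [(-1), 37, (-64), 402], [(-1), (-22), 99, (-298)]], [[(-8658), (-43029), 75927, (-450969)],
    [(-7077), 139727, (-6690), 776212], [43090, 295052, (-150259), 2043795], [(-27649), 59052, 79672,
    86922], [(-7644), 141670, (-6417), 785956], [42779, 294874, (-148716), 2039373], [(-19127),
    (-173654), 111503, (-1263537)], [(-27593), 59147, 79012, 89306], [(-127), (-4110), 825, (-25785)],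
    [(-7644), 141670, (-6417), 785956], [], []], [[0, 0, (-2), 8], [0, 0, (-2), 8], [27649, (-59052),
    (-79672), (-86922)], [(-43090), (-295052), 150259, (-2043795)], [0, 0, (-2), 8], [0, 0, 0, 4],
    [16, 111, 8, 754], [16, 111, 8, 754], [], [0, 0, (-2), 4], [0, 0, 3, (-11)], [0, 0, 0, 4]], [[0,
    0, 2, (-8)], [0, 0, 2, (-8)], [0, 0, 1, (-4)], [0, 0, 1, (-4)], [0, 0, 2, (-4)], [0, 0, 2], [16,
    111, 7, 743], [58, (-344), 147, (-2477)], [0, 0, 0, (-4)], [0, 0, 0, (-8)], [], [0, 0, 2, (-4)]],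
    [[], [0, 0, 0, (-4)], [19, 362, (-522), 3341], [26, (-547), 16, (-3329)], [0, 0, (-2)], [0, 0,
    (-2), 4], [0, 0, 2, 10], [0, 0, 2, 10], [0, 0, (-2), (-4)], [0, 0, (-2), (-4)], [], [0, 0, (-5),
    18]], [[], [], [(-19), (-362), 511, (-3301)], [(-19), (-362), 511, (-3301)], [0, 0, 0, (-1)], [0,
    0, 0, (-1)], [0, 0, (-2), (-4)], [0, 0, (-2), (-4)], [], [], [], []], [[8902, (-101647), (-5366),
    (-536247)], [20813, (-259992), (-4062), (-1397732)], [(-33), (-84), 69, (-662)], [(-33), (-84),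
    69, (-662)], [], [], [7424, 60685, (-27329), 405894], [(-41604), (-50286), 99186, (-569844)], [],
    [], [(-910), 27624, (-5836), 168230], [(-365), (-13043), 5704, (-87314)]], [[(-20813), 259992,
    4062, 1397732], [(-8902), 101647, 5366, 536247], [(-8933), 101556, 5460, 535485], [8031, 192633,
    (-87548), 1294030], [7914, 192268, (-87146), 1290501], [(-6237), 91576, (-3029), 506746], [31649,
    (-87026), (-78867), (-246001)], [10881, 142323, (-54013), 935122], [(-8902), 101647, 5366,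
    536247], [8098, 172450, (-81849), 1167089], [(-8902), 101647, 5366, 536247], []], [[], [], [], [],
    [6237, (-91576), 3029, (-506746)], [(-7914), (-192268), 87146, (-1290501)], [], [], [], [],
    [(-15112), (-101717), 72573, (-759450)], [(-388), (-12217), 5583, (-81950)]], [[0, 1, 0, 6], [0,
    1, 0, 8], [34, 38, (-51), 365], [4, 232, (-89), 1745], [0, 1, (-1), 8], [0, 1, (-2), 8], [4, 232,
    (-88), 1745], [34, 38, (-51), 365], [0, 1, (-1), 8], [0, 1, (-1), 8], [], [0, 1, (-1), 8]],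
    [[(-33), 347, (-79), 2388], [(-615), (-458), 2930, (-9095)], [], [], [9, (-108), 58, (-835)], [9,
    (-108), 58, (-835)], [12, (-318), (-55), (-1843)], [(-33), (-43), 124, (-672)], [0, 0, 1], [],
    [(-44), 218, (-113), 1546], [(-117), 315, 75, 1714]], [[0, 0, 3, 4], [], [0, 0, 2], [0, 0, 2],
    [(-9), 108, (-58), 835], [(-9), 108, (-58), 835], [(-58), 344, (-147), 2477], [(-16), (-111),
    (-7), (-743)], [(-68), 79, 167, 71], [(-68), 79, 167, 71], [43179, 475710, (-233394), 3244544],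
    [(-20277), (-115643), 87665, (-877535)]], [[(-2), 7, (-25), 100], [(-2), 7, (-25), 100], [0, 0,
    (-2)], [], [(-59), (-29), 226, (-764)], [(-59), (-29), 222, (-764)], [0, 0, (-2)], [0, 0, (-2)],
    [0, 0, (-1)], [0, 0, (-1)], [142, 3848, (-444), 23298], [19068, 173625, (-111281), 1262774]], [[7,
    (-138), (-81), (-602)], [47, (-65), (-172), 152], [], [], [47, (-65), (-172), 152], [47, (-65),
    (-172), 152], [0, 0, 2], [0, 0, 2], [], [], [5, (-124), (-53), (-568)], [47, (-65), (-172), 152]],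
    [[], [], [0, 0, (-1)], [0, 0, (-1)], [], [], [0, 0, 1, 1], [0, 0, 1, 1], [0, 0, (-1)], [0, 0,
    (-1)], [], [0, 0, (-1)]], [[(-3035), 21824, 7361, 97619], [(-29), 28671, (-7089), 178129], [], [],
    [(-3081), 21809, 7407, 97428], [(-3079), 21799, 7409, 97387], [], [], [710, (-5854), (-288),
    (-31771)], [100, (-8961), 1260, (-52623)], [(-3081), 21809, 7408, 97428], [84, 13008, (-4423),
    83828]], [[], [], [(-19780), 18755, 5219, 74834], [42570, 86991, (-115243), 818565], [], [], [0,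
    0, 0, (-1)], [0, 0, 0, (-1)], [], [], [], []], [[], [], [15, 135, (-81), 948], [15, 135, (-81),
    948], [], [], [], [], [], [], [], []], [[(-187), 242, 496, 101], [(-187), 242, 496, 101], [], [],
    [60, 16, (-204), 626], [60, 16, (-204), 626], [], [], [], [], [(-187), 242, 496, 101], [60, 16,
    (-204), 626]], [[(-19835), (-115597), 85447, (-872616)], [(-19055), (-93774), 80706, (-744142)],
    [(-23590), (-108278), 99832, (-872718)], [(-23497), (-108403), 98874, (-871351)], [(-18153),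
    (-99799), 81700, (-780027)], [(-22518), (-114410), 98962, (-904373)], [(-16789), (-41121), 67176,
    (-415664)], [(-23546), (-108194), 99069, (-870611)], [(-23546), (-108194), 99074, (-870651)],
    [(-16771), (-41436), 67115, (-417329)], [], [(-23581), (-109619), 98939, (-878271)]], [[], [],
    [(-162), 834, (-55), 4337], [(-197), (-590), (-193), (-3256)], [], [], [37722, (-121540),
    (-76814), (-431447)], [20832, 49703, (-64724), 464016], [(-309), (-711), 814, (-5890)], [(-143),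
    381, (-254), 2151], [(-90), (-642), (-552), (-2815)], []], [[49, 879, (-335), 5449], [(-197),
    (-588), (-190), (-3303)], [], [], [], [], [], [], [0, 0, 0, (-2)], [], [], []], [[197, 588, 190,
    3303], [(-49), (-879), 335, (-5449)], [], [], [3, (-1863), 567, (-11204)], [3, (-1863), 567,
    (-11204)], [(-626), 23252, (-4319), 137037], [(-49), (-879), 335, (-5446)], [], [], [(-138),
    (-1546), 923, (-10327)], [(-45), (-20), 56, (-223)]], [[], [], [0, (-3), 0, 20], [0, (-3), 0, 20],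
    [], [], [186, (-257), (-482), (-113)], [(-182), 114, 618, (-972)], [], [], [1, (-8), 17, (-53)],
    []], [[], [], [(-2672), 25678, 5585, 124447], [3509, (-13862), (-10094), (-41616)], [], [],
    [(-215), 75, 700, (-1452)], [(-31), (-34), 73, (-425)], [], [], [(-60), (-16), 204, (-626)], []],
    [[], [], [0, 0, 2, (-4)], [], [0, 0, 2, (-8)], [0, 0, 2, (-8)], [], [], [0, 4, (-14), 42], [0, 4,
    (-12), 44], [22, 105, 8, 606], []], [[(-4), (-143), (-5), (-777)], [3, (-88), (-79), (-294)], [],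
    [], [3, (-88), (-79), (-286)], [3, (-88), (-79), (-286)], [(-1), 5, 10, 15], [1, (-5), (-10),
    (-15)], [], [], [(-1), (-109), (-163), (-248)], [(-22), (-105), (-8), (-606)]]]

/-- The values, a part. -/
def formData17 : List (List (List ℤ)) :=
  [[[], [0, 0, 0, 4], [], [], [0, 0, 0, 4], [0, 0, 0, 4], [1, (-5), (-10), (-15)], [(-1), 5, 10,
    15], [], [], [0, 0, 0, 4], [0, 0, 0, 4]], [[0, 0, 0, (-4)], [], [], [0, 0, (-2), 6], [], [],
    [(-1), 5, 7, 15], [1, (-5), (-7), (-15)], [], [], [], []], [[], [], [], [], [], [], [0, 0, 2], [],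
    [], [], [], [0, 0, 0, 4]], [[], [], [13, 142, (-103), 1050], [13, 142, (-103), 1050], [(-47), 65,
    172, (-152)], [(-47), 65, 172, (-152)], [29, (-18), (-132), 203], [29, (-18), (-132), 203], [],
    [], [], []], [[], [], [(-47), 65, 171, (-148)], [13, 142, (-102), 1052], [14, 134, (-73), 963],
    [(-47), 65, 172, (-152)], [60, 16, (-203), 633], [(-141), 256, 427, 310], [], [], [(-1), 0, 7, 9],
    []], [[187, (-242), (-496), (-101)], [187, (-242), (-496), (-101)], [(-47), 126, 101, 419], [94,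
    (-191), (-256), (-458)], [(-107), 52, 383, (-504)], [(-248), 369, 740, 373], [141, (-256), (-427),
    (-310)], [(-60), (-16), 203, (-633)], [], [], [], []], [[], [], [0, 0, 0, 1], [0, 0, 0, 1], [],
    [], [], [], [], [], [1, (-8), 15, (-53)], [187, (-242), (-496), (-101)]], [[], [], [552, (-13679),
    3885, (-86024)], [150, (-1041), 919, (-7316)], [0, 0, (-1), 2], [0, 0, (-1), 2], [23546, 108194,
    (-99069), 870611], [16789, 41121, (-67176), 415664], [(-7700), 24033, 26093, 58632], [4525,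
    (-130288), 30655, (-789377)], [], [0, 0, (-1), 2]], [[47, (-65), (-172), 152], [(-3036), 95394,
    (-21797), 572712], [], [], [47, (-65), (-172), 152], [(-14), (-134), 73, (-963)], [(-18), (-126),
    104, (-889)], [(-33), (-31), 86, (-405)], [], [], [64, (-196), (-182), (-560)], [(-14), (-134),
    73, (-963)]], [[], [], [0, 0, 9, (-13)], [0, 0, (-9), 13], [], [], [0, 0, 3, (-13)], [0, 0, (-3),
    13], [0, 0, 1], [0, 0, 1], [], [0, 0, 1]], [[(-6067), (-14511), 21966, (-151381)], [68447,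
    (-16622), (-161286), 398100], [71855, (-1872), (-175757), 509082], [(-8506), (-73520), 33291,
    (-494851)], [], [], [1, (-5), (-11), (-7)], [(-6067), (-14511), 21966, (-151380)], [68566,
    (-12380), (-161703), 423713], [(-27109), 7638, 50512, (-123992)], [], []], [[], [], [8506, 73520,
    (-33291), 494851], [(-71855), 1872, 175757, (-509082)], [], [], [(-5019), (-7951), 19509,
    (-100267)], [(-5088), (-7705), 19406, (-98791)], [7644, (-141670), 6417, (-785956)], [(-3758),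
    56201, (-16481), 352914], [2, (-7), 24, (-100)], []], [[(-1), (-1), 14, 30], [(-1), (-1), 14, 30],
    [], [], [(-19), 151, 35, 696], [(-1), 37, (-64), 402], [33, 43, (-124), 672], [(-12), 318, 55,
    1843], [(-16), 87, 140, 103], [(-1), 6, (-75), 312], [(-1), 6, (-75), 312], []], [[], [], [], [],
    [], [], [(-29), 18, 132, (-203)], [(-29), 18, 132, (-203)], [], [], [], [0, 0, (-1)]], [[52, 54,
    (-221), 954], [52, 54, (-221), 954], [196, 3895, (-640), 24152], [196, 3895, (-640), 24150], [69,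
    (-215), 185, (-1633)], [69, (-215), 185, (-1633)], [], [], [196, 3895, (-640), 24152], [196, 3895,
    (-640), 24152], [69, (-215), 185, (-1633)], [54, 47, (-197), 854]], [[], [], [0, (-1), (-8), 13],
    [0, (-1), (-8), 13], [], [], [0, 0, (-3), (-5)], [0, 0, (-3), (-5)], [0, 0, (-3)], [], [], [0, 4,
    (-5), 34]], [[], [], [0, 1, 8, (-13)], [0, 1, 8, (-13)], [], [], [(-29), 18, 128, (-207)], [424,
    563, (-2248), 8116], [], [], [], []], [[], [], [], [], [], [], [33, 39, (-82), 443], [33, 39,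
    (-82), 443], [], [], [], []], [[], [], [], [], [0, 0, 1], [0, 0, 1], [], [], [0, 0, 1], [0, 0, 1],
    [], []], [[45, 24, (-81), 266], [45, 24, (-81), 266], [], [], [248, (-369), (-740), (-373)], [107,
    (-52), (-383), 504], [], [], [(-1), 8, (-15), 53], [(-1), 8, (-15), 53], [45, 24, (-81), 266],
    [(-1), 8, (-15), 53]], [[], [], [(-3), 3705, 61, 20953], [(-762), 6838, 57, 37524], [1, (-5), 1,
    (-21)], [(-1), 5, (-1), 20], [0, 0, 0, 1], [0, 0, 0, 1], [(-100), 8961, (-1260), 52623], [(-710),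
    5854, 288, 31771], [(-3791), 27663, 7696, 129199], [82, 16708, (-4370), 104771]], [[], [], [], [],
    [], [], [], [], [7644, (-141670), 6417, (-785956)], [127, 4110, (-825), 25785], [], [(-69), 215,
    (-185), 1633]], [[], [], [51, 18480, (-4787), 115107], [4649, (-8743), (-14363), (-5625)], [(-3),
    1863, (-567), 11204], [(-3), 1863, (-567), 11204], [8954, 63321, (-29727), 426504], [(-31113),
    (-51535), 82532, (-533002)], [137, 1670, (-1076), 11232], [137, 1670, (-1076), 11232], [], [335,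
    2134, (-733), 13630]], [[], [], [(-21626), (-12139), (-21130), (-38026)], [40969, 344404,
    (-219414), 2490815], [], [], [(-5203), (-7755), 20142, (-100913)], [(-5203), (-7755), 20142,
    (-100913)], [], [], [], []], [[], [], [(-2744), 8941, 9990, 19871], [(-2430), 23062, 6315,
    107383], [], [], [186, (-257), (-482), (-112)], [186, (-257), (-482), (-112)], [], [], [], [141,
    (-256), (-431), (-314)]], [[0, 0, 0, 2], [], [], [], [27, 97, (-141), 877], [16, (-163), (-39),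
    (-836)], [], [], [], [], [], []], [[(-45), (-24), 81, (-266)], [(-45), (-24), 81, (-266)], [(-44),
    (-29), 74, (-276)], [(-44), (-29), 74, (-276)], [(-60), (-16), 204, (-626)], [(-60), (-16), 204,
    (-626)], [(-45), (-24), 88, (-322)], [(-45), (-24), 81, (-266)], [(-45), (-24), 83, (-266)],
    [(-45), (-24), 83, (-266)], [], []]]

/-- The values, a part. -/
def formData18 : List (List (List ℤ)) :=
  [[[], [], [(-3), 3705, 61, 20955], [(-3), 3705, 62, 20955], [0, 0, 1, (-2)], [0, 0, 1, (-2)], [0,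
    0, 0, (-2)], [0, 0, 0, (-2)], [(-3), 3705, 63, 20955], [(-3), 3705, 61, 20955], [0, 1, (-4),
    (-9)], [7, (-45), (-14), (-402)]], [[0, 0, 0, (-2)], [], [(-196), (-3895), 640, (-24150)],
    [(-196), (-3895), 640, (-24152)], [], [0, 0, 0, 2], [49, 879, (-335), 5446], [626, (-23252), 4319,
    (-137037)], [], [0, 0, 0, 2], [], [0, 0, 0, (-2)]], [[0, 0, 0, (-2)], [], [(-25497), (-180856),
    121470, (-1336340)], [79, (-24986), 6596, (-155520)], [0, 0, 0, (-2)], [], [(-46727), (-137986),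
    154924, (-1212727)], [27110, (-7643), (-50521), 123984], [0, 0, 0, 2], [0, 0, 0, (-2)], [], []],
    [[], [0, 0, 0, 2], [(-147), (-4075), 541, (-25028)], [(-88), (-4583), 473, (-27908)], [0, 0, 0,
    (-2)], [0, 0, 0, (-2)], [(-88), (-4583), 473, (-27905)], [(-119), (-4242), 417, (-25615)], [], [],
    [0, 0, 0, (-2)], []], [[1, 15, (-10), 14], [1, 15, (-10), 16], [0, (-1), 0, (-8)], [0, 1, 0, 8],
    [0, 31, 11, 90], [0, 31, 11, 90], [0, 0, 1], [0, 0, (-1)], [], [], [0, 0, 2, (-2)], [1, (-6), 75,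
    (-312)]], [[(-4), 23, (-40), 248], [(-4), 23, (-40), 248], [0, 0, 1, (-4)], [0, 0, 1, (-4)], [11,
    (-60), (-49), (-231)], [1, 5, (-16), 77], [], [], [2, (-3), 28, (-114)], [(-13), 79, 51, 326],
    [137381, 451577, (-766674), 4507477], [147127, 1160473, (-803181), 8548481]], [[80963, (-431177),
    (-109695), (-1987232)], [(-43179), (-475710), 233394, (-3244544)], [0, 0, (-1)], [], [(-43269),
    (-471220), 236029, (-3232032)], [(-43232), (-475384), 233223, (-3242163)], [0, (-1), (-3), (-7)],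
    [0, (-1), (-3), (-7)], [], [], [19605, (-50818), (-43972), (-153607)], [(-43179), (-475710),
    233394, (-3244544)]], [[], [], [], [], [(-69), 215, (-185), 1633], [(-69), 215, (-185), 1633],
    [(-4999), (-28538), 25589, (-230131)], [20228, 116191, (-87728), 880991], [187312, (-88233),
    (-478407), 894361], [12693, 37972, (-51781), 357153], [], []], [[(-58), 344, (-151), 2478],
    [(-58), 344, (-151), 2478], [], [], [59, 29, (-225), 764], [59, 29, (-224), 764], [], [], [68,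
    (-79), (-167), (-71)], [68, (-79), (-167), (-71)], [(-908), 23162, (-5685), 141858], [(-339),
    (-71), 1874, (-3977)]], [[], [], [3, (-3705), (-62), (-20955)], [3, (-3705), (-61), (-20955)],
    [507, 1259, (-2548), 12001], [507, 1259, (-2548), 12001], [49, 879, (-335), 5447], [49, 879,
    (-335), 5444], [], [], [], []], [[0, 0, 0, (-1)], [0, 0, 0, (-1)], [199, (-3904), 435, (-22889)],
    [176, 885, (-1288), 8010], [(-507), (-1259), 2548, (-12001)], [(-507), (-1259), 2548, (-12001)],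
    [], [], [37, 1248, (-483), 7944], [37, 1248, (-483), 7944], [37, 1248, (-483), 7944], [37, 1248,
    (-483), 7944]], [[0, 0, 0, 1], [0, 0, 0, 1], [20516, 73591, (-78675), 619898], [(-4), (-6744),
    507, (-39517)], [37, 1248, (-483), 7938], [37, 1248, (-483), 7945], [], [], [], [], [37, 1248,
    (-483), 7945], [37, 1248, (-483), 7943]], [[3782, (-27606), (-61414), (-3910)], [3782, (-27606),
    (-61414), (-3910)], [], [], [], [], [(-99713), (-923551), 467878, (-6438025)], [(-29539),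
    (-1267992), 450123, (-8200629)], [151162, (-978457), (-102324), (-5018284)], [61219, (-1081505),
    40036, (-6052910)], [(-59645), (-787746), 241195, (-5026989)], [385235, 194149, (-1005321),
    3937849]], [[], [], [(-31), (-91), 92, (-762)], [(-31), (-91), 93, (-762)], [], [], [0, 0, 0, 1],
    [0, 0, 0, 1], [(-8098), (-172450), 81849, (-1167089)], [8902, (-101647), (-5366), (-536247)], [],
    []], [[], [], [(-33), (-84), 69, (-662)], [(-33), (-84), 69, (-662)], [], [], [], [], [], [], [],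
    []], [[], [], [57438, 196917, (-174639), 1596321], [70893, 53165, (-184195), 851161], [], [], [],
    [], [0, 0, 1], [0, 0, 1], [0, 0, 0, 2], []], [[0, 0, 1], [0, 0, 1], [], [], [], [], [0, 0, 0,
    (-2)], [], [], [0, 0, 1], [], []], [[52, 99, (-289), 1140], [136, (-143), (-321), 21], [], [],
    [(-23), 177, 10, 1085], [(-38), 263, 47, 1498], [(-38), 259, 25, 1574], [(-38), 259, 25, 1574],
    [(-38), 259, 20, 1564], [(-1234), 34250, (-6427), 205252], [(-77716), (-250607), 227899,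
    (-2037313)], [(-197), 579, 350, 2634]], [[(-26), 547, (-12), 3342], [(-26), 547, (-12), 3342],
    [(-5584), (-194245), 78206, (-1273441)], [(-17193), (-33117), 71189, (-381846)], [(-85), 1251,
    (-583), 8067], [(-85), 1251, (-583), 8067], [], [], [(-85), 1251, (-583), 8067], [(-85), 1251,
    (-583), 8067], [(-86), 4945, (-529), 28979], [(-85), 1251, (-583), 8067]], [[0, 0, 0, 4], [], [26,
    (-547), 15, (-3328)], [135, (-54), (-527), 1122], [0, 0, 0, (-4)], [0, 0, 2, (-8)], [0, 0, 3, 15],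
    [0, 0, 3, 15], [0, 0, 0, (-4)], [], [], []], [[], [], [2, (-7), 27, (-100)], [(-9), 109, (-57),
    835], [0, 0, (-5), 22], [0, 0, 5, (-19)], [0, 0, 1, 15], [0, 0, 1, 15], [], [], [0, 0, (-2), 4],
    []], [[], [], [(-70893), (-53165), 184195, (-851161)], [(-57438), (-196917), 174639, (-1596321)],
    [], [], [], [], [0, 0, 0, 2], [], [(-2), 3, (-14), 58], []], [[(-3), 88, 79, 294], [4, 143, 5,
    777], [4, 143, 3, 787], [(-3), 88, 79, 294], [0, 0, (-2), 8], [0, 0, (-2), 8], [1, 59, (-88),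
    549], [(-1), (-59), 88, (-549)], [(-3), 88, 80, 292], [(-3), 88, 78, 298], [], [0, 0, (-2), 8]],
    [[], [0, 0, 0, (-2)], [], [], [0, 0, 0, (-2)], [0, 0, 0, (-2)], [0, 0, 5, 6], [0, 0, 5, 6], [0, 0,
    0, 2], [0, 0, 0, 2], [], [0, 0, 0, (-2)]], [[1, (-5), (-33), 22], [1, (-5), (-33), 24], [1, (-6),
    4, (-23)], [(-16), 162, 51, 823], [], [], [1, (-5), (-11), (-19)], [1, (-5), (-11), (-19)], [],
    [0, 0, 3], [0, 0, (-50), 77], []], [[], [], [(-10), 3, 17, 17], [0, 255, (-73), 1745], [], [],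
    [(-1), 5, 11, 19], [(-1), 5, 11, 19], [0, 0, 0, 2], [0, 0, 2, 2], [0, 0, 0, 2], []], [[(-75),
    (-118), 192, (-1423)], [0, (-264), 61, (-1752)], [(-102), 612, (-440), 3663], [(-193), 950,
    (-788), 6254], [], [], [135, (-54), (-531), 1104], [135, (-54), (-531), 1104], [], [], [], []]]

/-- The values, a part. -/
def formData19 : List (List (List ℤ)) :=
  [[[4, (-23), 40, (-248)], [4, (-23), 40, (-248)], [], [], [(-1), (-5), 16, (-77)], [(-11), 60, 49,
    231], [(-2), 3, (-33), 137], [13, (-79), (-46), (-348)], [13, (-79), (-51), (-326)], [(-2), 3,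
    (-28), 114], [27661, 1175477, (-350579), 7408576], [147116, 1160534, (-803133), 8548701]], [[],
    [], [], [], [], [], [(-2), 10, 15, 43], [(-2), 10, 15, 43], [(-2), 3, (-27), 110], [(-2), 3,
    (-14), 56], [0, 0, 0, 2], []], [[], [], [(-20), 169, 13, 922], [(-20), 169, 13, 922], [(-21),
    (-90), 108, (-874)], [(-11), 162, 18, 852], [(-20), 169, 13, 922], [(-20), 169, 13, 922], [], [],
    [(-11), 162, 18, 852], [3362, (-118883), 28022, (-718874)]], [[2, (-7), 24, (-100)], [2, (-7), 24,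
    (-100)], [33, 84, (-69), 662], [33, 84, (-69), 662], [], [], [], [], [], [], [], []], [[(-49),
    (-879), 335, (-5449)], [(-49), (-879), 335, (-5451)], [], [], [140, (-193), (-509), 28], [140,
    (-193), (-509), 28], [(-49), (-879), 335, (-5444)], [(-49), (-879), 335, (-5447)], [], [], [],
    [49, (-211), (-199), (-681)]], [[(-91), (-18), 310, (-709)], [(-91), (-18), 310, (-709)], [], [],
    [(-140), 193, 509, (-28)], [(-140), 193, 509, (-28)], [8711, 77986, (-36118), 526411], [124,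
    (-1140), 430, (-6789)], [(-137), (-1670), 1076, (-11232)], [(-137), (-1670), 1076, (-11232)],
    [(-91), (-18), 310, (-712)], [(-91), (-18), 310, (-709)]], [[91, 18, (-310), 709], [91, 18,
    (-310), 709], [23497, 108403, (-98874), 871351], [23590, 108278, (-99832), 872718], [309, 711,
    (-814), 5890], [143, (-381), 254, (-2153)], [194, (-957), 156, (-5209)], [194, (-957), 156,
    (-5209)], [143, (-381), 254, (-2151)], [309, 711, (-814), 5890], [], [(-49), 211, 199, 681]], [[],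
    [], [(-144), (-3841), 419, (-23196)], [(-144), (-3841), 419, (-23196)], [365, 13043, (-5703),
    87314], [4648, (-18358), 1776, (-103935)], [14664, 108381, (-70800), 791395], [84, 13008, (-4423),
    83827], [15112, 101717, (-72573), 759450], [365, 13043, (-5703), 87314], [365, 13043, (-5704),
    87314], [15112, 101717, (-72573), 759450]], [[(-658), (-1264), 1040, (-9871)], [93, 1526, (-867),
    10104], [], [], [], [], [(-565), (-1446), 800, (-10332)], [335, (-14907), 3987, (-93749)], [46,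
    1652, (-766), 10520], [(-564), (-1455), 784, (-10332)], [], []], [[335, (-14906), 3976, (-93736)],
    [335, (-14906), 3976, (-93736)], [], [], [58045, (-205246), (-59067), (-937139)], [(-3957), 10759,
    (-31272), 110202], [335, (-14906), 3976, (-93736)], [335, (-14906), 3976, (-93736)], [(-2598),
    7842, (-31346), 93557], [8673, (-102492), (-45109), (-464985)], [(-25227), (-114025), 98783,
    (-897319)], [(-21303), (-42369), (-13234), (-228068)]], [[(-335), 14906, (-3976), 93736], [(-335),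
    14906, (-3976), 93736], [(-2), 118, 39, 599], [(-2), 118, 39, 599], [43, 139, (-18), 822], [43,
    139, (-18), 822], [], [], [43, 135, (-61), 932], [44270, 158264, (-190920), 1386652], [(-1193),
    (-49293), 18408, (-322943)], [44237, 158074, (-190915), 1385595]], [[(-3284), 12019, (-32459),
    120476], [14620, (-93224), (-32840), (-441892)], [], [], [(-43), (-139), 18, (-822)], [(-43),
    (-139), 18, (-822)], [(-43), (-135), 61, (-937)], [(-43), (-135), 61, (-937)], [(-44270),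
    (-158264), 190920, (-1386652)], [(-43), (-135), 61, (-932)], [39934, 294735, (-201581), 2167252],
    [(-34398), (-223978), 163923, (-1679143)]], [[(-1), 8, (-17), 53], [(-1), 8, (-17), 53], [44, 29,
    (-74), 276], [44, 29, (-74), 276], [(-61), (-8), 187, (-573)], [(-61), (-8), 187, (-573)], [], [],
    [45, 24, (-83), 266], [45, 24, (-83), 266], [(-202), 248, 618, (-259)], [(-1), 8, (-17), 53]],
    [[], [], [0, 1, (-12), 13], [0, 1, (-12), 13], [], [], [(-29), 18, 128, (-207)], [(-29), 18, 128,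
    (-207)], [], [], [], []], [[(-141), 256, 431, 314], [(-187), 242, 496, 101], [2, (-118), (-39),
    (-599)], [2, (-118), (-39), (-599)], [61, 8, (-187), 573], [61, 8, (-187), 573], [29, (-18),
    (-128), 207], [29, (-18), (-128), 207], [], [], [(-141), 256, 431, 314], [60, 16, (-204), 626]],
    [[], [], [(-77), (-3762), (-38), (-21568)], [(-75), (-3772), (-43), (-21609)], [], [], [(-212),
    (-524), 890, (-4858)], [(-88), (-672), 579, (-4890)], [], [], [(-37), (-1248), 483, (-7943)], []],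
    [[335, 2134, (-733), 13630], [335, 2134, (-733), 13630], [(-117), 856, (-112), 4540], [(-117),
    856, (-112), 4541], [], [], [88, 672, (-579), 4890], [212, 524, (-890), 4858], [(-358), (-500),
    1013, (-5209)], [(-162), 836, (-55), 4318], [], [138, 1546, (-923), 10327]], [[49, (-211), (-199),
    (-681)], [49, (-211), (-199), (-681)], [117, (-856), 112, (-4541)], [117, (-856), 112, (-4540)],
    [49, (-211), (-199), (-684)], [49, (-211), (-199), (-684)], [254, (-4104), (-821), (-21291)],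
    [254, (-4104), (-821), (-21291)], [162, (-836), 55, (-4318)], [358, 500, (-1013), 5209], [49,
    (-211), (-199), (-681)], []], [[(-49), 211, 199, 681], [(-49), 211, 199, 681], [(-201), 243, 639,
    (-46)], [(-201), 243, 639, (-46)], [], [], [8336, 79739, (-36659), 537257], [1231, (-25294), 2853,
    (-145348)], [644, 2845, (-1547), 19520], [448, 1509, (-479), 9993], [91, 18, (-310), 709], [(-98),
    (-668), 534, (-4770)]], [[0, 0, 0, (-3)], [0, 0, 0, (-3)], [(-94), 191, 256, 458], [47, (-126),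
    (-101), (-419)], [], [], [], [], [47, (-126), (-101), (-419)], [(-94), 191, 256, 458], [(-49),
    211, 199, 681], []], [[1, (-8), 17, (-53)], [1, (-8), 17, (-53)], [0, (-3), 24, (-43)], [0, (-3),
    24, (-43)], [], [], [1, (-8), 17, (-52)], [1, (-8), 17, (-52)], [1, (-8), 15, (-53)], [1, (-8),
    15, (-53)], [], []], [[25, 101, 484, (-448)], [460, (-17074), 5085, (-108322)], [(-91), (-3397),
    1205, (-22377)], [(-124), 1140, (-430), 6789], [(-21), 165, 35, 869], [(-21), 165, 35, 869],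
    [(-124), 1140, (-430), 6789], [(-8711), (-77986), 36118, (-526411)], [25, (-154), 557, (-2193)],
    [25, (-154), 557, (-2193)], [], [25, 101, 484, (-448)]], [[0, 0, 0, 2], [], [(-159), 64, 537,
    (-1275)], [(-124), (-149), 652, (-2727)], [(-21), 165, 35, 869], [(-21), 165, 35, 867], [], [],
    [], [0, 0, 0, 2], [], []], [[], [], [0, 0, (-1)], [], [(-59), (-29), 224, (-764)], [(-59), (-29),
    225, (-764)], [(-34), (-38), 51, (-365)], [(-4), (-232), 88, (-1745)], [], [0, 0, (-1)], [75,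
    4460, (-531), 27161], []], [[], [], [3, (-88), (-79), (-294)], [(-4), (-143), (-3), (-787)], [],
    [], [1, (-5), (-9), (-8)], [(-1), 5, 9, 8], [0, 0, 0, 2], [0, 0, 0, (-2)], [], []], [[], [], [0,
    0, 2, (-6)], [], [], [0, 0, 0, 2], [1, (-5), (-9), (-9)], [(-1), 5, 9, 9], [], [], [], []], [[],
    [], [(-13), (-142), 103, (-1050)], [(-13), (-142), 103, (-1050)], [0, 0, 0, (-2)], [], [16,
    (-160), (-29), (-847)], [16, (-160), (-29), (-847)], [0, 0, 0, 2], [], [], []]]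

/-- The values, a part. -/
def formData20 : List (List (List ℤ)) :=
  [[[49, 879, (-335), 5451], [49, 879, (-335), 5449], [762, (-6838), (-57), (-37524)], [3, (-3705),
    (-61), (-20953)], [(-143), 381, (-254), 2153], [(-309), (-711), 814, (-5890)], [0, 0, 0, 3], [0,
    0, 0, 3], [], [0, 0, 0, 2], [98, 668, (-534), 4770], [98, 668, (-534), 4767]], [[], [0, 0, 0, 2],
    [], [], [0, 0, 0, 2], [0, 0, 0, 2], [], [], [0, 0, 0, 4], [0, 0, 0, 2], [], [0, 0, 0, 4]], [[],
    [], [], [], [], [], [], [], [214, (-25041), 6070, (-154394)], [910, (-27624), 5836, (-168230)],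
    [], [214, (-25041), 6070, (-154394)]], [[(-93), (-1526), 867, (-10104)], [658, 1264, (-1040),
    9871], [], [], [90, 642, 552, 2815], [747, 1931, (-1628), 14756], [(-31), (-34), 72, (-430)],
    [(-31), (-34), 72, (-430)], [94, (-191), (-256), (-458)], [(-47), 126, 101, 419], [45, 20, (-56),
    223], [90, 642, 552, 2815]], [[], [], [3, (-3705), (-61), (-20955)], [1, (-3694), (-54),
    (-20912)], [(-37), (-1248), 483, (-7945)], [(-37), (-1248), 483, (-7938)], [0, 0, 0, (-3)], [0, 0,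
    0, (-3)], [], [], [], []], [[], [], [31, 31, (-48), 388], [31, 31, (-47), 388], [], [], [1, (-5),
    (-9), (-5)], [1, (-5), (-9), (-5)], [], [], [(-37), (-1248), 483, (-7944)], []], [[(-335),
    (-2134), 733, (-13630)], [(-335), (-2134), 733, (-13630)], [30, 36, (-38), 393], [30, 36, (-38),
    392], [(-747), (-1931), 1628, (-14756)], [(-90), (-642), (-552), (-2815)], [(-1), 5, 9, 5], [(-1),
    5, 9, 5], [(-448), (-1509), 479, (-9993)], [(-644), (-2845), 1547, (-19520)], [(-335), (-2134),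
    733, (-13630)], []], [[(-634), (-1282), 1099, (-10209)], [(-634), (-1282), 1099, (-10209)],
    [(-30), (-36), 38, (-392)], [(-30), (-36), 38, (-393)], [(-120), (-681), (-490), (-3251)],
    [(-777), (-1970), 1690, (-15191)], [], [], [(-875), (-2638), 2224, (-19959)], [(-679), (-1302),
    1156, (-10431)], [(-6557), (-88804), 40440, (-599567)], [(-634), (-1282), 1099, (-10209)]], [[634,
    1282, (-1099), 10209], [634, 1282, (-1099), 10209], [201, (-243), (-639), 46], [201, (-243),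
    (-639), 46], [], [], [777, 1970, (-1690), 15191], [777, 1970, (-1690), 15191], [679, 1302,
    (-1156), 10431], [875, 2638, (-2224), 19959], [425, 445, (-1389), 5374], [478, (-32126), 8024,
    (-200519)]], [[], [], [], [], [], [], [], [], [(-1), 5, 9, 10], [(-1), 5, 9, 10], [], [(-15972),
    (-199637), 106255, (-1387651)]], [[], [], [], [], [], [], [], [], [], [], [], []], [[0, 4, 26,
    (-66)], [0, 4, 26, (-66)], [7, 168, (-47), 1130], [7, 168, (-47), 1130], [], [], [0, 4, 26,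
    (-71)], [0, 4, 26, (-71)], [0, 0, (-2)], [], [], []], [[(-55433), 361976, (-32454), 2026651],
    [(-55433), 361976, (-32454), 2026651], [(-344597), (-919614), 1063206, (-8071266)], [46952,
    1566204, (-496987), 9961149], [189888, 1476037, (-935600), 10706785], [(-22063), 718109,
    (-163718), 4378530], [29539, 1267992, (-450123), 8200629], [99713, 923551, (-467878), 6438025],
    [(-61219), 1081505, (-40036), 6052910], [(-151162), 978457, 102324, 5018284], [(-118860),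
    (-398168), 270169, (-2996462)], []], [[2, (-7), 22, (-102)], [2, (-7), 22, (-102)], [0, 0, 1], [],
    [0, 5, (-9), (-10)], [0, 5, (-9), (-10)], [16, (-159), (-21), (-861)], [(-1), 10, 6, 11], [0, 0,
    1, (-2)], [0, 0, 1, (-2)], [0, 7, 52, (-69)], [0, 7, 43, (-69)]], [[(-68670), (-446607), 327452,
    (-3349613)], [(-68670), (-446607), 327452, (-3349613)], [], [], [22063, (-718109), 163718,
    (-4378530)], [(-189888), (-1476037), 935600, (-10706785)], [168, (-279), (-552), (-168)], [168,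
    (-279), (-552), (-168)], [], [], [(-70869), 846758, (-1675), 4643958], [(-34424), (-223180),
    164066, (-1675008)]], [[], [], [], [], [], [], [0, 0, (-6), (-7)], [0, 0, (-5), (-7)], [], [], [],
    []], [[], [], [34, 206, (-223), 1574], [(-21), (-104), 109, (-852)], [], [], [0, 0, (-5), (-6)],
    [0, 0, (-5), (-6)], [], [], [], [0, (-1), 2, (-5)]], [[], [0, 0, 0, (-2)], [0, 1, (-57), 106],
    [26, 103, (-145), 897], [0, 0, 0, (-2)], [0, 0, 0, (-2)], [0, 0, 0, 1], [0, 0, 0, 1], [(-6),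
    (-262), 103, (-1755)], [(-6), (-262), 103, (-1755)], [0, 0, 0, (-2)], []], [[6, 262, (-103),
    1753], [6, 262, (-103), 1755], [5, (-1), (-36), 47], [5, (-1), (-36), 47], [0, 0, 0, 2], [0, 0, 0,
    2], [(-5), 2, (-24), 57], [6, 262, (-105), 1747], [6, 262, (-103), 1755], [6, 262, (-103), 1755],
    [0, 0, 0, 2], []], [[(-6), (-262), 103, (-1755)], [(-6), (-262), 103, (-1753)], [0, 0, (-2),
    (-5)], [0, 0, (-2), (-5)], [5, (-2), 22, (-59)], [5, (-2), 22, (-59)], [0, 0, (-2), (-5)], [0, 0,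
    (-2), (-5)], [], [], [5, (-2), 22, (-59)], [5, (-2), 22, (-61)]], [[388, 12217, (-5581), 81950],
    [388, 12217, (-5581), 81950], [(-88), (-4583), 473, (-27906)], [(-88), (-4583), 473, (-27906)],
    [], [], [5295, 1657, (-19765), 65013], [360, 12125, (-5443), 81095], [910, (-27624), 5836,
    (-168230)], [388, 12217, (-5581), 81950], [388, 12217, (-5583), 81950], [910, (-27624), 5836,
    (-168230)]], [[(-358), (-4869), 2530, (-33516)], [(-358), (-4869), 2530, (-33516)], [], [],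
    [(-927), 18364, (-5029), 112319], [(-927), 18364, (-5028), 112319], [], [], [(-88), (-4583), 473,
    (-27905)], [(-119), (-4242), 417, (-25615)], [(-77), (-4454), 508, (-27067)], [(-75), (-4460),
    531, (-27161)]], [[(-147), (-4074), 539, (-25020)], [(-147), (-4074), 539, (-25020)], [], [],
    [553, 4242, (-5133), 37457], [(-9708), (-62915), 46475, (-476694)], [], [], [(-88), (-4583), 473,
    (-27908)], [(-147), (-4075), 540, (-25028)], [(-147), (-4074), 539, (-25021)], [(-147), (-4074),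
    539, (-25020)]], [[], [], [21, 104, (-109), 852], [(-34), (-206), 223, (-1574)], [], [], [38,
    (-259), (-25), (-1574)], [38, (-259), (-25), (-1574)], [], [], [0, 0, (-1)], []], [[0, 0, 0, 2],
    [], [], [], [(-5), 2, (-22), 59], [(-5), 2, (-22), 59], [], [], [], [], [], []], [[0, 0, 0, 4],
    [0, 0, 0, 4], [], [], [], [], [], [], [0, 0, 0, 4], [0, 0, 0, 4], [0, 0, 0, 4], [0, 0, 0, 4]],
    [[0, 0, 0, (-1)], [0, 0, 0, (-1)], [20, (-169), (-13), (-922)], [20, (-169), (-13), (-922)], [9,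
    (-7), 5, (-70)], [(-1), (-259), 95, (-1796)], [], [], [16, 161, (-40), 1063], [5, (-99), 41,
    (-627)], [34429, 223081, (-164025), 1674381], [63427, 760140, (-302609), 5023078]]]

/-- The values, a part. -/
def formData21 : List (List (List ℤ)) :=
  [[[34430, 223085, (-164047), 1674433], [(-68670), (-446607), 327453, (-3349613)], [], [], [], [],
    [(-19642), (-316474), 130628, (-2115961)], [19533, (-29979), (-50173), (-21829)], [], [], [34430,
    223085, (-164047), 1674433], [(-34429), (-223081), 164025, (-1674381)]], [[0, (-4), (-26), 66],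
    [0, (-4), (-26), 66], [(-74643), (-15874), 188857, (-662716)], [(-64925), (-379753), 277832,
    (-2874977)], [0, (-4), (-26), 66], [0, (-4), (-26), 66], [], [], [0, (-4), (-24), 68], [0, (-4),
    (-26), 66], [0, (-4), (-26), 64], [0, (-4), (-24), 68]], [[], [], [3757, (-49287), 30088,
    (-344242)], [(-41286), (-111633), 116872, (-957338)], [0, 0, 0, (-4)], [0, 0, 0, (-4)], [0, 0, 2,
    1], [0, 0, 2, 1], [0, 0, 0, (-4)], [0, 0, 0, (-4)], [], []], [[], [0, 0, (-2)], [(-8031),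
    (-192633), 87548, (-1294030)], [8933, (-101556), (-5460), (-535485)], [(-1), 5, 8, 15], [(-1), 5,
    6, 15], [0, 0, (-2), (-1)], [0, 0, (-2), (-1)], [0, 0, (-3)], [0, 0, (-3)], [0, 0, (-1)], [0, 0,
    (-3)]], [[], [], [(-135), 54, 527, (-1122)], [(-26), 547, (-15), 3328], [], [], [(-26), 547,
    (-12), 3343], [(-26), 547, (-12), 3343], [], [], [(-214), 25041, (-6070), 154394], []], [[0, 0,
    2], [], [], [0, 0, 2], [], [], [], [0, 0, (-2)], [], [0, 0, (-1)], [], []], [[], [], [], [0, 0,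
    (-1)], [], [], [], [], [0, 0, 0, (-2)], [0, 0, 0, (-2)], [], []], [[0, 0, 0, (-2)], [], [0, 0, 1,
    (-4)], [0, 0, 1, (-4)], [], [], [], [], [], [], [], []], [[], [0, 0, 0, (-4)], [0, 0, (-1), 4],
    [0, 0, (-1), 4], [], [], [], [], [], [], [0, 0, 0, 4], []], [[(-14620), 93224, 32840, 441892],
    [3284, (-12019), 32459, (-120476)], [3191, (-11968), 32699, (-120836)], [3930, (-9324), 31098,
    (-102443)], [3957, (-10759), 31272, (-110202)], [(-58045), 205246, 59067, 937139], [2917,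
    (-22589), 35344, (-186434)], [(-8772), 131370, 36233, 642923], [(-8673), 102492, 45109, 464985],
    [2598, (-7842), 31346, (-93557)], [], [(-59128), (-400391), 239612, (-2850119)]], [[2, (-7), 21,
    (-100)], [2, (-7), 20, (-102)], [0, 0, (-1)], [], [2, (-7), 20, (-102)], [2, (-7), 19, (-102)],
    [8772, (-131370), (-36233), (-642923)], [(-2917), 22589, (-35344), 186434], [0, 0, (-1), 2], [0,
    0, (-1), 2], [2, (-7), 23, (-104)], [2, (-7), 21, (-100)]], [[0, 0, 0, 2], [0, 0, 0, 4], [], [0,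
    0, 1], [], [], [], [], [0, 0, 0, 2], [0, 0, 0, 2], [0, 0, 0, 2], [0, 0, 0, 2]], [[], [0, 0, 0, 2],
    [], [], [], [], [], [], [0, 0, 0, 2], [0, 0, 0, (-2)], [], []], [[0, 0, 0, (-4)], [0, 0, 0, (-4)],
    [], [], [], [], [], [], [], [], [0, 0, 0, (-4)], [0, 4, (-12), 48]], [[0, 0, 0, 4], [], [], [],
    [], [], [], [], [], [], [0, 4, (-9), 44], []], [[], [], [0, (-1), 12, (-13)], [0, (-1), 12,
    (-13)], [1, (-5), (-4), (-27)], [1, (-5), 17, (-55)], [], [], [], [0, 0, 3], [], []], [[(-2358),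
    73406, (-16231), 438037], [197, (-4344), 461, (-23178)], [], [], [108, (-16254), 8813, (-117389)],
    [108, (-16254), 8813, (-117389)], [20, (-169), (-13), (-922)], [20, (-169), (-13), (-922)],
    [(-41286), (-111633), 116872, (-957334)], [37634, (-163915), (-80387), (-659581)], [108, (-16254),
    8813, (-117389)], [(-195), 953, (-133), 5156]], [[(-83452), (-193579), 236085, (-1741538)],
    [(-84488), (-189410), 234153, (-1716644)], [(-105), 16166, (-8892), 117107], [(-105), 16166,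
    (-8892), 117107], [(-108), 16254, (-8813), 117389], [(-108), 16254, (-8813), 117389], [(-2027),
    25513, (-4101), 155553], [(-336), (-1530), (-5695), 9244], [(-34019), (-20834), 82138, (-363184)],
    [(-293), (-2984), (-287), (-12828)], [], [(-353), 12954, (-4001), 84559]], [[84488, 189410,
    (-234153), 1716644], [83452, 193579, (-236085), 1741538], [51050, 181830, (-216278), 1619131],
    [49232, 146472, (-167455), 1298467], [84027, 187749, (-239383), 1723862], [47794, 193690,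
    (-203006), 1646330], [], [], [], [], [30483, 223796, (-149837), 1646230], [49935, 127956,
    (-160337), 1171683]], [[0, 0, (-2), (-2)], [0, 0, (-2), (-2)], [(-49232), (-146472), 167455,
    (-1298467)], [(-51050), (-181830), 216278, (-1619131)], [], [], [1, (-9), (-54), 96], [1, (-9),
    (-54), 96], [0, 0, 6, 2], [(-2), 10, 44, (-15)], [], []], [[0, 0, 0, (-1)], [0, 0, 0, (-1)], [0,
    0, (-1), 4], [0, 0, (-1), 4], [], [], [], [], [1, (-5), (-9), (-9)], [(-1), 5, 9, 9], [], []],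
    [[], [], [0, 42, 15, 162], [2, 32, 3, 126], [], [], [2, 32, 3, 126], [0, 42, 15, 162], [1, (-5),
    (-2), (-21)], [(-1), 5, 2, 21], [], []], [[0, 0, 1, (-4)], [0, 0, 1, (-4)], [], [], [2, (-7), 20,
    (-102)], [2, (-7), 20, (-102)], [0, (-42), (-15), (-162)], [(-2), (-32), (-3), (-126)], [3, (-88),
    (-78), (-298)], [3, (-88), (-80), (-292)], [(-2), (-35), (-1), (-165)], [5, (-95), (-52),
    (-392)]], [[0, 0, 0, (-4)], [0, 0, 0, (-2)], [(-13), (-142), 102, (-1052)], [47, (-65), (-171),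
    148], [], [], [], [], [], [0, 0, 0, (-2)], [0, 0, 0, (-4)], []], [[0, 0, 0, 1], [0, 0, 0, 1], [0,
    (-42), (-16), (-158)], [(-2), (-32), (-4), (-122)], [0, 0, 0, 1], [0, 0, 0, 1], [], [], [(-1), 5,
    10, 15], [1, (-5), (-10), (-15)], [0, 0, 0, 1], [0, 0, 0, 1]], [[], [], [(-16), 159, 21, 861], [1,
    (-10), (-5), (-11)], [], [], [1, (-10), (-6), (-11)], [(-16), 159, 21, 861], [], [0, 0, (-3)], [],
    []], [[1, (-5), (-8), (-15)], [1, (-5), (-9), (-15)], [(-4), (-232), 89, (-1745)], [(-34), (-38),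
    51, (-365)], [1, (-5), (-6), (-15)], [1, (-5), (-8), (-15)], [], [], [1, (-5), (-11), (-15)], [1,
    (-5), (-9), (-15)], [1, (-5), (-8), (-15)], [1, (-5), (-9), (-15)]]]

/-- The values, a part. -/
def formData22 : List (List (List ℤ)) :=
  [[[(-29599), (-149609), 119269, (-1147696)], [(-15883), (-199481), 106055, (-1386067)], [(-24239),
    (-111247), 96394, (-876070)], [(-34014), (-224121), 162836, (-1677165)], [(-425), (-445), 1389,
    (-5374)], [(-425), (-445), 1389, (-5374)], [], [], [(-6303), (-87947), 40673, (-594510)],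
    [(-15882), (-199486), 106046, (-1386077)], [89, 156, (-200), 1584], [(-425), (-445), 1389,
    (-5374)]], [[0, 0, 1, 1], [0, 0, 1, 1], [], [], [0, 0, 0, 1], [0, 0, 0, 1], [], [], [0, 0, 0, 1],
    [0, 0, 0, 1], [0, 0, 1, 1], [0, 0, 0, 1]], [[(-5097), (-10252), 14880, (-96400)], [(-5057),
    (-10179), 14789, (-95644)], [(-3229), 9, 13867, (-39409)], [(-12206), (-60811), 59371, (-500716)],
    [], [], [7571, 20407, (-24826), 185398], [(-3229), 9, 13868, (-39409)], [(-12693), (-37972),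
    51781, (-357153)], [(-187312), 88233, 478407, (-894361)], [(-24512), (-184531), 128192,
    (-1367049)], [(-12174), 129475, 8190, 679812]], [[852, (-22824), 5559, (-139484)], [852, (-22824),
    5559, (-139480)], [], [0, 0, (-1)], [927, (-18364), 5028, (-112319)], [927, (-18364), 5029,
    (-112319)], [3229, (-9), (-13868), 39409], [(-7571), (-20407), 24826, (-185398)], [], [], [730,
    (-22917), 5868, (-140985)], [908, (-23162), 5685, (-141858)]], [[(-1), 5, 9, 15], [(-1), 5, 8,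
    15], [], [0, 0, 1], [], [], [], [], [], [], [], []], [[(-106520), (-8147), 280722, (-884557)],
    [13328, 99626, (-68671), 732220], [(-1051), (-49660), 17922, (-323803)], [(-1051), (-49659),
    17921, (-323803)], [425, 445, (-1389), 5374], [425, 445, (-1389), 5374], [690, 704, (-1172),
    7086], [690, 704, (-1172), 7086], [(-1051), (-49659), 17922, (-323803)], [(-1051), (-49659),
    17921, (-323803)], [634, 1282, (-1099), 10209], []], [[], [], [(-40969), (-344404), 219414,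
    (-2490815)], [21626, 12139, 21130, 38026], [(-31792), (-233688), 155225, (-1706306)], [(-31792),
    (-233688), 155225, (-1706306)], [(-54785), (-207930), 239866, (-1806338)], [(-54785), (-207930),
    239866, (-1806338)], [(-40970), (-344402), 219380, (-2490695)], [149776, 347647, (-528750),
    3374745], [21303, 42369, 13234, 228068], [(-39934), (-294735), 201581, (-2167252)]], [[5057,
    10179, (-14789), 95644], [5097, 10252, (-14880), 96400], [(-6751), (-45690), 41961, (-370802)],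
    [2186, 15057, (-3452), 89751], [], [], [(-27460), 58943, 78944, 88361], [(-6555), (-70991), 48484,
    (-528037)], [3758, (-56201), 16481, (-352914)], [(-7644), 141670, (-6417), 785956], [(-19068),
    (-173625), 111281, (-1262774)], []], [[(-852), 22824, (-5559), 139480], [(-852), 22824, (-5559),
    139484], [(-705), 26898, (-6099), 164504], [(-196), 25301, (-6523), 157236], [(-398), (-100),
    2099, (-4741)], [(-398), (-100), 2099, (-4741)], [6555, 70991, (-48484), 528037], [27460,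
    (-58943), (-78944), (-88361)], [(-117), 315, 73, 1714], [(-117), 315, 73, 1714], [], [(-117), 315,
    74, 1714]], [[(-21), 165, 35, 871], [(-21), 165, 35, 875], [(-176), (-885), 1288, (-8010)],
    [(-199), 3904, (-435), 22889], [(-21), 165, 35, 871], [(-21), 165, 35, 871], [(-109), (-507), 616,
    (-4008)], [57, 585, (-452), 4028], [(-21), (-90), 108, (-874)], [(-11), 162, 18, 854], [(-21),
    165, 35, 871], []], [[], [], [337, (-1944), (-2488), (-6710)], [113, 214, (-849), 1861], [0, 0, 0,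
    (-2)], [0, 0, 0, (-2)], [(-57), (-585), 452, (-4028)], [109, 507, (-616), 4008], [6, 262, (-103),
    1751], [6, 262, (-103), 1751], [], [0, 0, 0, (-2)]], [[0, 0, 0, 2], [], [(-113), (-214), 849,
    (-1861)], [(-337), 1944, 2488, 6710], [0, 0, 0, 2], [0, 0, 0, 2], [], [], [(-6), (-262), 103,
    (-1751)], [(-6), (-262), 103, (-1751)], [(-5), 2, (-22), 61], [0, 0, 0, 2]], [[], [0, 0, 0, (-2)],
    [], [], [], [], [], [], [5, (-2), 22, (-59)], [5, (-2), 22, (-59)], [], []], [[], [], [], [], [],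
    [], [78, 420, (-491), 3144], [88, 672, (-581), 4876], [(-5), 2, (-22), 59], [(-5), 2, (-22), 59],
    [], [(-5), 2, (-22), 59]], [[], [], [(-122), 4987, 2569, 17037], [(-122), 4987, 2569, 17037],
    [610, (-6096), (-3003), (-21820)], [21809, (-102263), (-41555), (-434151)], [(-84), (-761), 848,
    (-5781)], [(-84), (-761), 848, (-5781)], [(-82), (-771), 836, (-5823)], [(-82), (-771), 836,
    (-5823)], [488, (-1107), (-493), (-4677)], []], [[], [], [122, (-4987), (-2569), (-17037)], [122,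
    (-4987), (-2569), (-17037)], [21967, (-125391), (-36683), (-573030)], [1473, (-42428), (-2887),
    (-218593)], [84, 761, (-848), 5781], [84, 761, (-848), 5781], [82, 771, (-836), 5823], [82, 771,
    (-836), 5823], [352, (-964), (-172), (-4695)], [(-20), (-140), 202, (-1196)]], [[], [], [0, 0, 0,
    (-1)], [0, 0, 0, (-1)], [], [], [(-135), 54, 528, (-1119)], [(-135), 54, 528, (-1123)], [], [],
    [0, 0, (-1)], []], [[(-2), 7, (-20), 102], [(-2), 7, (-21), 100], [(-15), (-135), 81, (-948)],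
    [(-15), (-135), 81, (-948)], [], [], [43, 135, (-61), 937], [43, 135, (-61), 937], [], [], [],
    []], [[0, 0, 0, 2], [0, 0, 0, 2], [0, 0, (-2)], [0, 0, (-1)], [0, 0, 0, 2], [0, 0, 0, 2], [(-1),
    5, 0, 21], [1, (-5), 0, (-21)], [], [0, 0, (-2)], [0, 0, 0, 2], [0, 4, 26, (-64)]], [[], [],
    [(-71952), (-14385), 175779, (-616450)], [(-49233), (-146463), 167509, (-1298563)], [], [], [(-1),
    9, 54, (-96)], [(-1), 9, 54, (-96)], [0, 4, 26, (-66)], [0, 4, 24, (-68)], [0, 0, 0, (-2)], []],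
    [[(-197), 4344, (-461), 23178], [2358, (-73406), 16231, (-438037)], [(-678), 21988, (-5566),
    134679], [(-150), 4279, (-633), 23334], [(-47794), (-193690), 203006, (-1646330)], [(-84027),
    (-187749), 239383, (-1723862)], [215, (-1122), 120, (-6077)], [(-632), 21895, (-5651), 134565],
    [52339, 253725, (-215486), 1997794], [8758, 60803, (-28773), 410783], [], []], [[], [], [0, (-1),
    11, (-13)], [0, (-1), 11, (-13)], [], [], [(-335), 14906, (-3976), 93736], [(-335), 14906,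
    (-3976), 93736], [0, 0, 3], [], [], [0, 6, (-60), 216]], [[(-5), (-48), (-104), (-2)], [(-5),
    (-48), (-104), (-2)], [], [], [(-2), 7, (-20), 102], [(-2), 7, (-20), 102], [1, (-9), (-36), 52],
    [1, (-9), (-36), 52], [1, (-81), (-100), (-188)], [1, (-81), (-100), (-188)], [1, (-77), (-111),
    (-150)], [(-5), (-48), (-104), (-2)]], [[0, 0, (-1), 4], [0, 0, (-1), 4], [], [], [3, (-88),
    (-79), (-282)], [3, (-88), (-79), (-282)], [0, (-42), (-16), (-157)], [(-2), (-32), (-4), (-121)],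
    [], [], [2, (-55), (-52), (-191)], [3, (-84), (-95), (-236)]], [[], [], [], [], [0, 0, 1], [0, 0,
    1], [], [], [], [], [], []], [[(-460), 17074, (-5085), 108322], [(-25), (-101), (-484), 448],
    [(-150), 1041, (-919), 7316], [(-552), 13679, (-3885), 86024], [21, (-165), (-35), (-871)], [21,
    (-165), (-35), (-871)], [(-194), 957, (-156), 5209], [(-194), 957, (-156), 5209], [3973,
    (-116609), 26770, (-703353)], [3372, (-119308), 28068, (-721434)], [21, (-165), (-36), (-870)],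
    []], [[21, (-165), (-35), (-875)], [21, (-165), (-35), (-871)], [(-151), 940, (-499), 5734],
    [(-68), 341, (-66), 1369], [21, (-165), (-35), (-869)], [21, (-165), (-35), (-869)], [(-88),
    (-672), 581, (-4876)], [(-78), (-420), 491, (-3144)], [10, (-3), (-17), (-17)], [0, (-255), 73,
    (-1749)], [], [21, (-165), (-35), (-869)]]]

/-- The values, a part. -/
def formData23 : List (List (List ℤ)) :=
  [[[0, 0, 0, 2], [], [(-215), 8710, (-922), 51411], [(-213), 8700, (-927), 51369], [], [], [0, 0,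
    0, (-1)], [0, 0, 0, (-1)], [1, (-5), (-2), (-21)], [(-1), 5, 2, 21], [0, 0, 0, (-1)], []], [[],
    [0, 0, 0, (-2)], [], [], [], [], [], [], [1, (-5), (-3), (-21)], [(-1), 5, 3, 21], [], []], [[],
    [], [2, 32, 4, 122], [0, 42, 16, 158], [0, 0, 0, (-1)], [0, 0, 0, (-1)], [2, 32, 4, 121], [0, 42,
    16, 157], [(-1), 5, 2, 21], [1, (-5), (-2), (-21)], [], []], [[], [], [0, 1, (-37), 47], [17,
    (-167), (-84), (-801)], [(-2560), (-4632), 14159, (-71074)], [(-4348), (-2066), 21073, (-77845)],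
    [0, (-255), 70, (-1753)], [0, (-255), 70, (-1753)], [], [], [868, (-23316), 3113, (-137836)],
    [3317, (-31039), (-6781), (-150167)]], [[(-17291), (-195541), 114759, (-1381097)], [5133, (-5268),
    (-22852), 42853], [5133, (-5268), (-22852), 42853], [1514, 28517, (-15504), 206108], [4348, 2066,
    (-21073), 77845], [2560, 4632, (-14159), 71074], [1186, 29521, (-15761), 211258], [3537, (-12101),
    (-11273), (-29580)], [3536, (-13765), (-10236), (-40740)], [4375, 2163, (-21214), 78719], [],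
    [4325, 6999, (-22639), 109252]], [[(-5133), 5268, 22852, (-42853)], [17291, 195541, (-114759),
    1381097], [], [], [(-16), 163, 39, 836], [(-16), 163, 39, 836], [(-85), 1251, (-583), 8067],
    [(-85), 1251, (-583), 8067], [], [], [2532, (-23705), (-5002), (-115175)], [(-227), 17844,
    (-5526), 112324]], [[], [], [(-1514), (-28517), 15504, (-206108)], [(-5133), 5268, 22852,
    (-42853)], [], [], [(-135), 54, 531, (-1104)], [(-135), 54, 531, (-1104)], [], [], [], []],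
    [[7700, (-24033), (-26093), (-58632)], [(-3957), 137524, (-33588), 836624], [], [], [], [], [7718,
    (-24347), (-26156), (-60289)], [(-4525), 130289, (-30657), 789357], [(-4525), 130288, (-30655),
    789377], [7700, (-24033), (-26093), (-58632)], [], [7700, (-24032), (-26097), (-58640)]], [[], [],
    [927, (-18364), 5029, (-112319)], [927, (-18364), 5029, (-112319)], [], [], [4525, (-130289),
    30657, (-789357)], [(-7718), 24347, 26156, 60289], [], [], [], [0, 0, 0, (-1)]], [[], [], [10,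
    (-3), (-16), (-15)], [(-1), (-263), 65, (-1705)], [21, (-165), (-36), (-870)], [21, (-165), (-36),
    (-870)], [(-6), (-262), 105, (-1747)], [5, (-2), 24, (-57)], [0, (-255), 73, (-1745)], [0, (-255),
    72, (-1744)], [(-25), (-101), (-484), 448], [21, (-165), (-35), (-871)]], [[15883, 199481,
    (-106055), 1386067], [29599, 149609, (-119269), 1147696], [], [], [5387, 38459, (-23017), 272503],
    [14406, 149382, (-86735), 1056900], [(-6606), 70602, 7938, 364142], [(-6606), 70602, 7938,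
    364142], [15882, 199486, (-106046), 1386077], [6303, 87947, (-40673), 594510], [15972, 199637,
    (-106255), 1387651], [6557, 88804, (-40440), 599567]], [[(-139), 519, (-1445), 5443], [(-27237),
    239282, (-11277), 1307984], [], [], [], [], [], [], [3, (-3705), (-61), (-20955)], [3, (-3705),
    (-63), (-20955)], [], [(-140), (-3834), 369, (-23169)]], [[], [], [], [], [], [], [], [], [(-196),
    (-3895), 640, (-24152)], [(-196), (-3895), 640, (-24152)], [], [(-142), (-3848), 444, (-23298)]],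
    [[0, 0, 0, 2], [], [], [], [], [], [], [], [0, 0, 0, (-2)], [], [], []], [[], [0, 0, 0, (-2)],
    [2142, 10687, (-3014), 63350], [227, (-25209), 6429, (-156474)], [0, 0, 0, (-2)], [], [0, 0, 0,
    (-1)], [0, 0, 0, (-1)], [0, 0, 0, (-2)], [0, 0, 0, (-4)], [], []], [[], [], [], [], [], [0, 0, 0,
    2], [], [], [], [], [], []], [[358, 4869, (-2530), 33516], [358, 4869, (-2530), 33516], [12206,
    60811, (-59371), 500716], [3229, (-9), (-13867), 39409], [398, 100, (-2099), 4741], [398, 100,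
    (-2099), 4741], [], [], [(-14939), (-105050), 70851, (-775436)], [(-19870), (-115651), 85624,
    (-873629)], [339, 71, (-1874), 3977], [283, 409, (-1999), 6355]], [[147, 4074, (-539), 25020],
    [147, 4074, (-539), 25020], [0, 0, 1], [], [], [], [], [], [], [], [], []], [[], [0, 0, 0, (-2)],
    [(-15), 70, 54, 295], [(-4), 330, (-27), 1985], [(-21), 165, 36, 870], [(-21), 165, 36, 870], [0,
    0, 0, (-1)], [0, 0, 0, (-1)], [], [], [(-21), 165, 35, 869], [(-21), 165, 36, 870]], [[16, (-160),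
    (-29), (-848)], [16, (-160), (-29), (-848)], [(-1), 10, 5, 11], [16, (-159), (-21), (-861)], [0,
    4, 9, (-12)], [(-26), (-98), 140, (-898)], [], [], [(-27), (-93), 147, (-888)], [(-1), 9, 16,
    (-2)], [2531, (-8780), (-9360), (-20627)], [3134, (-30776), (-6085), (-150244)]], [[27, 97,
    (-142), 877], [(-1), 5, 7, 10], [], [], [26, 98, (-140), 898], [0, (-4), (-9), 12], [0, 0, (-2),
    (-1)], [0, 0, (-2), (-1)], [(-1), 5, 7, 10], [(-1), 5, 7, 10], [(-82), (-16708), 4370, (-104771)],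
    [2530, (-8779), (-9370), (-20593)]], [[1, (-5), (-7), (-10)], [(-27), (-97), 142, (-877)], [0, 0,
    1], [0, 0, 1], [0, 0, 1], [0, 0, 1], [0, 0, 2, 1], [0, 0, 2, 1], [], [], [(-81), (-16713), 4363,
    (-104779)], [3790, (-27658), (-7696), (-129179)]], [[], [], [], [], [16, (-163), (-39), (-836)],
    [16, (-163), (-39), (-836)], [0, 0, (-2), (-5)], [0, 0, (-2), (-5)], [], [], [869, (-23321), 3114,
    (-137855)], [2530, (-8779), (-9370), (-20594)]], [[5, 48, 104, 2], [5, 48, 104, 2], [105,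
    (-16166), 8892, (-117107)], [105, (-16166), 8892, (-117107)], [(-3), 88, 79, 282], [(-3), 88, 79,
    282], [55795, 603263, (-326915), 4195654], [55795, 603263, (-326915), 4195654], [0, 0, 0, (-4)],
    [0, 0, 0, (-4)], [2, (-7), 26, (-104)], []], [[], [], [], [], [], [], [], [], [(-1), 5, 3, 21],
    [1, (-5), (-3), (-21)], [], [(-207), 7796, (-762), 46199]], [[], [], [(-213), 8700, (-927),
    51369], [332, (-26291), 3771, (-151159)], [], [], [1, (-9), 2, (-57)], [(-1), 9, (-2), 57], [(-1),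
    5, 2, 21], [1, (-5), (-2), (-21)], [], []], [[], [], [(-332), 26291, (-3771), 151159], [213,
    (-8700), 927, (-51369)], [], [], [1, (-9), 2, (-59)], [(-1), 9, (-2), 59], [(-1), 5, 10, 15], [1,
    (-5), (-10), (-15)], [], [0, 0, 0, (-1)]]]

/-- The values, a part. -/
def formData24 : List (List (List ℤ)) :=
  [[[], [], [], [], [21, (-165), (-35), (-867)], [21, (-165), (-35), (-869)], [0, 0, 2, 5], [0, 0,
    2, 5], [], [], [], []], [[(-11), (-353), 506, (-3314)], [(-11), (-353), 506, (-3314)], [699,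
    (-14466), 1762, (-85574)], [(-111), 11210, (-3412), 70909], [219, (-21442), 6447, (-135038)],
    [219, (-21442), 6447, (-135038)], [(-113), 7541, (-2455), 47751], [(-113), 7541, (-2459), 47750],
    [], [], [85, (-1251), 583, (-8067)], [(-71802), (-15681), 176770, (-625511)]], [[], [], [736,
    (-25634), 1926, (-145191)], [(-215), 8710, (-922), 51411], [], [], [113, (-7541), 2459, (-47750)],
    [113, (-7541), 2455, (-47751)], [1, (-5), (-3), (-21)], [(-1), 5, 3, 21], [], [223, 10127,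
    (-1382), 60619]], [[], [], [215, (-8710), 922, (-51411)], [(-736), 25634, (-1926), 145191], [],
    [], [], [], [(-1), 5, 3, 21], [1, (-5), (-3), (-21)], [(-524), 16897, (-1013), 93694], []], [[],
    [], [213, (-8700), 927, (-51369)], [215, (-8710), 922, (-51411)], [], [], [64, (-11247), 3378,
    (-71179)], [66, (-11257), 3376, (-71221)], [1, (-5), (-3), (-21)], [(-1), 5, 3, 21], [(-524),
    16897, (-1013), 93693], []], [[0, 0, 0, 1], [0, 0, 0, 1], [(-2), (-32), (-3), (-126)], [0, (-42),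
    (-15), (-162)], [207, (-7796), 762, (-46198)], [496, (-16664), 856, (-91808)], [], [], [(-1), 5,
    9, 4], [1, (-5), (-9), (-4)], [(-223), (-10127), 1382, (-60619)], [524, (-16897), 1013,
    (-93693)]], [[], [], [9, (-919), 158, (-5237)], [329, (-12648), 3842, (-82357)], [(-496), 16664,
    (-856), 91808], [(-207), 7796, (-762), 46198], [], [], [(-1), 5, 3, 21], [1, (-5), (-3), (-21)],
    [], []], [[], [], [(-329), 12648, (-3842), 82357], [(-9), 919, (-158), 5237], [(-827), 29280,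
    (-4708), 174055], [(-827), 29280, (-4702), 174043], [(-76), 9012, (-2523), 56298], [(-76), 9012,
    (-2523), 56298], [1, (-5), (-3), (-21)], [(-1), 5, 3, 21], [], []], [[(-2), 3903, (-1384), 25591],
    [(-2), 3903, (-1384), 25591], [(-67), 8092, (-2367), 51060], [(-67), 8093, (-2365), 51061], [(-2),
    3903, (-1384), 25591], [(-2), 3903, (-1384), 25591], [], [], [46, 3938, (-1348), 25779], [44,
    3948, (-1342), 25822], [(-68), 15160, (-4760), 96811], [95, (-893), 80, (-4733)]], [[(-16),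
    (-10667), 2290, (-66571)], [(-16), (-10667), 2290, (-66571)], [111, (-11210), 3412, (-70909)],
    [(-699), 14466, (-1762), 85574], [104, (-11137), 3375, (-70385)], [104, (-11137), 3375, (-70385)],
    [], [], [412, (-14959), 3810, (-92957)], [31, (-10630), 2321, (-66303)], [57, (-11174), 3344,
    (-70652)], [68, (-15160), 4760, (-96811)]], [[47, 37, 31, 268], [47, 37, 31, 268], [0, 0, 1], [0,
    0, 2], [48, 35, 36, 188], [48, 35, 36, 188], [1, (-5), 1, (-21)], [(-1), 5, (-1), 21], [], [], [],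
    []], [[(-47), (-37), (-31), (-268)], [(-47), (-37), (-31), (-268)], [], [], [], [], [1, (-5), 1,
    (-20)], [(-1), 5, (-1), 20], [(-31), 10630, (-2321), 66303], [(-412), 14959, (-3810), 92957],
    [132, (-8708), 2568, (-54372)], [1, (-2), 5, (-80)]], [[1, (-2), 5, (-79)], [1, (-2), 5, (-79)],
    [], [], [], [], [0, 3, 4, (-59)], [0, 3, 4, (-59)], [], [], [(-47), (-37), (-31), (-267)], [(-44),
    (-4287), 1048, (-26507)]], [[], [], [0, 3, (-24), 43], [0, 3, (-24), 43], [777, 1970, (-1690),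
    15191], [120, 681, 490, 3251], [0, 0, 0, 1], [0, 0, 0, 1], [1, (-5), (-9), (-10)], [1, (-5), (-9),
    (-10)], [(-1050), (-49664), 17913, (-323813)], [(-89), (-156), 200, (-1584)]], [[(-16), 160, 29,
    848], [(-16), 160, 29, 848], [], [], [0, 0, (-1)], [0, 0, (-1)], [(-16), 160, 29, 847], [(-16),
    160, 29, 847], [], [], [2514, (-8615), (-9332), (-19757)], [3791, (-27663), (-7696), (-129199)]],
    [[(-13328), (-99626), 68671, (-732220)], [106520, 8147, (-280722), 884557], [], [], [(-14406),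
    (-149382), 86735, (-1056900)], [(-5387), (-38459), 23017, (-272503)], [366, 33778, (-9868),
    214289], [157, 16825, (-4560), 106194], [1051, 49659, (-17921), 323803], [1051, 49659, (-17922),
    323803], [(-478), 32126, (-8024), 200519], [1050, 49664, (-17913), 323813]], [[71802, 15681,
    (-176771), 625510], [47908, 153469, (-164438), 1327235], [49233, 146463, (-167509), 1298563],
    [71952, 14385, (-175779), 616450], [71759, 15590, (-176640), 624449], [29748, 210860, (-146304),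
    1564600], [], [], [0, 0, (-1), (-1)], [0, 0, (-1), (-1)], [71802, 15681, (-176771), 625512],
    [50534, 110163, (-162650), 1082679]], [[(-47908), (-153469), 164438, (-1327235)], [(-71802),
    (-15681), 176771, (-625510)], [57717, 593916, (-331706), 4157208], [68979, 445415, (-327670),
    3344295], [], [], [336, 1530, 5695, (-9244)], [2027, (-25513), 4101, (-155553)], [], [], [], []],
    [[], [], [102, (-876), 501, (-5416)], [85, (-1251), 583, (-8067)], [], [], [85, (-1251), 583,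
    (-8067)], [85, (-1251), 583, (-8067)], [85, (-1251), 583, (-8067)], [85, (-1251), 583, (-8067)],
    [], []], [[], [], [(-2142), (-10687), 3014, (-63352)], [(-2142), (-10687), 3014, (-63352)], [],
    [], [], [], [(-365), (-13043), 5703, (-87314)], [(-15112), (-101717), 72573, (-759450)], [], []],
    [[], [], [(-227), 25209, (-6429), 156474], [(-2142), (-10687), 3014, (-63350)], [], [], [(-115),
    19774, (-4756), 122684], [(-227), 25209, (-6429), 156473], [(-910), 27624, (-5836), 168230],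
    [(-214), 25041, (-6070), 154394], [], []], [[], [], [(-11850), (-73602), 49489, (-540044)], [326,
    29451, (-11562), 193929], [], [], [(-228), 17846, (-5531), 112403], [(-228), 17846, (-5527),
    112404], [(-388), (-12217), 5581, (-81950)], [(-910), 27624, (-5836), 168230], [], []], [[0, 0, 0,
    2], [], [(-2186), (-15057), 3452, (-89751)], [6751, 45690, (-41961), 370802], [], [], [0, 0, 0,
    1], [0, 0, 0, 1], [27109, (-7638), (-50512), 123992], [(-68566), 12380, 161703, (-423713)], [195,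
    (-953), 133, (-5156)], [(-30483), (-223796), 149837, (-1646230)]], [[], [0, 0, 0, (-2)], [], [],
    [], [], [], [], [(-119), (-4242), 417, (-25615)], [(-88), (-4583), 473, (-27905)], [], []],
    [[(-2466), 89660, (-25044), 555426], [(-353), 12954, (-4001), 84559], [(-927), 18364, (-5029),
    112319], [(-927), 18364, (-5029), 112319], [], [], [3921, (-132861), 31309, (-805852)], [3921,
    (-132861), 31309, (-805852)], [20895, 35119, (-61155), 372616], [37355, (-104984), (-84729),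
    (-314111)], [(-49935), (-127956), 160337, (-1171683)], [(-108), 16254, (-8813), 117389]], [[0, 0,
    0, 3], [0, 0, 0, 3], [(-3930), 9324, (-31098), 102443], [(-3191), 11968, (-32699), 120836],
    [(-49), 211, 199, 684], [(-49), 211, 199, 684], [], [], [564, 1455, (-784), 10332], [(-46),
    (-1652), 766, (-10520)], [(-98), (-668), 534, (-4767)], [91, 18, (-310), 712]], [[(-51), 8337,
    (-1566), 49968], [(-96), 4159, (-934), 25082], [12, 7952, (-943), 47038], [10, 7961, (-940),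
    47078], [2, (-3903), 1384, (-25591)], [2, (-3903), 1384, (-25591)], [(-1231), 25294, (-2853),
    145348], [(-8336), (-79739), 36659, (-537257)], [], [], [(-96), 8503, (-2436), 52869], []]]

/-- The values, a part. -/
def formData25 : List (List (List ℤ)) :=
  [[[], [], [44, 4370, (-438), 26399], [(-472), 21910, (-1616), 123638], [], [], [], [], [], [], [],
    []], [[353, (-12954), 4001, (-84559)], [2466, (-89660), 25044, (-555426)], [472, (-21910), 1616,
    (-123638)], [(-44), (-4370), 438, (-26399)], [], [], [56, (-833), (-3), (-4869)], [56, (-833),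
    (-3), (-4869)], [(-39930), (-131870), 119166, (-1073321)], [8758, 60803, (-28773), 410783], [353,
    (-12954), 4001, (-84559)], []], [[], [], [196, (-25301), 6523, (-157236)], [705, (-26898), 6099,
    (-164504)], [], [], [0, 0, 0, (-1)], [0, 0, 0, (-1)], [0, 0, 0, 2], [0, 0, 0, (-2)], [], []], [[],
    [], [(-31), (-31), 47, (-388)], [(-31), (-31), 48, (-388)], [], [], [], [], [], [], [], [(-37),
    (-1248), 483, (-7945)]], [[(-37), (-1248), 483, (-7938)], [(-37), (-1248), 483, (-7945)], [151,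
    (-4990), 937, (-29979)], [8547, 350006, (-101624), 2187392], [], [], [56, (-833), (-2), (-4865)],
    [56, (-833), (-2), (-4865)], [(-37), (-1248), 483, (-7944)], [(-37), (-1248), 483, (-7944)], [],
    []], [[], [], [(-8547), (-350006), 101624, (-2187392)], [(-151), 4990, (-937), 29979], [3865,
    (-132028), 31311, (-800986)], [3865, (-132028), 31311, (-800990)], [(-56), 833, 2, 4865], [(-56),
    833, 2, 4865], [11, (-162), (-18), (-854)], [21, 90, (-108), 874], [], [21, 90, (-108), 874]],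
    [[(-3807), 136228, (-32596), 827563], [(-3807), 136228, (-32596), 827563], [], [], [(-3865),
    132028, (-31311), 800990], [(-3865), 132028, (-31311), 800986], [(-3921), 132861, (-31309),
    805852], [(-3921), 132861, (-31309), 805852], [(-3372), 119308, (-28068), 721434], [(-3973),
    116609, (-26770), 703353], [(-3362), 118883, (-28022), 718874], [(-3865), 132283, (-31383),
    802735]], [[], [], [193, (-950), 788, (-6254)], [102, (-612), 440, (-3663)], [(-29748), (-210860),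
    146304, (-1564600)], [(-71759), (-15590), 176640, (-624449)], [(-3537), 12101, 11273, 29580],
    [(-1186), (-29521), 15761, (-211258)], [59, (-704), 571, (-4725)], [59, (-704), 571, (-4725)], [],
    []], [[], [], [(-31), (-31), 48, (-388)], [(-31), (-31), 47, (-388)], [], [], [98, 668, (-534),
    4760], [(-98), (-668), 534, (-4768)], [], [], [], [(-37), (-1248), 483, (-7945)]], [[], [], [31,
    31, (-47), 388], [31, 31, (-48), 388], [], [], [(-168), (-1065), (-332), (-5135)], [(-205), 12564,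
    (-4503), 80177], [], [], [], []], [[], [], [(-10), (-7961), 941, (-47076)], [(-109), 449, (-1073),
    4247], [], [], [98, 668, (-534), 4768], [(-98), (-668), 534, (-4760)], [], [], [], []], [[], [],
    [(-10), (-7961), 940, (-47078)], [(-12), (-7952), 943, (-47038)], [], [], [(-777), (-1970), 1690,
    (-15191)], [(-777), (-1970), 1690, (-15191)], [], [], [], [(-37), (-1248), 483, (-7944)]], [[0, 0,
    0, (-1)], [0, 0, 0, (-1)], [0, 0, 1, (-4)], [0, 0, 1, (-4)], [827, (-29280), 4702, (-174043)],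
    [827, (-29280), 4708, (-174055)], [], [], [(-1), 5, 9, 9], [1, (-5), (-9), (-9)], [207, (-7796),
    762, (-46199)], [524, (-16897), 1013, (-93694)]], [[45, 4285, (-1043), 26428], [128, (-334), 1031,
    (-4136)], [109, (-449), 1073, (-4247)], [10, 7961, (-941), 47076], [48, 35, 36, 188], [48, 35, 36,
    188], [205, (-12564), 4503, (-80177)], [168, 1065, 332, 5135], [], [], [44, 4287, (-1048), 26507],
    []], [[], [], [7, (-4042), 536, (-24430)], [7, (-4042), 536, (-24430)], [], [], [(-123), 3220,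
    (-1375), 21292], [670, (-26089), 5072, (-157966)], [], [], [(-37), (-1248), 483, (-7943)], []],
    [[(-128), 334, (-1031), 4136], [(-45), (-4285), 1043, (-26428)], [(-7), 4042, (-536), 24430],
    [(-7), 4042, (-536), 24430], [(-179), 8671, (-2597), 54104], [(-179), 8671, (-2599), 54104],
    [(-670), 26089, (-5072), 157966], [123, (-3220), 1375, (-21292)], [(-179), 8671, (-2599), 54104],
    [(-179), 8671, (-2597), 54104], [], [(-132), 8708, (-2568), 54372]], [[96, (-4159), 934,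
    (-25082)], [51, (-8337), 1566, (-49968)], [75, 3772, 43, 21609], [77, 3762, 38, 21568], [], [],
    [(-254), 4104, 821, 21291], [(-254), 4104, 821, 21291], [179, (-8671), 2597, (-54104)], [179,
    (-8671), 2599, (-54104)], [228, (-13502), 4025, (-84616)], [(-57), 11174, (-3344), 70652]], [[],
    [], [], [], [], [], [], [], [], [], [], []], [[3807, (-136228), 32596, (-827563)], [3807,
    (-136228), 32596, (-827563)], [(-100), (-3537), 441, (-21530)], [(-100), (-3537), 440, (-21530)],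
    [], [], [(-56), 833, 3, 4869], [(-56), 833, 3, 4869], [(-25), 154, (-557), 2193], [(-25), 154,
    (-557), 2193], [(-10), 375, (-603), 3621], []], [[(-1), 2, (-5), 79], [(-1), 2, (-5), 79], [124,
    (-1140), 430, (-6789)], [91, 3397, (-1205), 22377], [(-48), (-35), (-36), (-188)], [(-48), (-35),
    (-36), (-188)], [], [], [49, (-4831), 1428, (-30512)], [49, (-4831), 1428, (-30512)], [], []],
    [[48, 35, 36, 188], [48, 35, 36, 188], [111, (-4145), 1024, (-25239)], [113, (-4155), 1017,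
    (-25282)], [179, (-8671), 2599, (-54104)], [179, (-8671), 2597, (-54104)], [(-1), 5, 3, 21], [1,
    (-5), (-3), (-21)], [], [], [], [47, 37, 31, 267]], [[2, (-3903), 1384, (-25591)], [2, (-3903),
    1384, (-25591)], [67, (-8093), 2365, (-51061)], [67, (-8092), 2367, (-51060)], [], [], [76,
    (-9012), 2523, (-56298)], [76, (-9012), 2523, (-56298)], [], [], [], [47, 37, 31, 267]], [[], [],
    [(-161), 943, (-485), 5751], [(-197), 1259, (-1023), 8796], [], [], [(-93), (-415), 486, (-3068)],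
    [(-93), (-415), 486, (-3068)], [0, 255, (-73), 1749], [(-10), 3, 17, 17], [0, 255, (-72), 1749],
    [11, (-162), (-18), (-852)]], [[37, 1248, (-483), 7945], [37, 1248, (-483), 7938], [(-103), 1665,
    (-1507), 11806], [27, (-2799), (-31), (-16283)], [37, 1248, (-483), 7943], [37, 1248, (-483),
    7938], [93, 415, (-486), 3068], [93, 415, (-486), 3068], [], [], [37, 1248, (-483), 7945], [37,
    1248, (-483), 7943]], [[], [], [(-1), 3694, 54, 20912], [(-3), 3705, 61, 20955], [], [], [0, 0, 0,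
    (-1)], [0, 0, 0, (-1)], [(-27), 3439, (-305), 20013], [(-1), 3694, 54, 20912], [(-50534),
    (-110163), 162650, (-1082679)], []], [[], [], [], [], [(-37), (-1248), 483, (-7938)], [(-37),
    (-1248), 483, (-7943)], [0, 0, 0, 1], [0, 0, 0, 1], [], [], [], []], [[(-48), (-35), (-36),
    (-188)], [(-48), (-35), (-36), (-188)], [(-113), 4155, (-1017), 25282], [(-111), 4145, (-1024),
    25239], [(-48), (-35), (-36), (-188)], [(-48), (-35), (-36), (-188)], [(-1), 5, 3, 22], [1, (-5),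
    (-3), (-22)], [(-44), (-3948), 1342, (-25822)], [(-46), (-3938), 1348, (-25779)], [(-1), 2, (-5),
    80], []]]

/-- The values. -/
def formData : List (List (List (List ℤ))) :=
  [formData0, formData1, formData2, formData3, formData4, formData5, formData6, formData7, formData8,
    formData9, formData10, formData11, formData12, formData13, formData14, formData15, formData16,
    formData17, formData18, formData19, formData20, formData21, formData22, formData23, formData24,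
    formData25]

/-- The words of the cosets, a part. -/
def repData0 : List (List ℕ) :=
  [[], [11], [11, 6], [11, 6, 11], [11, 6, 9, 11], [11, 3], [11, 3, 0], [11, 3, 7], [11, 3, 7, 5],
    [11, 3, 7, 5, 0], [11, 3, 7, 5, 0, 3], [11, 3, 7, 5, 0, 3, 7], [11, 3, 7, 5, 0, 3, 7, 10], [11, 3,
    7, 5, 0, 3, 7, 10, 6], [11, 3, 7, 5, 0, 3, 7, 10, 6, 3], [11, 3, 7, 5, 7, 8, 10, 2, 4, 6], [11, 6,
    11, 3], [11, 6, 9], [11, 3, 7, 1], [11, 3, 7, 5, 0, 9, 4], [11, 3, 7, 5, 0, 9], [11, 3, 7, 5, 0,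
    9, 6], [11, 3, 7, 5, 7, 8, 6, 0], [11, 3, 7, 5, 0, 9, 3, 7, 9], [11, 3, 7, 5, 0, 9, 3, 7, 5, 9],
    [11, 3, 7, 5, 0, 9, 3, 7, 5], [11, 3, 7, 5, 0, 9, 3, 7, 5, 2]]

/-- The words of the cosets, a part. -/
def repData1 : List (List ℕ) :=
  [[11, 3, 7, 10, 7, 5, 7, 10, 1], [11, 3, 7, 5, 7, 8, 6, 5, 8, 2], [11, 3, 7, 5, 7, 8, 6, 5, 3],
    [11, 3, 7, 5, 7, 8, 6, 5], [11, 3, 7, 5, 7, 8, 6], [11, 3, 7, 5, 7, 8], [11, 3, 7, 5, 7], [11, 3,
    7, 5, 8], [11, 3, 7, 9], [11, 3, 7, 5, 7, 8, 10, 2, 4, 6, 8, 4], [11, 3, 7, 5, 7, 8, 10, 2, 4, 6,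
    8], [11, 3, 7, 5, 7, 8, 10, 2, 4, 6, 8, 0], [11, 3, 7, 5, 0, 3, 10], [11, 3, 7, 5, 0, 9, 3, 7,
    11], [11, 3, 7, 5, 0, 9, 3, 7], [11, 3, 7, 5, 0, 9, 3], [11, 3, 7, 5, 7, 8, 6, 9], [11, 3, 7, 5,
    7, 8, 6, 5, 8], [11, 3, 7, 5, 0, 9, 6, 5], [11, 3, 7, 5, 7, 8, 6, 5, 0], [11, 3, 7, 5, 10, 9, 2,
    10, 5, 7], [11, 3, 7, 5, 0, 9, 3, 7, 5, 9, 2], [11, 3, 7, 5, 7, 1], [11, 3, 7, 5, 0, 3, 7, 4],
    [11, 3, 7, 5, 0, 3, 7, 11, 7, 11], [11, 3, 7, 5, 7, 8, 10, 2, 4, 6, 8, 4, 0], [11, 3, 7, 5, 7, 10,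
    7, 3, 10, 4, 7, 8, 10, 7, 11, 3, 11]]

/-- The words of the cosets, a part. -/
def repData2 : List (List ℕ) :=
  [[11, 3, 7, 5, 7, 8, 10, 2, 4], [11, 3, 7, 5, 7, 8, 10, 2, 4, 8], [11, 3, 7, 5, 7, 10, 3], [11, 3,
    7, 5, 7, 10, 7, 3], [11, 3, 7, 5, 7, 10, 7, 3, 9], [11, 3, 7, 5, 7, 10, 7, 9], [11, 3, 7, 5, 7,
    10, 7, 4, 8], [11, 3, 7, 5, 7, 10, 7, 4, 8, 7], [11, 3, 7, 5, 7, 10, 7, 10, 10], [11, 3, 7, 5, 7,
    10, 7, 3, 10, 4, 7, 5, 11, 6, 5], [11, 3, 7, 5, 7, 10, 7, 3, 10, 4, 7, 5, 11, 6], [11, 3, 7, 5, 7,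
    10, 7, 3, 10, 4, 7, 5, 11], [11, 3, 7, 5, 7, 10, 7, 3, 10, 4, 7, 5, 11, 8], [11, 3, 7, 5, 7, 10,
    7, 3, 10, 4, 7, 5, 11, 3, 8], [11, 3, 7, 5, 7, 10, 7, 3, 10, 4, 7, 5, 11, 3, 8, 4], [11, 3, 7, 5,
    7, 10, 7, 3, 10, 4, 7, 5, 11, 3, 8, 4, 7], [11, 3, 7, 5, 7, 10, 7, 3, 10, 4, 7, 5, 11, 3, 4, 7, 8,
    7], [11, 3, 7, 5, 7, 8, 10, 7, 2, 0], [11, 3, 7, 5, 7, 8, 10, 7, 2, 11, 11], [11, 3, 7, 5, 0, 3,
    7, 10, 2], [11, 3, 7, 5, 0, 3, 7, 11], [11, 3, 7, 5, 0, 3, 7, 11, 7], [11, 3, 7, 5, 0, 9, 3, 7,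
    10], [11, 3, 7, 5, 0, 9, 3, 7, 10, 6], [11, 3, 7, 5, 7, 8, 10, 7, 4, 7], [11, 3, 7, 5, 7, 8, 10,
    7, 10, 10, 7], [11, 3, 7, 5, 7, 8, 10, 2, 4, 8, 7]]

/-- The words of the cosets, a part. -/
def repData3 : List (List ℕ) :=
  [[11, 3, 7, 5, 7, 8, 10, 7, 9, 3, 1], [11, 3, 7, 5, 7, 10, 7, 3, 10, 1, 8, 11], [11, 3, 7, 5, 7,
    10, 7, 3, 1], [11, 3, 7, 5, 7, 10, 7, 3, 10, 4, 7, 5, 11, 3, 4], [11, 3, 7, 5, 7, 10, 7, 3, 10, 4,
    7, 5, 11, 3], [11, 3, 7, 5, 7, 10, 7, 3, 10, 4, 7, 5, 11, 3, 0], [11, 3, 7, 5, 7, 10, 7, 3, 10, 4,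
    7, 5, 11, 3, 0, 9], [11, 3, 7, 5, 7, 10, 7, 3, 10, 4, 7, 5, 11, 6, 8], [11, 3, 7, 5, 7, 10, 7, 3,
    10, 4, 7, 5, 11, 6, 5, 8], [11, 3, 7, 5, 7, 10, 7, 4, 8, 3], [11, 3, 7, 5, 7, 10, 7, 4, 2], [11,
    3, 7, 5, 7, 10, 7, 4], [11, 3, 7, 5, 7, 10, 7], [11, 3, 7, 5, 7, 10], [11, 3, 7, 5, 7, 8, 10],
    [11, 3, 7, 5, 7, 8, 10, 2], [11, 3, 7, 5, 0, 9, 3, 7, 11, 3], [11, 3, 7, 5, 7, 8, 6, 5, 7], [11,
    3, 7, 5, 10, 9, 2, 10, 5, 2], [11, 3, 7, 5, 10, 9, 2, 10, 5], [11, 3, 7, 5, 10, 9, 2, 10], [11, 3,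
    7, 5, 10, 9, 2, 10, 0], [11, 3, 7, 5, 10, 9, 2, 10, 10, 9, 0, 11], [11, 3, 7, 5, 10, 9, 2, 10, 0,
    2, 1], [11, 3, 7, 5, 10, 9, 2, 10, 0, 2], [11, 3, 7, 5, 10, 9, 2, 10, 9], [11, 3, 7, 5, 10, 9, 2,
    10, 10, 9, 0, 10]]

/-- The words of the cosets, a part. -/
def repData4 : List (List ℕ) :=
  [[11, 3, 11], [11, 3, 0, 10], [11, 3, 7, 5, 0, 9, 10], [11, 3, 7, 5, 10, 9, 6, 0], [11, 3, 7, 5,
    10, 9, 6, 0, 10], [11, 3, 7, 5, 10, 9, 6, 0, 10, 6], [11, 3, 7, 5, 10, 6, 11, 5, 9, 7], [11, 3,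
    11, 6], [11, 3, 11, 6, 5], [11, 3, 7, 5, 7, 8, 10, 7, 1, 2], [11, 3, 7, 5, 10, 9, 2, 11], [11, 3,
    7, 10, 7, 5, 7, 10, 8], [11, 3, 7, 5, 7, 8, 0], [11, 3, 7, 5, 0, 3, 7, 11, 2], [11, 3, 7, 11],
    [11, 3, 7, 5, 10, 6, 1], [11, 3, 7, 5, 7, 10, 7, 3, 10, 4, 7, 8, 10, 7, 11, 9, 6, 11, 6], [11, 3,
    7, 5, 10, 9, 6, 0, 9, 6, 3], [11, 3, 7, 5, 7, 8, 10, 7, 10, 2, 10, 5, 2], [11, 3, 7, 5, 7, 8, 10,
    7, 10, 2, 10, 5], [11, 3, 7, 5, 10, 9, 6, 0, 5, 9], [11, 3, 7, 5, 7, 8, 10, 7, 10, 2, 8, 7], [11,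
    3, 7, 5, 7, 8, 10, 7, 10, 2, 8], [11, 3, 7, 5, 7, 8, 10, 7, 10, 8], [11, 3, 7, 5, 7, 8, 10, 7, 10,
    1, 9], [11, 3, 7, 5, 7, 8, 10, 7, 9, 11], [11, 3, 7, 5, 10, 6, 11]]

/-- The words of the cosets, a part. -/
def repData5 : List (List ℕ) :=
  [[11, 3, 7, 5, 10, 6, 11, 5], [11, 3, 7, 5, 10, 6, 11, 5, 9], [11, 3, 7, 5, 10, 9], [11, 3, 7, 5,
    10, 9, 6], [11, 3, 7, 5, 10, 9, 6, 10], [11, 3, 7, 5, 7, 11, 2, 11], [11, 3, 7, 5, 7, 8, 10, 2,
    10, 3], [11, 3, 7, 5, 7, 10, 7, 3, 10, 4, 7, 5, 11, 3, 4, 7, 8], [11, 3, 7, 5, 7, 10, 7, 3, 10, 4,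
    7, 5, 11, 3, 4, 7, 8, 7, 11], [11, 3, 7, 5, 10, 9, 2, 10, 10, 9, 10], [11, 3, 7, 5, 10], [11, 3,
    7, 5, 10, 6], [11, 3, 7, 5, 7, 8, 10, 7, 10, 2, 8, 11], [11, 3, 7, 5, 7, 8, 10, 7, 10, 2, 8, 11,
    5], [11, 3, 7, 5, 7, 8, 10, 7, 10, 2, 8, 10], [11, 3, 7, 5, 7, 8, 10, 7, 10, 2, 10], [11, 3, 7, 5,
    7, 8, 6, 10, 3], [11, 3, 7, 5, 7, 8, 6, 10, 3, 10], [11, 3, 7, 5, 7, 8, 10, 7, 10, 2, 8, 5], [11,
    3, 7, 5, 7, 8, 10, 7, 10, 2, 8, 5, 3], [11, 3, 7, 5, 7, 8, 10, 7, 9, 4, 10, 3, 10, 10], [11, 3, 7,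
    5, 7, 8, 10, 7, 9, 4, 10, 3, 0], [11, 3, 7, 5, 10, 6, 11, 0], [11, 3, 7, 5, 10, 6, 10], [11, 3, 7,
    5, 10, 6, 11, 5, 9, 1], [11, 3, 7, 10], [11, 3, 7, 5, 11]]

/-- The words of the cosets, a part. -/
def repData6 : List (List ℕ) :=
  [[11, 3, 7, 5, 7, 10, 7, 3, 10, 4, 7, 8, 10, 7, 11, 9, 6, 11], [11, 3, 7, 5, 7, 10, 7, 3, 10, 4,
    7, 8, 10, 7, 11, 9, 6, 11, 5], [11, 3, 7, 5, 10, 9, 6, 0, 2, 7], [11, 3, 7, 10, 7], [11, 3, 7, 10,
    7, 5], [11, 3, 7, 10, 7, 5, 7], [11, 3, 7, 10, 7, 5, 7, 10, 5, 6, 1], [11, 3, 7, 10, 7, 5, 7, 10,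
    5, 6], [11, 3, 7, 10, 7, 5, 7, 10, 5], [11, 3, 7, 10, 7, 5, 7, 10], [11, 3, 7, 10, 7, 5, 7, 10,
    2], [11, 3, 7, 10, 3], [11, 3, 7, 10, 9, 3, 0], [11, 3, 7, 10, 9, 3], [11, 3, 7, 10, 9], [11, 3,
    7, 5, 7, 8, 10, 7, 10, 1, 6, 11, 9], [11, 3, 7, 5, 7, 8, 10, 2, 1], [11, 3, 7, 5, 7, 10, 7, 3, 10,
    9, 7, 11, 6, 11, 4, 7], [11, 3, 7, 5, 7, 10, 7, 3, 10, 9, 7, 11, 6, 11, 4], [11, 3, 7, 5, 7, 10,
    7, 3, 10, 9, 7, 11, 6, 11, 4, 3], [11, 3, 7, 5, 10, 9, 6, 0, 10, 2, 8], [11, 3, 7, 5, 7, 8, 10, 7,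
    10, 1, 6, 3, 1, 4, 6, 8], [11, 3, 7, 5, 7, 10, 7, 3, 10, 4, 7, 5, 11, 3, 11, 6], [11, 3, 7, 5, 0,
    9, 6, 11, 7, 10], [11, 3, 7, 5, 7, 8, 10, 7, 10, 6, 9, 7], [11, 3, 7, 5, 7, 8, 10, 7, 10, 6, 9],
    [11, 3, 7, 5, 0, 9, 4, 10]]

/-- The words of the cosets, a part. -/
def repData7 : List (List ℕ) :=
  [[11, 3, 7, 5, 7, 8, 11], [11, 3, 7, 5, 7, 8, 10, 7, 1], [11, 3, 7, 5, 7, 8, 10, 7, 10, 1], [11,
    3, 7, 5, 7, 8, 10, 7, 10, 1, 6], [11, 3, 7, 5, 7, 8, 10, 7, 10, 1, 6, 9], [11, 3, 7, 5, 10, 9, 2,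
    10, 10], [11, 3, 7, 5, 10, 9, 2, 0], [11, 3, 7, 5, 10, 9, 2], [11, 3, 7, 5, 10, 6, 5], [11, 3, 7,
    10, 7, 5, 7, 10, 10], [11, 3, 7, 5, 10, 2], [11, 3, 7, 5, 10, 9, 2, 10, 10, 9, 0], [11, 3, 7, 5,
    10, 9, 2, 10, 10, 9], [11, 3, 7, 5, 7, 11], [11, 3, 7, 5, 7, 10, 7, 0], [11, 3, 7, 5, 7, 10, 7, 0,
    2], [11, 3, 7, 5, 7, 10, 7, 3, 10, 4, 7, 5, 11, 6, 10], [11, 3, 7, 5, 7, 10, 7, 3, 10, 9, 7, 11,
    6, 11], [11, 3, 7, 5, 7, 10, 7, 3, 10, 9, 7, 11, 6, 11, 3], [11, 3, 7, 5, 10, 9, 6, 0, 2, 4, 11],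
    [11, 3, 7, 5, 7, 10, 7, 3, 10, 4, 9, 6], [11, 3, 7, 5, 0, 9, 6, 11, 7, 11], [11, 3, 7, 5, 7, 8,
    10, 7, 10, 1, 9, 7], [11, 3, 7, 5, 7, 10, 7, 3, 10, 2, 11, 3, 7, 10], [11, 3, 7, 5, 0, 3, 7, 9],
    [11, 3, 7, 5, 0, 9, 3, 7, 5, 6], [11, 3, 7, 10, 7, 5, 7, 10, 5, 8]]

/-- The words of the cosets, a part. -/
def repData8 : List (List ℕ) :=
  [[11, 3, 7, 5, 7, 8, 10, 7], [11, 3, 7, 5, 7, 8, 10, 7, 10], [11, 3, 7, 5, 7, 8, 10, 7, 10, 6],
    [11, 3, 7, 5, 10, 6, 11, 11], [11, 3, 7, 10, 7, 5, 7, 4], [11, 3, 7, 5, 7, 10, 7, 3, 4], [11, 3,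
    7, 5, 7, 10, 7, 3, 10, 10], [11, 3, 7, 5, 7, 10, 7, 3, 10, 4, 7, 11], [11, 3, 7, 5, 7, 10, 7, 3,
    10, 4, 7, 8, 11], [11, 3, 7, 5, 7, 10, 7, 3, 10, 4, 7, 8], [11, 3, 7, 5, 7, 10, 7, 3, 10, 4, 7, 8,
    6], [11, 3, 7, 5, 7, 10, 7, 3, 10, 2, 11, 3, 7, 5, 10], [11, 3, 7, 5, 7, 10, 7, 10, 3, 4, 7], [11,
    3, 7, 5, 10, 9, 6, 11], [11, 3, 7, 5, 10, 6, 11, 5, 7], [11, 3, 7, 5, 0, 3, 7, 11, 9], [11, 3, 7,
    5, 0, 3, 7, 10, 8, 10], [11, 3, 7, 5, 7, 8, 10, 2, 4, 8, 0], [11, 3, 7, 5, 0, 3, 7, 10, 8], [11,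
    3, 7, 5, 7, 8, 10, 7, 2], [11, 3, 11, 6, 11], [11, 3, 7, 5, 7, 8, 10, 7, 10, 1, 6, 5], [11, 3, 7,
    5, 7, 10, 7, 3, 10, 4, 7, 8, 10, 10], [11, 3, 7, 5, 7, 10, 7, 3, 10, 4, 7, 5, 8], [11, 3, 7, 5, 7,
    10, 7, 3, 10, 4, 7, 8, 3], [11, 3, 7, 5, 7, 10, 7, 10, 3, 0], [11, 3, 7, 5, 7, 10, 7, 10, 7]]

/-- The words of the cosets, a part. -/
def repData9 : List (List ℕ) :=
  [[11, 3, 7, 5, 7, 10, 7, 10], [11, 3, 7, 5, 0, 9, 3, 7, 11, 8], [11, 3, 7, 5, 7, 10, 7, 3, 10, 10,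
    8], [11, 3, 7, 5, 7, 10, 7, 3, 10, 4, 7, 5, 11, 3, 8, 4, 1], [11, 3, 7, 5, 7, 8, 10, 7, 9, 0, 2],
    [11, 3, 7, 5, 7, 8, 10, 7, 10, 10], [11, 3, 7, 5, 7, 8, 10, 7, 4], [11, 3, 7, 5, 7, 8, 10, 7, 9,
    4], [11, 3, 7, 5, 7, 8, 10, 7, 9, 4, 3], [11, 3, 7, 5, 7, 10, 7, 3, 10, 4, 7, 5, 11, 3, 4, 7, 3],
    [11, 3, 7, 5, 10, 6, 11, 5, 9, 1, 10], [11, 3, 7, 5, 10, 6, 11, 5, 9, 10], [11, 3, 7, 5, 10, 6,
    9], [11, 3, 7, 5, 7, 8, 10, 7, 10, 2, 11], [11, 3, 7, 5, 7, 8, 10, 7, 10, 2, 10, 0], [11, 3, 7, 5,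
    7, 8, 6, 5, 11], [11, 3, 7, 5, 7, 8, 10, 7, 9, 3], [11, 3, 7, 5, 7, 8, 10, 7, 9], [11, 3, 7, 5, 7,
    8, 10, 7, 9, 3, 5], [11, 3, 7, 5, 7, 10, 7, 3, 10, 4, 7, 5, 11, 3, 8, 6], [11, 3, 7, 5, 7, 10, 7,
    3, 10, 4, 7, 5, 11, 3, 0, 9, 7], [11, 3, 7, 5, 7, 10, 7, 3, 10, 4, 7, 8, 10, 7, 11, 9, 11, 5],
    [11, 3, 7, 5, 7, 10, 7, 3, 10, 4, 7, 8, 10, 7, 11, 9, 11], [11, 3, 7, 5, 7, 10, 7, 4, 2, 0], [11,
    3, 7, 5, 7, 10, 7, 4, 8, 3, 0], [11, 3, 7, 5, 7, 10, 7, 3, 10, 4, 7, 8, 10, 3, 4], [11, 3, 7, 5,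
    7, 10, 7, 3, 10, 4, 7, 8, 10, 3]]

/-- The words of the cosets, a part. -/
def repData10 : List (List ℕ) :=
  [[11, 3, 7, 5, 7, 10, 7, 3, 10, 4, 7, 8, 10, 7, 8], [11, 3, 7, 5, 7, 10, 7, 3, 10, 4, 7, 8, 10,
    7], [11, 3, 7, 5, 7, 10, 7, 4, 2, 7], [11, 3, 7, 5, 7, 10, 7, 3, 10, 4, 7, 8, 10, 7, 11, 3, 5],
    [11, 3, 7, 5, 7, 10, 7, 3, 10, 4, 7, 8, 10, 7, 11, 3, 1], [11, 3, 7, 5, 7, 10, 7, 3, 10, 4, 7, 8,
    10, 7, 11, 3], [11, 3, 7, 5, 7, 8, 10, 2, 4, 6, 10], [11, 3, 7, 5, 7, 10, 7, 3, 10, 4, 7, 8, 10,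
    7, 11, 9, 6, 3], [11, 3, 7, 5, 7, 8, 10, 2, 10, 8], [11, 3, 7, 5, 7, 10, 7, 3, 10, 9, 7, 11, 6,
    11, 4, 9, 0], [11, 3, 7, 5, 7, 10, 7, 3, 10, 9, 7, 11, 6, 11, 4, 9, 10, 1], [11, 3, 7, 5, 10, 6,
    11, 5, 9, 2, 7, 10, 4, 3], [11, 3, 7, 5, 10, 6, 11, 5, 9, 2, 7, 10, 3], [11, 3, 7, 5, 7, 8, 10, 2,
    4, 8, 10, 2], [11, 3, 7, 5, 7, 10, 7, 3, 10, 4, 7, 8, 10, 7, 11, 9, 6, 9], [11, 3, 7, 5, 7, 10, 7,
    3, 10, 4, 7, 8, 10, 7, 11, 9, 6, 1], [11, 3, 7, 5, 7, 10, 7, 3, 10, 4, 7, 8, 10, 7, 11, 9, 6],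
    [11, 3, 7, 5, 7, 8, 10, 2, 4, 6, 10, 6, 1], [11, 3, 7, 5, 7, 11, 2], [11, 3, 7, 5, 7, 10, 7, 3,
    10, 4, 7, 5, 11, 3, 4, 7], [11, 3, 7, 10, 9, 3, 11], [11, 3, 7, 10, 9, 3, 10, 0], [11, 3, 7, 10,
    9, 3, 10], [11, 3, 7, 10, 9, 3, 10, 3], [11, 3, 7, 5, 7, 8, 10, 2, 4, 6, 10, 6], [11, 3, 7, 5, 7,
    8, 10, 2, 10], [11, 3, 7, 5, 7, 8, 10, 7, 9, 3, 10]]

/-- The words of the cosets, a part. -/
def repData11 : List (List ℕ) :=
  [[11, 3, 7, 5, 10, 6, 11, 5, 9, 1, 5], [11, 3, 7, 5, 10, 6, 11, 9], [11, 3, 7, 5, 7, 8, 10, 7,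
    11], [11, 3, 7, 5, 10, 9, 6, 9], [11, 3, 7, 5, 10, 9, 6, 0, 5, 9, 1], [11, 3, 7, 5, 10, 9, 6, 0,
    9], [11, 3, 7, 5, 10, 9, 6, 0, 9, 3], [11, 3, 7, 5, 10, 9, 6, 0, 2, 4, 7], [11, 3, 7, 5, 10, 9, 6,
    0, 2, 4], [11, 3, 7, 5, 7, 10, 7, 3, 10, 4, 7, 8, 10, 7, 11, 9, 3], [11, 3, 7, 5, 7, 8, 10, 2, 4,
    8, 11], [11, 3, 7, 5, 7, 10, 7, 3, 10, 9, 7, 11, 6, 11, 4, 9], [11, 3, 7, 5, 7, 10, 7, 3, 10, 9,
    7, 11, 6, 11, 4, 9, 10], [11, 3, 7, 5, 7, 8, 10, 2, 4, 10, 2], [11, 3, 7, 5, 7, 10, 7, 3, 10, 4,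
    7, 8, 10, 7, 11], [11, 3, 7, 5, 7, 10, 7, 3, 10, 4, 7, 8, 10, 7, 11, 4], [11, 3, 7, 5, 7, 10, 7,
    3, 10, 4, 7, 8, 10, 7, 10], [11, 3, 7, 5, 7, 10, 7, 3, 10, 4, 7, 8, 10, 7, 10, 2], [11, 3, 7, 5,
    7, 8, 10, 2, 4, 6, 10, 6, 4], [11, 3, 7, 5, 7, 10, 7, 3, 10, 4, 7, 8, 0], [11, 3, 7, 5, 7, 10, 7,
    3, 10, 4, 7, 8, 10, 5], [11, 3, 7, 5, 7, 10, 7, 3, 10, 4, 7, 5, 10], [11, 3, 7, 5, 7, 10, 7, 3,
    10, 4, 7, 10], [11, 3, 7, 5, 7, 10, 7, 3, 10, 4, 7, 5, 11, 6, 1], [11, 3, 7, 5, 7, 10, 7, 3, 10,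
    4, 7, 8, 10, 7, 10, 8], [11, 3, 7, 5, 7, 10, 7, 3, 10, 4, 7, 8, 10, 7, 11, 9, 0], [11, 3, 7, 5, 7,
    10, 7, 3, 10, 4, 7, 8, 10, 7, 11, 9]]

/-- The words of the cosets, a part. -/
def repData12 : List (List ℕ) :=
  [[11, 3, 7, 5, 7, 8, 10, 2, 4, 11], [11, 3, 7, 5, 7, 8, 10, 7, 9, 3, 5, 11], [11, 3, 7, 5, 10, 6,
    11, 5, 9, 2, 1], [11, 3, 7, 5, 7, 8, 10, 7, 10, 1, 6, 3, 1, 6], [11, 3, 7, 5, 7, 8, 10, 7, 10, 1,
    3], [11, 3, 7, 5, 7, 8, 10, 7, 10, 1, 6, 10], [11, 3, 7, 5, 0, 9, 6, 11, 7, 4, 9], [11, 3, 7, 5,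
    0, 9, 6, 11, 7, 4, 9, 2], [11, 3, 7, 5, 7, 8, 10, 7, 10, 1, 6, 3, 1, 11, 6], [11, 3, 7, 5, 7, 10,
    7, 3, 10, 9, 7, 11, 6, 0, 3], [11, 3, 7, 5, 7, 10, 7, 3, 10, 9, 7, 11, 6, 0], [11, 3, 7, 5, 7, 10,
    7, 3, 10, 9, 7, 11, 6, 11, 11], [11, 3, 7, 5, 7, 10, 7, 3, 10, 4, 7, 5, 11, 3, 4, 7, 10, 2], [11,
    3, 7, 5, 7, 10, 7, 3, 10, 4, 7, 8, 10, 7, 1], [11, 3, 7, 5, 7, 10, 7, 3, 10, 4, 7, 8, 10, 7, 11,
    11], [11, 3, 7, 5, 7, 10, 7, 3, 10, 4, 7, 5, 11, 6, 5, 1], [11, 3, 7, 5, 7, 10, 7, 3, 4, 2, 1],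
    [11, 3, 7, 5, 7, 10, 7, 3, 10, 4, 7, 8, 10, 5, 2], [11, 3, 7, 5, 7, 10, 7, 3, 4, 2, 6], [11, 3, 7,
    5, 7, 10, 7, 3, 4, 7], [11, 3, 7, 5, 7, 10, 7, 4, 2, 10], [11, 3, 7, 10, 9, 3, 10, 6], [11, 3, 7,
    10, 9, 3, 10, 6, 5], [11, 3, 7, 10, 9, 3, 10, 6, 1, 4], [11, 3, 7, 5, 7, 10, 7, 3, 10, 4, 7, 5,
    11, 3, 8, 11], [11, 3, 7, 5, 7, 10, 7, 10, 3, 4, 8], [11, 3, 7, 5, 7, 10, 7, 3, 10, 2, 11, 3, 1]]

/-- The words of the cosets, a part. -/
def repData13 : List (List ℕ) :=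
  [[11, 3, 7, 5, 0, 9, 6, 11, 7, 8], [11, 3, 7, 5, 7, 8, 10, 7, 10, 1, 6, 3, 10, 7], [11, 3, 7, 5,
    7, 10, 7, 3, 10, 2, 11, 7, 0, 2], [11, 3, 7, 5, 7, 10, 7, 3, 10, 9, 7, 11, 3, 6], [11, 3, 7, 5, 7,
    10, 7, 3, 10, 9, 7, 11, 6], [11, 3, 7, 5, 7, 10, 7, 3, 10, 9, 7, 11, 6, 5], [11, 3, 7, 5, 7, 8,
    10, 7, 10, 1, 6, 11, 9, 5], [11, 3, 7, 10, 7, 5, 7, 1], [11, 3, 7, 5, 0, 9, 6, 11, 7, 3, 10, 8],
    [11, 3, 7, 10, 9, 3, 10, 5, 7], [11, 3, 7, 5, 10, 9, 6, 0, 11, 2], [11, 3, 7, 5, 10, 9, 6, 0, 11],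
    [11, 3, 7, 5, 10, 9, 6, 0, 5, 9, 11], [11, 3, 7, 5, 10, 9, 2, 4], [11, 3, 7, 5, 7, 10, 7, 10, 3,
    4, 11, 2], [11, 3, 7, 5, 7, 10, 7, 10, 1, 2, 10], [11, 3, 7, 5, 10, 9, 2, 10, 10, 9, 5], [11, 3,
    7, 10, 9, 7], [11, 3, 7, 5, 10, 9, 2, 6], [11, 3, 7, 5, 10, 9, 6, 0, 2], [11, 3, 7, 5, 7, 8, 10,
    2, 4, 8, 10], [11, 3, 11, 6, 11, 2], [11, 3, 7, 5, 7, 8, 6, 5, 10], [11, 3, 7, 5, 7, 10, 7, 10, 3,
    4, 10], [11, 3, 7, 5, 7, 10, 7, 10, 1, 2, 9], [11, 3, 7, 5, 7, 10, 7, 10, 1, 2], [11, 3, 7, 10, 9,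
    3, 4]]

/-- The words of the cosets, a part. -/
def repData14 : List (List ℕ) :=
  [[11, 3, 7, 5, 10, 9, 6, 0, 5], [11, 3, 7, 5, 10, 9, 2, 10, 10, 9, 5, 2], [11, 3, 7, 5, 0, 9, 6,
    11], [11, 3, 7, 5, 0, 9, 6, 11, 7], [11, 3, 7, 5, 0, 9, 6, 11, 7, 3], [11, 3, 7, 5, 0, 9, 6, 11,
    7, 3, 5], [11, 3, 7, 5, 0, 9, 6, 11, 7, 3, 11, 11], [11, 3, 7, 5, 7, 10, 7, 3, 10, 9, 7, 11, 6,
    8], [11, 3, 7, 5, 7, 11, 2, 10], [11, 3, 11, 6, 11, 1], [11, 3, 7, 5, 0, 9, 6, 10], [11, 3, 7, 5,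
    7, 8, 6, 11, 9], [11, 3, 7, 5, 7, 8, 6, 10, 9], [11, 3, 7, 5, 0, 9, 6, 11, 3], [11, 3, 7, 5, 0, 9,
    6, 11, 3, 5], [11, 3, 7, 5, 7, 8, 6, 10, 3, 8, 5, 6, 3], [11, 3, 7, 5, 7, 8, 6, 10, 3, 8, 5, 6],
    [11, 3, 7, 5, 7, 8, 6, 10, 3, 8, 0], [11, 3, 7, 5, 7, 8, 6, 10, 3, 8, 0, 4], [11, 3, 7, 10, 7, 5,
    7, 4, 9], [11, 3, 7, 5, 7, 8, 6, 10, 3, 8, 0, 2, 7], [11, 3, 7, 5, 7, 8, 6, 10, 3, 8, 0, 2, 7, 5],
    [11, 3, 7, 5, 7, 8, 6, 10, 3, 8, 0, 2, 4], [11, 3, 7, 5, 0, 9, 6, 11, 7, 4, 7], [11, 3, 7, 5, 10,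
    6, 11, 5, 9, 2, 1, 11], [11, 3, 7, 5, 7, 8, 6, 10, 3, 8], [11, 3, 7, 10, 9, 3, 7]]

/-- The words of the cosets, a part. -/
def repData15 : List (List ℕ) :=
  [[11, 3, 7, 10, 9, 3, 10, 6, 1, 11], [11, 3, 7, 10, 9, 3, 10, 6, 11], [11, 3, 7, 5, 7, 8, 10, 7,
    10, 1, 6, 3, 1, 11, 9], [11, 3, 7, 5, 10, 6, 11, 5, 9, 2, 10], [11, 3, 7, 5, 7, 8, 10, 7, 10, 1,
    6, 3, 1], [11, 3, 7, 5, 7, 10, 7, 10, 5], [11, 3, 7, 5, 7, 10, 7, 11], [11, 3, 7, 5, 7, 10, 7, 10,
    1], [11, 3, 7, 5, 7, 10, 7, 10, 1, 2, 4], [11, 3, 7, 5, 7, 10, 7, 3, 10, 4, 7, 5, 2, 0], [11, 3,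
    7, 5, 7, 8, 10, 7, 10, 1, 6, 11, 9, 11], [11, 3, 7, 5, 10, 6, 11, 5, 9, 2, 1, 10], [11, 3, 7, 5,
    10, 6, 11, 5, 9, 2, 11], [11, 3, 7, 5, 7, 8, 6, 11], [11, 3, 7, 5, 7, 8, 6, 10], [11, 3, 7, 5, 7,
    8, 10, 7, 9, 4, 10, 3, 10], [11, 3, 7, 5, 7, 8, 10, 7, 9, 4, 10, 3, 10, 5], [11, 3, 7, 5, 7, 8,
    10, 7, 9, 4, 10, 3, 11], [11, 3, 7, 5, 7, 10, 7, 3, 4, 2, 11], [11, 3, 7, 5, 7, 10, 7, 3, 10, 4,
    7, 8, 10, 7, 10, 6], [11, 3, 7, 5, 7, 10, 7, 3, 10, 4, 7, 8, 10, 3, 10], [11, 3, 7, 5, 7, 10, 7,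
    3, 10, 4, 7, 5, 11, 6, 8, 11], [11, 3, 7, 5, 7, 10, 7, 3, 10, 4, 7, 5, 11, 3, 8, 4, 11], [11, 3,
    7, 5, 7, 10, 7, 3, 10, 4, 7, 5, 11, 3, 11], [11, 3, 7, 5, 0, 9, 6, 11, 7, 4], [11, 3, 7, 5, 7, 8,
    6, 10, 3, 8, 0, 2], [11, 3, 7, 5, 7, 8, 10, 7, 9, 0]]

/-- The words of the cosets, a part. -/
def repData16 : List (List ℕ) :=
  [[11, 3, 7, 5, 7, 10, 7, 3, 10, 4, 7, 5, 11, 3, 4, 7, 5], [11, 3, 7, 5, 7, 10, 7, 3, 10, 2, 11, 3,
    10], [11, 3, 7, 5, 7, 10, 7, 10, 9], [11, 3, 7, 5, 7, 10, 7, 4, 8, 11], [11, 3, 7, 5, 7, 10, 7, 4,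
    8, 10, 1], [11, 3, 7, 5, 7, 8, 10, 7, 10, 1, 6, 11, 11], [11, 3, 7, 5, 7, 8, 10, 7, 10, 1, 6, 3,
    1, 4, 8], [11, 3, 7, 5, 7, 10, 7, 3, 10, 2, 8, 1, 11, 2, 10], [11, 3, 7, 5, 7, 8, 10, 7, 10, 1, 6,
    3, 9], [11, 3, 7, 10, 7, 11], [11, 3, 7, 5, 7, 10, 7, 3, 10, 4, 7, 5, 2, 8], [11, 3, 7, 5, 7, 10,
    7, 10, 1, 2, 0], [11, 3, 7, 5, 7, 10, 7, 3, 10, 4, 7, 2], [11, 3, 7, 5, 7, 10, 7, 3, 10, 4, 3],
    [11, 3, 7, 5, 7, 8, 10, 7, 10, 4], [11, 3, 7, 5, 7, 10, 7, 3, 10, 2, 8, 1, 11, 2, 7], [11, 3, 7,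
    10, 9, 3, 10, 6, 1], [11, 3, 7, 5, 7, 10, 7, 3, 10, 4, 7, 5, 11, 3, 0, 10], [11, 3, 7, 5, 7, 10,
    7, 3, 10, 4, 7, 5, 11, 3, 0, 10, 6], [11, 3, 7, 5, 10, 9, 2, 10, 5, 7, 11], [11, 3, 7, 5, 7, 10,
    7, 3, 10, 2, 8, 1, 11, 6, 5], [11, 3, 7, 5, 7, 10, 7, 3, 10, 2, 8, 1, 11, 6], [11, 3, 7, 5, 7, 8,
    6, 11, 3], [11, 3, 7, 5, 7, 8, 6, 10, 3, 10, 10], [11, 3, 7, 5, 7, 8, 6, 10, 3, 0], [11, 3, 7, 5,
    7, 10, 7, 3, 4, 2], [11, 3, 7, 5, 7, 10, 7, 3, 10, 1, 3]]

/-- The words of the cosets, a part. -/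
def repData17 : List (List ℕ) :=
  [[11, 3, 7, 5, 7, 10, 7, 3, 10, 1], [11, 3, 7, 5, 7, 10, 7, 3, 10], [11, 3, 7, 5, 7, 10, 7, 3, 10,
    4], [11, 3, 7, 5, 7, 10, 7, 3, 10, 4, 7, 5, 11, 3, 8, 10], [11, 3, 7, 5, 7, 10, 7, 3, 10, 4, 7, 5,
    11, 3, 10], [11, 3, 7, 5, 7, 8, 6, 10, 3, 8, 10], [11, 3, 7, 5, 7, 8, 6, 10, 3, 8, 5], [11, 3, 7,
    5, 0, 9, 6, 11, 7, 4, 0], [11, 3, 7, 5, 7, 10, 7, 3, 10, 4, 9, 2], [11, 3, 7, 5, 7, 8, 10, 7, 9,
    4, 0], [11, 3, 7, 10, 9, 3, 10, 6, 1, 10], [11, 3, 7, 5, 7, 10, 7, 10, 3, 10], [11, 3, 7, 5, 7,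
    10, 7, 3, 10, 4, 7, 5, 11, 3, 4, 7, 10], [11, 3, 7, 5, 7, 8, 10, 7, 10, 2, 5], [11, 3, 7, 5, 7, 8,
    6, 11, 6], [11, 3, 7, 5, 7, 8, 10, 7, 9, 3, 11], [11, 3, 7, 5, 7, 8, 10, 7, 10, 2, 10, 10], [11,
    3, 7, 5, 7, 8, 10, 7, 10, 2], [11, 3, 7, 5, 7, 8, 10, 7, 9, 4, 10], [11, 3, 7, 5, 7, 8, 10, 7, 9,
    4, 10, 7], [11, 3, 7, 5, 0, 9, 6, 11, 3, 1], [11, 3, 7, 5, 7, 10, 7, 10, 3], [11, 3, 7, 5, 7, 10,
    7, 3, 10, 2, 8, 1, 11, 6, 11, 11], [11, 3, 7, 5, 7, 8, 10, 7, 10, 2, 8, 11, 0], [11, 3, 7, 5, 7,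
    8, 6, 10, 3, 4], [11, 3, 7, 5, 10, 6, 11, 5, 9, 2], [11, 3, 7, 5, 7, 8, 6, 10, 3, 8, 11]]

/-- The words of the cosets, a part. -/
def repData18 : List (List ℕ) :=
  [[11, 3, 7, 5, 0, 9, 6, 11, 7, 1], [11, 3, 7, 5, 7, 10, 7, 3, 10, 2, 8, 11], [11, 3, 7, 5, 7, 10,
    7, 3, 10, 2, 8, 1, 10], [11, 3, 7, 5, 7, 10, 7, 3, 10, 2, 10, 8], [11, 3, 11, 6, 9], [11, 3, 7, 5,
    7, 10, 7, 4, 6], [11, 3, 7, 5, 7, 8, 10, 7, 10, 1, 6, 11, 9, 2], [11, 3, 7, 5, 7, 10, 7, 10, 3, 4,
    11], [11, 3, 7, 5, 7, 10, 7, 10, 3, 7], [11, 3, 7, 5, 7, 10, 7, 3, 10, 2, 11, 7, 8], [11, 3, 7, 5,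
    10, 6, 11, 5, 9, 2, 7, 10, 0, 7], [11, 3, 7, 5, 10, 6, 11, 5, 9, 2, 7, 10, 7], [11, 3, 7, 5, 10,
    9, 6, 0, 2, 4, 2], [11, 3, 7, 5, 7, 8, 10, 7, 10, 1, 6, 3, 5], [11, 3, 7, 5, 7, 8, 10, 7, 10, 1,
    6, 3, 1, 4], [11, 3, 7, 10, 9, 3, 10, 5], [11, 3, 7, 5, 7, 10, 7, 3, 10, 4, 7, 8, 10], [11, 3, 7,
    5, 7, 10, 7, 3, 10, 4, 7, 8, 10, 7, 11, 1, 2], [11, 3, 7, 5, 7, 8, 10, 7, 10, 1, 6, 3, 9, 6], [11,
    3, 7, 5, 7, 10, 7, 4, 8, 10], [11, 3, 7, 5, 7, 10, 7, 0, 8], [11, 3, 7, 5, 7, 10, 7, 3, 10, 4, 7,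
    8, 10, 7, 11, 4, 8], [11, 3, 7, 5, 7, 10, 7, 4, 2, 11], [11, 3, 7, 5, 7, 10, 7, 3, 10, 4, 7, 8,
    10, 7, 11, 1], [11, 3, 7, 5, 7, 8, 10, 7, 2, 10], [11, 3, 7, 5, 7, 10, 7, 3, 10, 9, 7, 11, 6, 10],
    [11, 3, 7, 5, 10, 9, 6, 0, 9, 11]]

/-- The words of the cosets, a part. -/
def repData19 : List (List ℕ) :=
  [[11, 3, 7, 5, 7, 10, 7, 3, 10, 4, 7, 8, 10, 7, 4, 3], [11, 3, 7, 5, 7, 10, 7, 3, 10, 4, 7, 8, 10,
    7, 4], [11, 3, 7, 5, 7, 8, 10, 7, 10, 1, 6, 3, 1, 4, 6, 1, 8], [11, 3, 7, 5, 7, 10, 7, 10, 3, 4],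
    [11, 3, 7, 5, 7, 8, 6, 11, 9, 2], [11, 3, 7, 5, 7, 8, 6, 10, 3, 8, 0, 2, 7, 5, 2], [11, 3, 7, 5,
    7, 10, 7, 3, 10, 2, 8, 5, 7, 11], [11, 3, 7, 5, 7, 10, 7, 3, 10, 2, 8, 1, 11, 2, 0], [11, 3, 7, 5,
    7, 10, 7, 3, 10, 2, 8, 1, 11, 6, 11], [11, 3, 7, 5, 7, 10, 7, 3, 10, 2, 8, 1, 11, 6, 11, 2], [11,
    3, 7, 5, 7, 8, 10, 7, 2, 11, 6], [11, 3, 7, 5, 7, 10, 7, 3, 10, 4, 7, 5, 11, 3, 0, 10, 6, 2], [11,
    3, 7, 5, 10, 6, 11, 6], [11, 3, 7, 5, 7, 8, 10, 7, 10, 2, 8, 11, 11], [11, 3, 7, 5, 7, 10, 7, 3,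
    10, 4, 7, 5, 11, 3, 0, 10, 6, 9], [11, 3, 7, 5, 7, 10, 7, 3, 10, 2, 11, 7, 8, 10], [11, 3, 7, 5,
    7, 10, 7, 3, 10, 2, 8, 1, 11, 6, 11, 5], [11, 3, 7, 5, 7, 8, 6, 11, 9, 2, 10], [11, 3, 7, 5, 7,
    10, 7, 3, 10, 2, 8, 5, 7, 5], [11, 3, 7, 5, 7, 10, 7, 3, 10, 2, 8, 5, 7], [11, 3, 7, 5, 7, 8, 6,
    10, 3, 10, 4], [11, 3, 7, 5, 7, 8, 10, 7, 10, 1, 6, 3, 1, 4, 6, 11], [11, 3, 7, 5, 7, 8, 10, 7,
    10, 1, 6, 3, 1, 4, 6], [11, 3, 7, 5, 7, 10, 7, 3, 10, 4, 7, 5, 2], [11, 3, 7, 5, 7, 10, 7, 3, 10,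
    2, 0], [11, 3, 7, 5, 7, 10, 7, 3, 10, 2], [11, 3, 7, 5, 7, 10, 7, 3, 10, 2, 4]]

/-- The words of the cosets, a part. -/
def repData20 : List (List ℕ) :=
  [[11, 3, 7, 5, 7, 10, 7, 3, 10, 2, 8, 1, 11, 6, 9], [11, 3, 7, 5, 7, 10, 7, 3, 10, 2, 8, 1, 11],
    [11, 3, 7, 5, 7, 10, 7, 3, 10, 2, 8, 1, 11, 2], [11, 3, 7, 5, 7, 8, 6, 10, 3, 10, 3], [11, 3, 7,
    5, 7, 10, 7, 3, 10, 2, 11, 7, 8, 0], [11, 3, 7, 5, 7, 10, 7, 3, 10, 2, 11, 7, 8, 0, 10], [11, 3,
    7, 5, 7, 10, 7, 3, 10, 2, 8, 1, 11, 6, 10], [11, 3, 7, 5, 7, 10, 7, 3, 10, 2, 11, 7, 8, 11, 6],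
    [11, 3, 7, 5, 7, 8, 10, 7, 9, 4, 10, 7, 2, 5], [11, 3, 7, 5, 7, 8, 10, 7, 9, 4, 10, 7, 2], [11, 3,
    7, 5, 7, 8, 10, 7, 10, 1, 6, 3], [11, 3, 7, 5, 7, 10, 7, 3, 10, 9, 7, 11, 6, 11, 8], [11, 3, 7, 5,
    7, 8, 10, 2, 4, 6, 10, 6, 10], [11, 3, 7, 5, 7, 10, 7, 3, 10, 2, 10, 10, 2], [11, 3, 7, 5, 10, 9,
    6, 0, 5, 9, 3], [11, 3, 7, 5, 7, 8, 10, 2, 4, 10], [11, 3, 7, 5, 7, 8, 10, 2, 11], [11, 3, 7, 5,
    10, 6, 11, 5, 9, 2, 7, 1], [11, 3, 7, 5, 10, 6, 11, 5, 9, 2, 7, 10, 10], [11, 3, 7, 5, 10, 6, 11,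
    5, 9, 2, 7, 8], [11, 3, 7, 5, 7, 10, 7, 3, 10, 2, 8, 1, 11, 2, 5], [11, 3, 7, 5, 7, 10, 7, 3, 10,
    2, 10, 7, 2], [11, 3, 7, 5, 7, 10, 7, 3, 10, 2, 10, 2], [11, 3, 7, 5, 7, 8, 10, 2, 11, 9], [11, 3,
    7, 5, 10, 6, 11, 5, 9, 2, 7], [11, 3, 7, 5, 7, 10, 7, 3, 10, 1, 8, 5], [11, 3, 7, 5, 7, 10, 7, 3,
    10, 1, 8, 5, 7]]

/-- The words of the cosets, a part. -/
def repData21 : List (List ℕ) :=
  [[11, 3, 7, 5, 10, 9, 6, 0, 5, 2], [11, 3, 7, 5, 7, 10, 7, 3, 10, 4, 7, 8, 10, 7, 11, 4, 8, 7],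
    [11, 3, 7, 5, 7, 10, 7, 3, 11], [11, 3, 7, 5, 7, 10, 7, 3, 10, 4, 7, 1], [11, 3, 7, 5, 7, 8, 10,
    7, 10, 1, 6, 3, 1, 8], [11, 3, 7, 5, 7, 10, 7, 3, 10, 4, 7], [11, 3, 7, 5, 7, 10, 7, 3, 10, 2, 10,
    10], [11, 3, 7, 5, 7, 10, 7, 3, 10, 2, 8], [11, 3, 7, 5, 7, 10, 7, 3, 10, 9], [11, 3, 7, 5, 7, 10,
    7, 3, 10, 4, 7, 8, 10, 7, 11, 9, 6, 11, 6, 11], [11, 3, 7, 5, 7, 10, 7, 3, 10, 2, 8, 1, 4, 2],
    [11, 3, 7, 5, 7, 10, 7, 3, 10, 2, 8, 1, 4], [11, 3, 7, 5, 7, 10, 7, 3, 10, 2, 8, 1], [11, 3, 7, 5,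
    7, 10, 7, 3, 10, 4, 9], [11, 3, 7, 5, 7, 10, 7, 3, 10, 1, 8], [11, 3, 7, 5, 7, 8, 10, 7, 2, 11],
    [11, 3, 7, 5, 7, 10, 7, 3, 10, 1, 8, 5, 3], [11, 3, 7, 5, 7, 10, 7, 3, 10, 2, 10, 7, 11], [11, 3,
    7, 10, 9, 3, 10, 6, 1, 8], [11, 3, 7, 5, 7, 10, 7, 3, 10, 4, 7, 5, 11, 6, 5, 11], [11, 3, 7, 5, 7,
    10, 7, 3, 10, 9, 7], [11, 3, 7, 5, 7, 10, 7, 3, 10, 9, 7, 5], [11, 3, 7, 5, 7, 10, 7, 3, 10, 2, 8,
    1, 2], [11, 3, 7, 5, 7, 10, 7, 3, 10, 2, 8, 5], [11, 3, 7, 5, 7, 10, 7, 3, 10, 1, 8, 6], [11, 3,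
    7, 5, 7, 8, 10, 7, 9, 3, 5, 10], [11, 3, 7, 5, 7, 10, 7, 3, 10, 4, 7, 5, 7]]

/-- The words of the cosets, a part. -/
def repData22 : List (List ℕ) :=
  [[11, 3, 7, 5, 7, 8, 10, 7, 9, 4, 10, 3, 10, 5, 7], [11, 3, 7, 5, 10, 9, 6, 0, 9, 6], [11, 3, 7,
    5, 7, 10, 7, 3, 10, 2, 11, 3, 5], [11, 3, 7, 5, 7, 8, 10, 7, 10, 1, 6, 11, 3], [11, 3, 7, 5, 7,
    10, 7, 3, 10, 4, 7, 5], [11, 3, 7, 5, 7, 8, 10, 7, 9, 4, 10, 7, 2, 10], [11, 3, 7, 5, 7, 10, 7, 3,
    10, 4, 7, 8, 10, 7, 11, 9, 6, 11, 6, 0], [11, 3, 7, 5, 7, 10, 7, 3, 10, 2, 11, 3, 10, 10], [11, 3,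
    7, 5, 7, 10, 7, 3, 10, 4, 7, 5, 2, 11], [11, 3, 7, 5, 7, 8, 10, 7, 10, 1, 6, 3, 1, 4, 6, 10], [11,
    3, 7, 5, 10, 6, 11, 5, 9, 2, 7, 11], [11, 3, 7, 5, 10, 6, 11, 5, 9, 2, 7, 10, 0], [11, 3, 7, 5,
    10, 6, 11, 5, 9, 2, 7, 10], [11, 3, 7, 5, 10, 6, 11, 5, 9, 2, 7, 10, 4], [11, 3, 11, 6, 11, 2,
    10], [11, 3, 11, 6, 11, 2, 10, 0], [11, 3, 7, 5, 7, 8, 10, 7, 10, 2, 1], [11, 3, 7, 5, 7, 10, 7,
    3, 10, 4, 7, 5, 11, 6, 11], [11, 3, 7, 5, 7, 10, 7, 3, 10, 9, 7, 11, 6, 0, 9], [11, 3, 7, 5, 7,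
    10, 7, 3, 10, 9, 7, 11, 6, 11, 0], [11, 3, 7, 5, 7, 10, 7, 3, 10, 2, 10, 7, 10], [11, 3, 7, 5, 7,
    8, 10, 7, 2, 11, 1], [11, 3, 7, 5, 7, 10, 7, 3, 10, 4, 7, 5, 11, 6, 10, 3], [11, 3, 7, 5, 7, 10,
    7, 3, 10, 1, 8, 3], [11, 3, 7, 5, 7, 8, 10, 7, 9, 4, 10, 3], [11, 3, 7, 5, 10, 9, 6, 0, 10, 2,
    10], [11, 3, 7, 5, 10, 9, 6, 0, 10, 2, 11]]

/-- The words of the cosets, a part. -/
def repData23 : List (List ℕ) :=
  [[11, 3, 7, 5, 7, 10, 7, 3, 10, 9, 7, 11, 0], [11, 3, 7, 5, 7, 10, 7, 3, 10, 9, 7, 11], [11, 3, 7,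
    5, 7, 10, 7, 3, 10, 9, 7, 11, 11], [11, 3, 7, 5, 10, 6, 11, 5, 9, 2, 1, 8], [11, 3, 7, 5, 7, 8, 6,
    10, 3, 8, 0, 2, 11], [11, 3, 7, 5, 7, 8, 10, 7, 10, 1, 9, 3], [11, 3, 7, 5, 7, 8, 10, 7, 10, 2, 8,
    0], [11, 3, 7, 5, 7, 10, 7, 3, 10, 2, 11, 3, 7, 5], [11, 3, 7, 5, 7, 8, 10, 7, 10, 1, 6, 11, 5],
    [11, 3, 7, 5, 10, 9, 6, 0, 10, 2, 1], [11, 3, 7, 5, 10, 6, 5, 3], [11, 3, 7, 5, 7, 10, 7, 3, 10,
    2, 11, 3, 7], [11, 3, 7, 5, 7, 10, 7, 3, 10, 2, 11, 3], [11, 3, 7, 5, 7, 10, 7, 3, 10, 2, 11],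
    [11, 3, 7, 5, 7, 10, 7, 3, 10, 2, 10, 4], [11, 3, 7, 5, 7, 10, 7, 3, 10, 2, 10], [11, 3, 7, 5, 7,
    8, 10, 7, 10, 1, 6, 11, 7], [11, 3, 7, 5, 7, 8, 10, 7, 10, 1, 6, 11], [11, 3, 7, 5, 7, 8, 10, 7,
    10, 1, 6, 3, 1, 4, 6, 1], [11, 3, 7, 5, 7, 10, 7, 3, 10, 2, 10, 10, 6], [11, 3, 7, 5, 10, 6, 11,
    5, 9, 1, 5, 2], [11, 3, 7, 5, 7, 8, 10, 7, 9, 4, 10, 3, 8], [11, 3, 7, 5, 10, 6, 11, 5, 3], [11,
    3, 7, 5, 7, 10, 7, 4, 8, 3, 10], [11, 3, 7, 5, 7, 10, 7, 3, 10, 9, 7, 11, 3], [11, 3, 7, 5, 7, 10,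
    7, 3, 10, 9, 7, 10], [11, 3, 7, 5, 7, 10, 7, 3, 10, 9, 7, 11, 4]]

/-- The words of the cosets, a part. -/
def repData24 : List (List ℕ) :=
  [[11, 3, 7, 5, 10, 9, 6, 0, 10, 2], [11, 3, 7, 5, 0, 9, 6, 11, 7, 3, 5, 9], [11, 3, 7, 5, 7, 10,
    7, 3, 10, 9, 7, 11, 3, 0], [11, 3, 7, 5, 7, 10, 7, 3, 10, 9, 7, 11, 3, 10, 10], [11, 3, 7, 5, 7,
    10, 7, 3, 10, 9, 7, 11, 3, 5], [11, 3, 7, 5, 7, 10, 7, 3, 10, 2, 8, 1, 6], [11, 3, 7, 5, 7, 10, 7,
    3, 10, 9, 7, 11, 3, 10], [11, 3, 7, 5, 7, 10, 7, 3, 10, 9, 7, 11, 3, 10, 0], [11, 3, 7, 5, 7, 10,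
    7, 3, 10, 9, 7, 11, 3, 10, 7], [11, 3, 7, 5, 7, 10, 7, 3, 10, 9, 7, 11, 3, 10, 10, 7], [11, 3, 7,
    5, 7, 10, 7, 3, 10, 9, 7, 11, 6, 0, 3, 9], [11, 3, 7, 5, 0, 9, 6, 11, 7, 3, 5, 3], [11, 3, 7, 5,
    0, 9, 6, 11, 7, 4, 3], [11, 3, 7, 5, 7, 8, 10, 7, 9, 4, 10, 7, 2, 0], [11, 3, 7, 5, 7, 8, 10, 7,
    10, 2, 5, 3], [11, 3, 7, 5, 7, 8, 10, 7, 10, 2, 8, 11, 5, 3], [11, 3, 7, 10, 9, 3, 10, 6, 1, 8,
    6], [11, 3, 7, 5, 0, 9, 6, 11, 7, 3, 10], [11, 3, 7, 5, 0, 9, 6, 11, 7, 3, 11, 1], [11, 3, 7, 5,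
    7, 8, 10, 7, 10, 1, 6, 3, 10], [11, 3, 7, 5, 7, 8, 10, 7, 10, 1, 6, 3, 1, 10], [11, 3, 7, 5, 7, 8,
    10, 7, 10, 1, 6, 3, 11], [11, 3, 7, 5, 7, 10, 7, 3, 10, 2, 10, 7, 0], [11, 3, 7, 5, 7, 10, 7, 3,
    10, 2, 10, 7], [11, 3, 7, 5, 7, 10, 7, 3, 10, 2, 10, 7, 5], [11, 3, 7, 5, 7, 10, 7, 3, 10, 2, 8,
    1, 4, 6], [11, 3, 7, 5, 7, 10, 7, 3, 10, 9, 7, 11, 6, 0, 3, 10]]

/-- The words of the cosets, a part. -/
def repData25 : List (List ℕ) :=
  [[11, 3, 7, 5, 7, 8, 10, 7, 10, 1, 6, 3, 1, 11], [11, 3, 7, 5, 7, 10, 7, 3, 10, 2, 10, 7, 0, 5],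
    [11, 3, 7, 5, 7, 10, 7, 3, 10, 2, 10, 1], [11, 3, 7, 5, 7, 10, 7, 3, 10, 2, 11, 7, 8, 11], [11, 3,
    7, 5, 7, 10, 7, 3, 10, 2, 11, 7, 4], [11, 3, 7, 5, 7, 10, 7, 3, 10, 9, 7, 11, 6, 11, 4, 3, 11],
    [11, 3, 7, 5, 7, 10, 7, 3, 10, 2, 11, 3, 7, 5, 2], [11, 3, 7, 5, 0, 9, 6, 11, 7, 3, 11], [11, 3,
    7, 5, 7, 10, 7, 3, 10, 2, 11, 7, 11], [11, 3, 7, 5, 7, 10, 7, 3, 10, 2, 11, 7, 4, 11], [11, 3, 7,
    5, 7, 10, 7, 3, 10, 2, 11, 7, 4, 10], [11, 3, 7, 5, 7, 10, 7, 3, 10, 2, 11, 7, 8, 0, 11], [11, 3,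
    7, 5, 7, 10, 7, 3, 10, 2, 8, 6], [11, 3, 7, 5, 7, 10, 7, 3, 10, 9, 7, 11, 6, 0, 3, 9, 10], [11, 3,
    7, 5, 7, 10, 7, 3, 10, 2, 11, 7, 10], [11, 3, 7, 5, 7, 8, 6, 10, 3, 8, 0, 2, 7, 5, 7, 11], [11, 3,
    7, 5, 7, 10, 7, 3, 10, 9, 7, 11, 6, 0, 3, 11, 4], [11, 3, 7, 5, 7, 10, 7, 3, 10, 2, 11, 7], [11,
    3, 7, 5, 7, 10, 7, 3, 10, 9, 7, 11, 6, 11, 4, 3, 10], [11, 3, 7, 5, 7, 8, 6, 10, 3, 8, 0, 2, 7, 5,
    7], [11, 3, 7, 5, 7, 10, 7, 3, 10, 9, 7, 11, 6, 0, 3, 9, 11], [11, 3, 7, 5, 7, 10, 7, 3, 10, 9, 7,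
    11, 6, 0, 3, 11], [11, 3, 7, 5, 7, 10, 7, 3, 10, 9, 7, 11, 6, 11, 4, 3, 11, 0], [11, 3, 7, 5, 10,
    6, 11, 5, 9, 2, 7, 10, 7, 8], [11, 3, 7, 5, 0, 9, 6, 11, 7, 3, 1], [11, 3, 7, 5, 7, 10, 7, 3, 10,
    2, 11, 7, 0], [11, 3, 7, 5, 7, 8, 6, 10, 3, 8, 0, 2, 7, 5, 7, 10]]

/-- The words of the cosets. -/
def repData : List (List (List ℕ)) :=
  [repData0, repData1, repData2, repData3, repData4, repData5, repData6, repData7, repData8,
    repData9, repData10, repData11, repData12, repData13, repData14, repData15, repData16, repData17,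
    repData18, repData19, repData20, repData21, repData22, repData23, repData24, repData25]

/-- The relators. -/
def rels : List (List ℕ × List ℤ) :=
  [([0, 0], []), ([2, 2], []), ([4, 4], []), ([6, 6], []), ([8, 8], []), ([0, 2, 0, 2, 0, 2], []),
    ([0, 8, 0, 8], []), ([2, 4, 2, 4, 2, 4], []), ([2, 6, 2, 6], []), ([2, 8, 2, 8], []), ([0, 7, 5,
    7, 5, 7, 5, 7, 5], []), ([4, 8, 4, 8], []), ([6, 8, 6, 8, 6, 8], []), ([2, 4, 6, 8, 2, 4, 6, 8, 2,
    4, 6, 8, 2, 4, 6, 8, 2, 4, 6, 8, 2, 4, 6, 8, 2, 4, 6, 8, 2, 4, 6, 8], []), ([10, 10, 5, 1], []),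
    ([11, 1, 10, 0], []), ([11, 5, 10, 4], []), ([11, 9, 10, 8], []), ([6, 8, 11, 6, 10, 6, 8, 11, 6,
    10], []), ([11, 3, 5, 1, 2, 10, 3, 0, 4, 2, 9], []), ([10, 6, 4, 7, 11, 7, 5, 7, 3, 5, 7, 1, 3, 5,
    7, 9, 7, 5, 7, 3, 5, 1, 3, 1], []), ([10, 2, 4, 1, 3, 11, 9, 3, 5, 1, 3], [0, 1]), ([10, 2, 8, 3,
    11, 9], [0, 0, 1]), ([10, 6, 0, 7, 11, 1], [0, 0, 0, 1]), ([7, 11, 6, 3, 5, 1, 2, 7, 10, 6, 3, 0,
    4, 2, 5, 9, 7, 11, 6, 3, 5, 1, 2, 9, 11], [1])]

/-- The words of the subgroup. -/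
def subs : List (List ℕ × List ℤ) :=
  [([0], []), ([2], []), ([4], []), ([6], []), ([8], [])]

/-- The global words of the letters. -/
def subData : List (List ℕ) :=
  [[0], [1], [2], [3], [4], [5], [6], [7], [8], [9], [14], [15]]

/-- Deductions. -/
def steps0 : List (ℕ × ℕ × ℕ) :=
  [(700, 1, 1), (700, 0, 0), (700, 14, 0), (689, 15, 3), (689, 0, 0), (684, 14, 2), (689, 2, 1),
    (689, 16, 1), (692, 16, 1), (684, 2, 1), (683, 14, 3), (700, 15, 0), (692, 15, 1), (700, 6, 3),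
    (700, 17, 1), (686, 4, 1), (544, 17, 3), (545, 17, 3), (684, 4, 1), (699, 0, 1), (698, 4, 0),
    (697, 0, 0), (696, 2, 1), (694, 3, 1), (692, 4, 1), (692, 17, 1), (686, 6, 0), (686, 14, 2), (684,
    11, 1), (685, 6, 2), (678, 14, 2), (689, 11, 3), (689, 6, 2), (545, 0, 1), (684, 6, 1), (685, 11,
    2), (528, 15, 1), (678, 2, 1), (692, 3, 1), (692, 8, 0), (692, 1, 1), (687, 3, 0), (682, 0, 0),
    (699, 15, 0), (682, 14, 2), (666, 2, 1), (665, 16, 2), (682, 15, 1), (384, 0, 0), (383, 14, 2),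
    (699, 16, 2), (384, 16, 3), (666, 16, 1), (681, 1, 0), (680, 14, 2), (697, 2, 1), (678, 3, 1),
    (677, 0, 1), (677, 15, 0), (636, 15, 1), (537, 14, 1), (677, 14, 1), (573, 15, 3), (573, 0, 0),
    (539, 16, 1), (677, 2, 0), (636, 14, 1), (677, 16, 1), (573, 2, 1), (539, 14, 1), (635, 14, 3),
    (685, 23, 1), (700, 3, 1), (683, 23, 2), (634, 14, 2), (636, 16, 1), (676, 2, 1), (671, 14, 1),
    (675, 4, 0), (571, 17, 0), (409, 17, 3), (438, 11, 0), (571, 2, 0), (675, 3, 1), (674, 17, 3),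
    (688, 4, 1), (688, 17, 1), (658, 17, 1), (696, 4, 1), (695, 22, 1), (696, 22, 2), (612, 9, 0),
    (658, 9, 2), (673, 3, 0), (672, 2, 1), (671, 3, 1), (538, 23, 3), (677, 3, 1), (537, 23, 2), (671,
    1, 1), (636, 8, 1), (562, 3, 1), (671, 8, 2), (667, 15, 3), (668, 0, 1), (668, 15, 1), (571, 6,
    0), (571, 0, 1), (440, 6, 3), (550, 14, 1), (500, 16, 1), (675, 2, 1), (409, 16, 3), (571, 11, 1),
    (669, 14, 3), (675, 0, 0), (675, 14, 2), (669, 2, 1), (669, 16, 0), (500, 14, 3), (675, 15, 0),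
    (675, 16, 1), (499, 16, 0), (668, 23, 1), (667, 23, 2), (639, 3, 0), (500, 15, 3), (667, 3, 0),
    (665, 4, 1), (664, 3, 0), (663, 1, 1), (662, 1, 1), (661, 0, 0), (660, 1, 1), (659, 7, 5), (660,
    2, 1), (659, 1, 1), (657, 3, 1), (656, 3, 1), (655, 15, 0), (655, 0, 0), (654, 15, 1), (653, 3,
    0), (652, 2, 1), (650, 14, 1), (652, 15, 3), (652, 0, 0), (649, 4, 1), (648, 4, 1), (648, 1, 0),
    (648, 0, 0), (647, 2, 0), (587, 16, 2), (588, 16, 3), (645, 14, 2), (651, 2, 0), (645, 3, 1),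
    (645, 8, 2), (355, 1, 1), (645, 1, 1), (622, 8, 3), (643, 1, 1), (642, 4, 0), (641, 1, 0), (640,
    3, 0), (639, 4, 1), (639, 6, 2), (515, 0, 0), (535, 6, 3), (638, 17, 1), (437, 4, 0), (177, 17,
    3), (597, 9, 3), (597, 4, 0), (437, 22, 1), (638, 9, 2), (638, 3, 0), (638, 2, 0), (638, 11, 1),
    (629, 4, 1), (629, 11, 2), (636, 4, 1), (634, 1, 0), (634, 8, 1), (633, 2, 0), (633, 0, 0), (633,
    14, 2), (601, 2, 0), (632, 2, 0), (227, 16, 3), (227, 2, 0), (631, 1, 1), (627, 15, 0), (627, 0,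
    0), (130, 15, 1), (626, 1, 1), (624, 4, 0), (623, 14, 3), (623, 0, 1), (621, 15, 0), (646, 16, 3),
    (646, 2, 0), (647, 14, 3), (647, 0, 1), (646, 14, 0), (623, 23, 3), (621, 3, 1), (206, 23, 4),
    (588, 23, 2), (385, 6, 0), (612, 0, 0), (612, 6, 1), (355, 15, 1), (613, 23, 2), (613, 14, 1),
    (511, 15, 3), (511, 0, 0), (180, 17, 2), (612, 14, 2), (385, 11, 1), (356, 17, 0), (356, 16, 3),
    (355, 16, 1), (551, 11, 0), (551, 2, 1), (309, 16, 2), (385, 16, 3), (355, 11, 1), (309, 17, 1),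
    (511, 6, 3), (511, 17, 2), (308, 15, 3), (309, 15, 2), (385, 14, 2), (612, 2, 1), (308, 16, 2),
    (551, 17, 1), (356, 6, 0), (356, 0, 1), (613, 15, 0), (613, 16, 3), (613, 2, 0), (356, 14, 2),
    (612, 11, 1), (335, 17, 0), (355, 14, 2), (280, 17, 1), (335, 6, 2), (206, 17, 3), (618, 14, 2),
    (156, 2, 1), (155, 16, 2), (156, 16, 1), (156, 15, 1), (422, 0, 1), (618, 15, 3), (618, 1, 1),
    (617, 1, 1), (581, 9, 1), (617, 4, 1), (616, 1, 1), (615, 0, 1), (582, 14, 2), (615, 2, 1), (71,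
    15, 0), (235, 15, 3), (610, 6, 3), (627, 4, 1), (610, 0, 1), (627, 6, 1), (476, 17, 1), (256, 4,
    0), (150, 17, 3), (150, 4, 0), (476, 14, 2), (610, 2, 1), (475, 16, 2), (627, 17, 1), (482, 6, 2),
    (256, 0, 1), (147, 6, 1), (149, 11, 0), (482, 2, 0), (482, 11, 2), (149, 16, 2), (482, 16, 1),
    (472, 11, 3), (472, 9, 1), (662, 4, 1), (472, 4, 0), (662, 9, 2), (482, 17, 2), (472, 14, 3),
    (475, 0, 0), (475, 14, 0), (256, 17, 1), (627, 11, 0), (627, 2, 1), (627, 16, 2), (526, 17, 3)]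

/-- Deductions. -/
def steps1 : List (ℕ × ℕ × ℕ) :=
  [(526, 6, 0), (526, 0, 1), (149, 14, 3), (153, 15, 0), (627, 14, 0), (482, 14, 2), (149, 15, 3),
    (150, 6, 1), (257, 22, 0), (476, 16, 1), (257, 11, 3), (257, 17, 0), (610, 14, 2), (472, 16, 1),
    (150, 15, 3), (609, 0, 0), (607, 2, 0), (604, 14, 3), (607, 0, 0), (564, 15, 2), (607, 23, 1),
    (604, 23, 2), (416, 15, 3), (416, 0, 0), (326, 15, 1), (417, 14, 2), (408, 2, 0), (417, 0, 1),
    (402, 14, 2), (417, 2, 1), (557, 3, 1), (402, 23, 3), (564, 8, 0), (564, 1, 1), (417, 23, 2),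
    (605, 15, 0), (607, 14, 2), (605, 2, 0), (606, 14, 1), (605, 16, 1), (558, 2, 1), (606, 15, 3),
    (607, 1, 0), (606, 3, 0), (606, 1, 0), (605, 3, 0), (564, 23, 2), (497, 0, 1), (600, 0, 0), (598,
    4, 1), (598, 11, 2), (239, 2, 0), (502, 16, 2), (318, 17, 3), (318, 4, 0), (317, 16, 3), (598, 9,
    2), (442, 1, 1), (65, 22, 4), (598, 17, 1), (66, 22, 2), (536, 9, 0), (239, 16, 1), (224, 2, 1),
    (66, 14, 3), (502, 0, 0), (502, 14, 1), (238, 14, 3), (317, 15, 3), (317, 0, 0), (224, 15, 1),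
    (316, 15, 0), (317, 14, 1), (502, 15, 1), (224, 16, 1), (316, 2, 1), (598, 3, 0), (598, 2, 1),
    (598, 16, 1), (223, 11, 3), (572, 17, 3), (572, 9, 1), (444, 4, 1), (224, 22, 1), (444, 9, 0),
    (223, 22, 5), (318, 6, 0), (572, 15, 2), (570, 17, 3), (570, 4, 0), (572, 6, 0), (570, 15, 1),
    (223, 14, 2), (502, 11, 3), (502, 6, 2), (319, 15, 2), (572, 23, 1), (570, 23, 2), (320, 3, 0),
    (65, 15, 3), (319, 6, 3), (319, 11, 0), (224, 11, 2), (595, 3, 0), (595, 1, 0), (595, 8, 1), (303,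
    3, 0), (302, 8, 0), (594, 3, 1), (591, 3, 0), (590, 3, 0), (590, 2, 1), (579, 14, 1), (590, 16,
    1), (541, 14, 3), (541, 23, 2), (687, 0, 0), (487, 23, 5), (579, 15, 3), (574, 6, 1), (677, 17,
    3), (677, 11, 1), (635, 6, 3), (635, 11, 2), (541, 2, 0), (636, 11, 1), (634, 6, 3), (538, 17, 3),
    (636, 17, 2), (574, 14, 1), (636, 22, 2), (577, 4, 0), (579, 16, 3), (578, 11, 3), (578, 9, 2),
    (578, 4, 0), (634, 17, 2), (578, 14, 3), (590, 15, 1), (489, 23, 2), (673, 0, 1), (488, 23, 5),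
    (636, 6, 1), (634, 11, 2), (590, 17, 3), (590, 6, 0), (590, 14, 0), (635, 17, 1), (488, 17, 1),
    (577, 9, 0), (589, 1, 0), (587, 3, 1), (585, 4, 0), (583, 1, 1), (582, 3, 1), (581, 4, 0), (617,
    9, 2), (581, 2, 0), (580, 4, 1), (580, 11, 0), (580, 2, 1), (580, 9, 1), (467, 4, 1), (580, 3, 1),
    (580, 1, 1), (467, 9, 2), (461, 8, 1), (445, 3, 1), (572, 8, 3), (461, 12, 3), (226, 4, 1), (580,
    12, 2), (575, 4, 1), (575, 11, 2), (569, 14, 3), (569, 0, 1), (223, 23, 3), (570, 3, 1), (57, 15,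
    2), (222, 16, 3), (222, 2, 0), (57, 14, 3), (575, 6, 0), (622, 23, 4), (623, 16, 3), (623, 2, 0),
    (647, 16, 0), (647, 15, 1), (591, 0, 0), (621, 23, 2), (581, 6, 2), (459, 15, 0), (581, 17, 1),
    (83, 4, 1), (245, 11, 0), (581, 16, 2), (575, 14, 0), (222, 17, 3), (222, 11, 2), (245, 16, 2),
    (580, 14, 3), (580, 6, 1), (581, 11, 2), (569, 2, 1), (569, 16, 0), (565, 17, 3), (565, 6, 0),
    (221, 16, 0), (459, 14, 1), (569, 15, 1), (222, 0, 0), (222, 14, 2), (57, 17, 2), (565, 22, 1),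
    (569, 22, 2), (59, 9, 0), (565, 14, 1), (581, 15, 1), (83, 6, 1), (93, 9, 0), (57, 22, 3), (687,
    8, 0), (687, 1, 1), (587, 8, 2), (634, 22, 1), (617, 5, 0), (617, 0, 1), (82, 0, 0), (568, 3, 1),
    (567, 1, 0), (567, 7, 5), (567, 2, 0), (566, 3, 1), (564, 4, 1), (563, 4, 1), (560, 2, 1), (555,
    16, 3), (555, 2, 0), (556, 14, 3), (556, 0, 1), (96, 15, 2), (178, 15, 3), (295, 16, 1), (96, 16,
    1), (556, 2, 0), (555, 14, 1), (324, 15, 3), (324, 0, 0), (555, 1, 1), (554, 9, 3), (567, 4, 1),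
    (554, 1, 1), (567, 9, 1), (550, 1, 1), (440, 9, 0), (440, 1, 1), (638, 22, 4), (193, 17, 3), (328,
    8, 3), (675, 23, 2), (476, 5, 1), (610, 1, 1), (328, 0, 0), (550, 3, 1), (549, 2, 0), (549, 1, 0),
    (549, 8, 3), (618, 3, 1), (618, 8, 1), (422, 23, 3), (661, 3, 0), (543, 1, 1), (542, 3, 0), (542,
    1, 0), (542, 8, 2), (453, 1, 1), (541, 8, 3), (635, 12, 2), (544, 3, 1), (700, 12, 3), (542, 0,
    1), (536, 0, 1), (535, 3, 0), (533, 16, 0), (533, 2, 0), (152, 16, 1), (532, 2, 0), (529, 2, 1),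
    (527, 4, 1), (525, 3, 0), (524, 1, 0), (522, 1, 0), (518, 1, 0), (517, 1, 0), (516, 4, 1), (516,
    3, 0), (516, 2, 0), (470, 16, 3), (470, 2, 0), (493, 14, 3)]

/-- Deductions. -/
def steps2 : List (ℕ × ℕ × ℕ) :=
  [(493, 0, 1), (493, 15, 0), (470, 15, 1), (514, 16, 0), (337, 14, 0), (509, 14, 0), (509, 23, 1),
    (337, 3, 1), (316, 23, 3), (225, 23, 2), (337, 15, 1), (311, 14, 2), (509, 2, 1), (509, 16, 0),
    (509, 15, 1), (514, 0, 0), (514, 14, 2), (338, 2, 1), (338, 16, 0), (514, 15, 1), (313, 14, 2),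
    (271, 16, 3), (313, 0, 1), (514, 1, 0), (509, 1, 1), (507, 11, 0), (507, 2, 1), (323, 16, 2),
    (507, 17, 1), (338, 11, 3), (338, 4, 0), (323, 17, 3), (509, 6, 3), (509, 11, 2), (322, 2, 0),
    (509, 4, 0), (322, 11, 1), (507, 6, 0), (507, 0, 1), (321, 14, 0), (265, 16, 2), (337, 17, 3),
    (337, 12, 4), (264, 3, 0), (337, 11, 2), (337, 6, 2), (507, 15, 2), (323, 14, 0), (271, 17, 3),
    (271, 6, 2), (270, 15, 1), (312, 17, 3), (506, 6, 0), (506, 0, 1), (506, 4, 0), (203, 6, 0), (243,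
    15, 2), (412, 15, 3), (376, 5, 1), (443, 1, 1), (203, 14, 1), (92, 16, 1), (412, 2, 0), (243, 14,
    1), (412, 16, 1), (203, 2, 0), (62, 16, 2), (410, 14, 3), (411, 0, 0), (203, 16, 1), (412, 14, 1),
    (505, 17, 3), (506, 17, 0), (506, 15, 2), (436, 22, 5), (505, 6, 0), (436, 4, 1), (436, 6, 1),
    (410, 17, 1), (92, 17, 1), (436, 11, 0), (505, 14, 1), (506, 22, 1), (435, 1, 1), (412, 9, 1),
    (506, 14, 2), (92, 11, 0), (62, 14, 3), (92, 0, 0), (60, 2, 0), (59, 16, 1), (435, 11, 3), (435,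
    9, 2), (435, 6, 0), (435, 14, 2), (505, 16, 2), (436, 14, 2), (435, 15, 3), (434, 6, 3), (92, 9,
    1), (644, 17, 3), (644, 4, 0), (344, 17, 1), (435, 22, 1), (91, 9, 0), (491, 8, 0), (491, 1, 1),
    (221, 7, 1), (457, 2, 1), (457, 16, 1), (508, 2, 1), (457, 7, 0), (340, 14, 0), (504, 3, 0), (502,
    1, 0), (501, 3, 0), (501, 2, 1), (501, 16, 0), (292, 16, 1), (498, 1, 0), (494, 3, 1), (493, 1,
    1), (491, 3, 0), (272, 8, 3), (490, 4, 1), (486, 0, 1), (484, 1, 0), (484, 9, 3), (643, 4, 1),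
    (643, 9, 1), (643, 6, 0), (643, 0, 1), (484, 8, 1), (481, 14, 3), (481, 0, 1), (480, 1, 1), (494,
    8, 0), (494, 1, 1), (480, 8, 1), (480, 5, 2), (479, 0, 1), (476, 1, 0), (476, 9, 2), (260, 22, 0),
    (477, 16, 3), (477, 2, 0), (618, 7, 5), (642, 11, 0), (662, 7, 4), (642, 1, 0), (642, 9, 1), (477,
    11, 1), (217, 9, 2), (477, 7, 1), (662, 11, 0), (642, 7, 1), (446, 11, 3), (299, 14, 3), (446, 0,
    0), (216, 15, 2), (248, 16, 3), (248, 2, 0), (216, 14, 3), (421, 16, 0), (154, 14, 3), (422, 15,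
    0), (421, 15, 1), (133, 14, 3), (477, 0, 0), (477, 6, 1), (299, 4, 0), (260, 17, 3), (260, 6, 1),
    (431, 4, 1), (431, 17, 0), (477, 22, 2), (431, 9, 2), (247, 4, 1), (247, 9, 0), (260, 15, 3),
    (250, 14, 2), (468, 11, 3), (468, 17, 0), (468, 16, 3), (431, 11, 1), (133, 15, 0), (477, 15, 1),
    (468, 14, 2), (250, 11, 3), (477, 17, 2), (446, 17, 1), (468, 6, 2), (299, 15, 0), (446, 15, 1),
    (248, 14, 2), (248, 15, 2), (249, 17, 2), (468, 15, 1), (132, 0, 1), (132, 15, 0), (477, 14, 2),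
    (191, 11, 0), (299, 16, 2), (446, 14, 2), (216, 23, 2), (218, 6, 2), (193, 0, 1), (218, 0, 1),
    (192, 6, 1), (191, 15, 3), (610, 5, 3), (626, 9, 3), (626, 4, 0), (328, 9, 1), (299, 11, 2), (550,
    8, 1), (473, 3, 0), (471, 1, 1), (466, 0, 0), (465, 3, 1), (465, 2, 1), (483, 11, 3), (483, 4, 0),
    (465, 11, 1), (152, 17, 3), (464, 4, 1), (462, 17, 3), (463, 4, 1), (463, 17, 1), (85, 17, 1),
    (428, 4, 0), (428, 22, 3), (67, 9, 2), (570, 22, 3), (262, 8, 0), (337, 1, 0), (337, 8, 1), (457,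
    3, 1), (457, 0, 0), (456, 0, 0), (456, 6, 3), (456, 4, 0), (395, 6, 0), (454, 1, 1), (517, 9, 3),
    (517, 4, 0), (454, 9, 1), (453, 16, 2), (452, 16, 3), (450, 3, 0), (449, 15, 3), (463, 0, 1),
    (463, 15, 1), (86, 14, 1), (84, 16, 1), (449, 2, 0), (85, 16, 3), (84, 11, 3), (84, 17, 1), (462,
    6, 0), (462, 0, 1), (463, 6, 1), (428, 11, 2), (427, 2, 1), (67, 16, 3), (246, 14, 0), (462, 14,
    0), (246, 15, 3), (85, 11, 1), (449, 17, 2), (462, 15, 1), (87, 6, 3), (87, 0, 1), (67, 14, 2),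
    (246, 2, 0), (448, 2, 1), (448, 0, 1), (448, 15, 1), (406, 0, 1), (405, 14, 2), (469, 16, 2),
    (406, 16, 3), (345, 16, 2), (448, 14, 2), (347, 14, 3), (405, 15, 0), (406, 15, 1), (437, 14, 3),
    (437, 0, 1), (432, 2, 1), (430, 3, 0), (430, 2, 1), (430, 1, 0), (429, 4, 0), (660, 9, 3), (660,
    4, 0), (429, 9, 2), (429, 3, 0), (429, 2, 0), (660, 7, 2)]

/-- Deductions. -/
def steps3 : List (ℕ × ℕ × ℕ) :=
  [(466, 14, 0), (429, 11, 2), (351, 2, 1), (381, 11, 3), (428, 3, 1), (424, 3, 0), (419, 17, 2),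
    (419, 16, 3), (419, 2, 0), (373, 16, 1), (44, 11, 0), (44, 2, 1), (30, 16, 1), (418, 2, 1), (258,
    14, 3), (419, 0, 0), (258, 15, 0), (419, 15, 1), (46, 15, 0), (419, 14, 1), (418, 16, 1), (46, 16,
    2), (373, 14, 3), (418, 0, 0), (373, 15, 1), (30, 14, 2), (419, 4, 0), (390, 17, 1), (43, 17, 0),
    (43, 11, 1), (390, 9, 0), (403, 1, 0), (419, 9, 0), (413, 2, 0), (409, 3, 1), (404, 3, 1), (403,
    14, 1), (455, 17, 3), (455, 11, 0), (456, 16, 0), (483, 14, 3), (483, 0, 1), (465, 6, 0), (465, 0,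
    1), (483, 6, 1), (396, 14, 0), (455, 16, 3), (456, 11, 2), (399, 2, 1), (397, 4, 1), (394, 1, 0),
    (392, 2, 1), (391, 1, 1), (382, 8, 3), (391, 3, 1), (682, 23, 3), (699, 3, 1), (391, 8, 1), (387,
    0, 1), (379, 1, 0), (378, 2, 1), (138, 14, 1), (378, 17, 1), (363, 4, 1), (139, 17, 2), (363, 17,
    1), (378, 16, 1), (362, 2, 1), (229, 14, 3), (362, 0, 0), (362, 14, 2), (229, 2, 1), (229, 16, 0),
    (139, 14, 3), (139, 0, 1), (139, 15, 1), (300, 6, 0), (302, 0, 0), (302, 6, 3), (378, 11, 2),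
    (302, 2, 1), (302, 16, 1), (512, 2, 0), (512, 11, 3), (512, 4, 0), (512, 22, 2), (370, 9, 0),
    (498, 7, 1), (370, 4, 0), (301, 14, 0), (512, 16, 1), (301, 2, 0), (372, 1, 0), (371, 17, 3),
    (556, 6, 2), (563, 15, 0), (563, 0, 0), (563, 6, 1), (555, 17, 1), (55, 22, 2), (310, 4, 0), (555,
    9, 2), (54, 17, 1), (563, 11, 0), (563, 2, 1), (556, 11, 1), (324, 6, 2), (307, 0, 0), (307, 14,
    2), (371, 2, 0), (371, 11, 1), (233, 15, 0), (55, 15, 3), (370, 3, 0), (369, 3, 0), (368, 3, 1),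
    (368, 8, 0), (404, 1, 0), (404, 8, 2), (367, 2, 1), (364, 2, 0), (101, 16, 2), (100, 16, 3), (362,
    1, 1), (358, 0, 1), (167, 14, 2), (358, 2, 1), (198, 16, 2), (358, 16, 1), (170, 16, 0), (220, 14,
    3), (220, 0, 1), (198, 15, 2), (358, 14, 0), (27, 15, 3), (215, 17, 0), (170, 17, 3), (170, 11,
    2), (215, 2, 0), (215, 11, 1), (171, 16, 1), (345, 3, 0), (406, 23, 3), (448, 3, 1), (175, 23, 4),
    (174, 23, 5), (292, 15, 3), (291, 14, 0), (377, 16, 1), (291, 2, 0), (343, 3, 1), (457, 8, 2),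
    (343, 1, 1), (341, 1, 0), (339, 14, 0), (339, 0, 1), (323, 3, 1), (323, 1, 0), (323, 9, 1), (306,
    4, 1), (338, 22, 1), (323, 8, 1), (306, 3, 1), (306, 8, 2), (315, 2, 0), (314, 1, 0), (305, 3, 0),
    (301, 0, 1), (298, 4, 1), (298, 11, 0), (298, 2, 1), (159, 14, 1), (298, 17, 1), (253, 4, 0),
    (136, 11, 2), (297, 2, 1), (296, 16, 3), (592, 2, 1), (592, 16, 1), (261, 16, 1), (474, 2, 1),
    (81, 14, 0), (296, 15, 3), (325, 0, 1), (325, 15, 1), (474, 14, 3), (592, 0, 0), (592, 14, 0),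
    (295, 1, 0), (294, 3, 0), (294, 0, 0), (293, 1, 1), (290, 14, 3), (501, 0, 0), (501, 14, 0), (289,
    4, 1), (289, 3, 1), (289, 1, 0), (288, 1, 0), (286, 4, 0), (286, 0, 0), (275, 2, 0), (275, 0, 0),
    (269, 2, 1), (267, 0, 0), (267, 6, 3), (267, 4, 0), (266, 6, 0), (266, 14, 0), (508, 16, 1), (340,
    2, 0), (91, 14, 1), (457, 15, 1), (423, 0, 0), (263, 3, 1), (260, 1, 0), (299, 22, 2), (296, 17,
    3), (615, 11, 3), (615, 6, 1), (582, 22, 1), (474, 22, 5), (592, 6, 3), (592, 11, 1), (510, 17,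
    1), (235, 6, 1), (81, 4, 0), (235, 8, 3), (556, 23, 3), (178, 3, 1), (615, 23, 3), (255, 4, 1),
    (255, 17, 0), (255, 16, 3), (255, 2, 0), (255, 11, 1), (254, 4, 1), (254, 17, 2), (197, 16, 3),
    (123, 14, 0), (158, 15, 3), (159, 6, 3), (253, 17, 2), (219, 17, 1), (158, 17, 2), (298, 14, 3),
    (298, 0, 1), (297, 6, 3), (297, 11, 2), (158, 2, 1), (159, 11, 1), (298, 6, 2), (157, 14, 0),
    (219, 16, 3), (219, 2, 0), (146, 14, 3), (135, 15, 3), (197, 15, 3), (254, 6, 0), (298, 15, 2),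
    (297, 17, 2), (197, 14, 3), (253, 6, 0), (136, 14, 3), (251, 1, 1), (249, 3, 0), (248, 3, 0),
    (217, 23, 2), (79, 0, 1), (244, 4, 0), (41, 17, 2), (23, 17, 3), (25, 11, 2), (24, 2, 0), (237, 2,
    1), (237, 16, 0), (218, 14, 0), (638, 16, 1), (437, 2, 0), (437, 11, 2), (415, 2, 0), (357, 16,
    0), (192, 14, 1), (437, 15, 1), (629, 0, 1), (234, 4, 0), (12, 17, 2), (234, 17, 1), (231, 4, 1),
    (213, 17, 0), (230, 3, 1), (218, 3, 0), (216, 3, 1), (216, 8, 2), (214, 3, 0), (211, 3, 1), (207,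
    1, 1), (204, 1, 0), (201, 4, 1), (201, 0, 1)]

/-- Deductions. -/
def steps4 : List (ℕ × ℕ × ℕ) :=
  [(200, 14, 1), (144, 15, 3), (144, 0, 0), (199, 1, 0), (196, 14, 2), (201, 11, 1), (367, 4, 1),
    (367, 11, 2), (195, 16, 0), (367, 17, 1), (107, 17, 1), (364, 4, 1), (364, 6, 0), (364, 0, 1),
    (364, 15, 0), (364, 17, 1), (103, 4, 1), (103, 6, 0), (201, 15, 0), (367, 16, 1), (107, 2, 0),
    (201, 17, 1), (106, 11, 1), (200, 15, 1), (106, 14, 2), (144, 16, 2), (107, 14, 2), (103, 17, 2),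
    (195, 14, 3), (196, 15, 1), (144, 6, 3), (144, 17, 2), (118, 17, 3), (118, 11, 0), (118, 2, 1),
    (118, 6, 0), (101, 15, 3), (196, 1, 0), (196, 9, 3), (367, 6, 0), (367, 14, 2), (364, 11, 1),
    (199, 17, 0), (367, 15, 3), (199, 14, 0), (106, 16, 1), (144, 22, 2), (137, 17, 0), (145, 17, 1),
    (196, 8, 2), (369, 1, 0), (369, 8, 1), (255, 12, 0), (300, 3, 0), (300, 12, 2), (298, 23, 4),
    (595, 17, 3), (595, 11, 0), (595, 2, 1), (253, 11, 1), (595, 22, 0), (595, 14, 3), (595, 0, 1),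
    (188, 16, 3), (188, 2, 0), (110, 16, 1), (187, 3, 0), (181, 1, 1), (180, 3, 0), (176, 4, 1), (176,
    9, 1), (175, 4, 1), (175, 9, 2), (35, 22, 0), (176, 17, 1), (35, 11, 0), (137, 16, 3), (364, 7,
    0), (377, 1, 0), (377, 7, 3), (176, 16, 1), (34, 11, 2), (145, 16, 3), (220, 10, 1), (198, 3, 0),
    (171, 23, 3), (220, 3, 1), (161, 14, 3), (161, 0, 1), (160, 15, 2), (161, 15, 1), (9, 15, 0), (9,
    17, 2), (176, 14, 3), (188, 15, 1), (35, 6, 1), (161, 17, 3), (188, 4, 1), (188, 17, 1), (19, 11,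
    2), (18, 16, 0), (19, 17, 0), (137, 14, 3), (229, 23, 3), (370, 8, 2), (164, 1, 0), (164, 8, 1),
    (34, 23, 5), (34, 6, 2), (9, 14, 0), (161, 16, 3), (188, 11, 1), (595, 12, 4), (161, 10, 8), (161,
    11, 1), (302, 12, 2), (157, 23, 2), (145, 0, 0), (145, 6, 2), (137, 15, 1), (34, 15, 0), (188, 14,
    3), (176, 15, 1), (35, 15, 0), (20, 6, 3), (20, 11, 2), (9, 16, 1), (122, 23, 3), (145, 23, 2),
    (18, 3, 1), (172, 1, 0), (170, 3, 1), (169, 0, 0), (167, 3, 1), (166, 2, 1), (358, 10, 3), (163,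
    2, 1), (162, 3, 1), (142, 3, 0), (142, 12, 1), (70, 4, 1), (289, 12, 2), (130, 3, 0), (127, 1, 1),
    (121, 1, 0), (120, 0, 0), (116, 2, 1), (115, 3, 0), (113, 3, 0), (105, 1, 0), (105, 0, 0), (100,
    3, 0), (100, 1, 1), (98, 3, 1), (97, 1, 1), (95, 17, 3), (563, 22, 0), (563, 14, 1), (371, 16, 1),
    (56, 11, 3), (96, 4, 1), (96, 11, 2), (33, 22, 1), (96, 9, 1), (216, 18, 8), (299, 3, 0), (249,
    23, 1), (642, 8, 3), (642, 3, 0), (641, 8, 1), (94, 17, 1), (33, 17, 1), (202, 4, 0), (94, 8, 1),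
    (235, 12, 4), (580, 23, 1), (82, 3, 1), (592, 23, 3), (260, 8, 3), (505, 23, 1), (595, 18, 3),
    (505, 3, 0), (506, 3, 1), (477, 23, 3), (255, 18, 3), (436, 3, 0), (216, 12, 2), (138, 18, 3),
    (160, 23, 1), (161, 23, 2), (120, 6, 3), (120, 4, 0), (49, 8, 0), (213, 9, 0), (231, 22, 3), (120,
    9, 0), (49, 3, 0), (43, 12, 0), (43, 3, 1), (188, 23, 2), (388, 15, 3), (390, 6, 1), (389, 11, 0),
    (389, 2, 1), (418, 11, 1), (419, 6, 2), (390, 15, 1), (43, 15, 1), (418, 6, 1), (419, 11, 2),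
    (465, 7, 0), (465, 8, 1), (393, 3, 0), (394, 8, 2), (403, 7, 1), (390, 11, 1), (389, 6, 0), (389,
    23, 3), (373, 17, 2), (388, 14, 0), (44, 14, 3), (389, 15, 0), (418, 17, 1), (46, 17, 2), (45, 17,
    3), (45, 11, 1), (49, 12, 4), (418, 23, 1), (120, 3, 0), (120, 12, 1), (46, 11, 2), (45, 6, 0),
    (45, 23, 1), (486, 3, 0), (93, 8, 1), (587, 18, 5), (279, 3, 0), (612, 23, 1), (308, 3, 1), (337,
    18, 8), (556, 3, 1), (514, 23, 3), (555, 8, 1), (310, 3, 1), (311, 8, 3), (555, 12, 4), (371, 3,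
    0), (96, 18, 3), (474, 3, 1), (89, 4, 0), (88, 11, 0), (89, 2, 0), (88, 17, 1), (611, 4, 1), (64,
    17, 3), (264, 12, 2), (89, 11, 2), (320, 14, 0), (586, 15, 3), (586, 0, 0), (339, 15, 0), (205,
    14, 2), (611, 16, 1), (339, 2, 0), (586, 16, 3), (80, 3, 1), (77, 3, 0), (75, 3, 1), (73, 1, 0),
    (61, 3, 1), (54, 3, 1), (52, 0, 0), (50, 2, 0), (48, 1, 0), (48, 9, 3), (48, 4, 0), (44, 9, 1),
    (388, 22, 3), (258, 22, 2), (30, 9, 2), (42, 8, 2), (380, 22, 3), (213, 8, 3), (213, 3, 0), (120,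
    8, 2), (244, 22, 3), (42, 3, 0), (42, 12, 5), (42, 9, 2), (160, 22, 3), (176, 22, 2), (213, 12,
    4), (41, 2, 0), (41, 11, 1), (26, 9, 0), (38, 0, 0), (37, 4, 0), (37, 2, 1), (17, 4, 1), (17, 17,
    1)]

/-- Deductions. -/
def steps5 : List (ℕ × ℕ × ℕ) :=
  [(4, 4, 0), (16, 1, 1), (14, 1, 1), (73, 8, 3), (73, 3, 0), (14, 8, 1), (7, 3, 1), (5, 8, 2), (35,
    9, 0), (122, 22, 1), (17, 9, 0), (5, 1, 1), (7, 8, 1), (0, 29, 0), (0, 17, 1), (108, 22, 5), (490,
    12, 0), (5, 17, 3), (114, 18, 9), (236, 14, 2), (446, 10, 5), (629, 23, 1), (237, 3, 1), (437, 3,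
    1), (298, 10, 6), (387, 16, 0), (112, 18, 1), (559, 9, 0), (559, 8, 3), (648, 12, 4), (643, 3, 1),
    (643, 8, 2), (648, 9, 1), (230, 17, 0), (363, 15, 3), (363, 0, 0), (363, 6, 1), (182, 9, 0), (135,
    18, 5), (137, 23, 1), (158, 18, 0), (363, 3, 0), (45, 10, 1), (390, 23, 3), (19, 12, 3), (109, 17,
    3), (35, 8, 1), (301, 15, 0), (230, 12, 3), (564, 9, 2), (648, 8, 3), (490, 22, 0), (0, 28, 0),
    (0, 27, 0), (0, 16, 1), (0, 10, 0), (1, 23, 5), (6, 5, 5), (18, 8, 0), (145, 22, 3), (42, 7, 5),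
    (42, 11, 2), (39, 16, 3), (35, 5, 4), (17, 15, 1), (4, 6, 2), (2, 15, 3), (1, 14, 1), (2, 18, 8),
    (4, 3, 1), (0, 26, 0), (13, 24, 24), (42, 16, 1), (1, 21, 8), (49, 10, 8), (120, 11, 0), (32, 14,
    1), (217, 18, 2), (441, 14, 3), (441, 23, 3), (415, 23, 5), (415, 14, 2), (441, 11, 3), (441, 17,
    0), (441, 16, 3), (237, 11, 3), (165, 16, 2), (357, 15, 3), (629, 6, 1), (415, 17, 0), (437, 17,
    1), (357, 6, 0), (166, 10, 1), (358, 3, 1), (219, 10, 5), (165, 10, 0), (177, 0, 0), (191, 18, 8),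
    (431, 12, 2), (411, 23, 2), (202, 15, 0), (202, 18, 0), (506, 12, 2), (446, 23, 2), (189, 14, 2),
    (249, 10, 2), (216, 10, 2), (248, 10, 2), (202, 11, 0), (94, 14, 0), (202, 23, 5), (202, 14, 2),
    (94, 16, 1), (33, 11, 2), (120, 14, 0), (189, 15, 3), (33, 10, 4), (6, 14, 1), (109, 23, 5), (109,
    14, 2), (109, 16, 2), (109, 15, 3), (108, 14, 2), (94, 7, 2), (324, 22, 1), (54, 8, 2), (37, 9,
    0), (80, 8, 0), (211, 18, 9), (486, 23, 3), (217, 12, 3), (186, 4, 1), (218, 12, 2), (431, 23, 2),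
    (211, 0, 1), (185, 8, 0), (185, 1, 1), (186, 17, 0), (486, 14, 1), (466, 15, 0), (381, 14, 2),
    (486, 2, 1), (211, 16, 3), (211, 2, 0), (288, 8, 3), (288, 3, 0), (50, 7, 0), (0, 20, 2), (160,
    19, 7), (501, 15, 2), (292, 17, 3), (501, 6, 3), (664, 12, 5), (664, 4, 0), (585, 12, 3), (501,
    22, 1), (364, 9, 1), (377, 4, 1), (377, 11, 2), (377, 14, 3), (377, 5, 3), (492, 8, 3), (492, 3,
    0), (194, 8, 0), (194, 9, 2), (367, 7, 1), (379, 2, 1), (379, 7, 2), (161, 19, 4), (188, 22, 1),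
    (43, 8, 0), (418, 22, 1), (32, 8, 0), (234, 19, 8), (556, 16, 0), (563, 17, 1), (233, 17, 2),
    (324, 23, 2), (38, 6, 3), (38, 4, 0), (37, 6, 2), (15, 5, 2), (42, 15, 3), (176, 21, 8), (200, 7,
    0), (102, 21, 8), (105, 2, 0), (176, 19, 2), (17, 16, 1), (4, 14, 1), (4, 17, 2), (3, 16, 3), (17,
    20, 15), (214, 12, 2), (48, 8, 3), (0, 24, 12), (36, 11, 3), (36, 9, 0), (37, 7, 4), (52, 5, 5),
    (17, 22, 2), (37, 11, 2), (2, 21, 5), (42, 23, 2), (234, 6, 0), (234, 15, 1), (244, 23, 5), (244,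
    6, 2), (41, 15, 3), (76, 15, 3), (41, 23, 2), (41, 14, 1), (76, 23, 2), (214, 10, 8), (25, 10, 0),
    (170, 20, 23), (170, 23, 4), (358, 15, 1), (215, 6, 0), (215, 0, 1), (170, 15, 2), (220, 23, 3),
    (168, 8, 0), (214, 1, 0), (214, 9, 1), (446, 18, 7), (169, 15, 0), (299, 18, 6), (215, 12, 0),
    (169, 17, 1), (468, 12, 0), (431, 10, 4), (506, 11, 1), (411, 17, 2), (505, 15, 1), (435, 23, 4),
    (506, 16, 3), (260, 10, 7), (329, 18, 0), (429, 12, 1), (429, 18, 4), (169, 23, 0), (169, 14, 2),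
    (169, 11, 0), (214, 7, 2), (170, 8, 0), (397, 22, 1), (215, 5, 2), (24, 14, 0), (244, 17, 2), (76,
    16, 3), (76, 2, 0), (172, 7, 5), (120, 20, 7), (172, 3, 1), (170, 10, 1), (249, 18, 1), (7, 20,
    11), (358, 23, 1), (167, 23, 2), (172, 10, 2), (34, 13, 28), (94, 19, 7), (73, 6, 3), (234, 9, 0),
    (234, 5, 5), (73, 5, 2), (54, 14, 2), (49, 5, 4), (27, 20, 20), (171, 10, 1), (169, 10, 2), (45,
    7, 0), (390, 21, 7), (464, 22, 3), (455, 9, 2), (455, 1, 1), (27, 21, 10), (41, 20, 2), (8, 20,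
    21), (74, 23, 5), (231, 6, 0), (231, 23, 2), (231, 14, 2), (234, 2, 0), (234, 14, 1), (234, 16,
    1), (234, 21, 1), (232, 7, 5), (213, 11, 1), (234, 22, 4), (232, 17, 3), (231, 17, 2), (74, 16,
    3), (74, 2, 0), (74, 10, 2), (75, 16, 1), (75, 10, 0), (75, 15, 1), (51, 14, 1)]

/-- Deductions. -/
def steps6 : List (ℕ × ℕ × ℕ) :=
  [(50, 23, 5), (232, 6, 0), (232, 10, 1), (232, 18, 8), (244, 18, 5), (244, 12, 3), (39, 11, 1),
    (42, 17, 2), (39, 23, 5), (39, 10, 1), (234, 12, 0), (51, 18, 0), (51, 10, 1), (232, 12, 3), (75,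
    17, 3), (231, 12, 0), (51, 8, 0), (214, 20, 0), (214, 14, 1), (214, 17, 1), (39, 24, 10), (42, 24,
    4), (52, 2, 1), (52, 7, 4), (97, 8, 3), (97, 3, 0), (29, 11, 0), (401, 4, 1), (401, 17, 0), (48,
    14, 1), (215, 16, 1), (401, 2, 1), (430, 7, 4), (660, 8, 3), (660, 3, 0), (429, 8, 2), (401, 12,
    2), (251, 8, 3), (60, 10, 0), (203, 11, 1), (16, 8, 3), (37, 10, 2), (615, 16, 0), (615, 17, 1),
    (261, 4, 1), (261, 12, 0), (325, 23, 4), (296, 14, 1), (592, 15, 1), (307, 23, 3), (278, 23, 2),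
    (261, 14, 2), (221, 10, 1), (581, 23, 0), (581, 22, 2), (457, 11, 2), (342, 7, 1), (575, 16, 2),
    (580, 17, 1), (343, 6, 0), (459, 23, 3), (460, 23, 2), (245, 23, 2), (566, 0, 1), (245, 10, 6),
    (474, 19, 9), (582, 5, 1), (615, 1, 1), (615, 5, 1), (582, 21, 4), (468, 9, 0), (474, 21, 10),
    (475, 1, 0), (80, 22, 5), (261, 6, 2), (97, 0, 0), (97, 14, 2), (72, 2, 1), (582, 19, 1), (296,
    22, 4), (510, 22, 2), (80, 12, 4), (96, 10, 5), (97, 10, 8), (296, 24, 0), (510, 12, 0), (511, 3,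
    0), (575, 18, 1), (687, 9, 3), (687, 12, 2), (635, 23, 1), (653, 12, 5), (546, 18, 0), (546, 3,
    1), (538, 8, 1), (598, 10, 0), (598, 14, 2), (593, 11, 3), (593, 17, 0), (598, 15, 3), (593, 14,
    0), (224, 17, 1), (598, 18, 6), (424, 4, 1), (424, 17, 0), (570, 11, 0), (593, 10, 5), (591, 12,
    5), (647, 17, 3), (647, 18, 0), (646, 10, 5), (621, 10, 7), (647, 10, 5), (356, 18, 7), (261, 17,
    1), (582, 11, 0), (615, 14, 1), (582, 16, 3), (510, 14, 3), (510, 23, 1), (179, 23, 5), (296, 6,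
    1), (325, 22, 1), (261, 7, 1), (251, 16, 0), (251, 18, 1), (251, 22, 0), (251, 23, 5), (251, 14,
    2), (592, 19, 1), (251, 11, 3), (251, 9, 2), (251, 19, 5), (247, 17, 0), (247, 16, 3), (247, 11,
    2), (28, 14, 1), (76, 21, 10), (78, 8, 0), (78, 21, 7), (79, 7, 0), (324, 12, 0), (325, 3, 0),
    (259, 23, 1), (308, 18, 8), (658, 8, 3), (621, 12, 5), (646, 11, 3), (623, 17, 3), (623, 22, 2),
    (654, 17, 3), (655, 6, 3), (655, 17, 1), (651, 11, 3), (652, 6, 3), (645, 9, 1), (622, 12, 2),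
    (623, 6, 1), (459, 8, 1), (245, 6, 1), (342, 9, 3), (342, 11, 0), (343, 7, 5), (319, 20, 20),
    (428, 16, 0), (463, 14, 0), (463, 23, 2), (471, 15, 3), (471, 0, 0), (386, 15, 1), (289, 5, 4),
    (569, 23, 3), (591, 18, 4), (563, 16, 1), (289, 7, 4), (432, 1, 0), (490, 20, 23), (490, 14, 1),
    (289, 17, 2), (198, 18, 7), (247, 15, 3), (477, 21, 4), (615, 22, 1), (235, 5, 2), (431, 19, 6),
    (216, 5, 2), (615, 21, 2), (117, 14, 0), (247, 22, 3), (171, 9, 1), (387, 18, 8), (190, 8, 2),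
    (202, 19, 7), (490, 6, 1), (432, 4, 1), (432, 11, 2), (231, 19, 7), (289, 6, 1), (490, 11, 0),
    (490, 2, 1), (490, 7, 0), (490, 9, 2), (189, 7, 0), (288, 9, 3), (386, 17, 3), (387, 4, 1), (471,
    6, 3), (490, 17, 0), (490, 16, 1), (471, 16, 2), (490, 23, 3), (432, 23, 5), (490, 15, 2), (471,
    23, 3), (289, 10, 3), (262, 12, 5), (322, 22, 1), (509, 22, 2), (337, 9, 2), (263, 8, 2), (611,
    22, 1), (320, 5, 5), (572, 22, 2), (425, 17, 3), (611, 11, 2), (592, 10, 3), (593, 18, 6), (586,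
    17, 1), (502, 12, 2), (425, 18, 0), (556, 10, 4), (425, 16, 2), (611, 17, 1), (339, 17, 2), (424,
    14, 3), (425, 15, 1), (502, 5, 3), (269, 0, 0), (424, 15, 3), (269, 20, 19), (449, 22, 1), (320,
    20, 1), (613, 3, 0), (613, 12, 5), (613, 17, 2), (568, 17, 3), (613, 22, 4), (612, 16, 1), (568,
    2, 0), (551, 14, 3), (568, 0, 0), (264, 23, 3), (613, 18, 3), (502, 8, 2), (323, 22, 3), (337, 5,
    4), (263, 0, 1), (551, 3, 0), (551, 12, 4), (616, 8, 3), (616, 3, 0), (207, 8, 1), (385, 18, 5),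
    (586, 23, 1), (514, 3, 0), (339, 10, 5), (598, 23, 3), (224, 3, 0), (239, 23, 1), (71, 20, 8),
    (575, 22, 3), (572, 19, 8), (480, 14, 1), (516, 15, 3), (516, 0, 0), (516, 6, 2), (444, 0, 1),
    (62, 19, 9), (506, 7, 0), (506, 21, 2), (414, 2, 0), (598, 21, 1), (598, 22, 2), (457, 6, 2),
    (344, 23, 1), (423, 23, 2), (342, 6, 1), (340, 17, 2), (644, 22, 3), (457, 5, 3), (593, 22, 3),
    (320, 19, 0), (611, 23, 5), (611, 14, 2), (589, 7, 5), (616, 2, 1), (616, 7, 1), (586, 14, 1),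
    (611, 15, 3), (577, 6, 2)]

/-- Deductions. -/
def steps7 : List (ℕ × ℕ × ℕ) :=
  [(553, 0, 0), (553, 23, 0), (577, 22, 1), (502, 19, 6), (586, 22, 4), (268, 15, 3), (426, 15, 2),
    (575, 19, 4), (434, 22, 3), (514, 8, 1), (513, 12, 5), (513, 9, 1), (612, 18, 7), (514, 17, 3),
    (514, 13, 1), (514, 7, 3), (321, 16, 2), (323, 15, 1), (272, 23, 1), (563, 10, 2), (285, 2, 1),
    (568, 10, 3), (265, 23, 5), (514, 20, 22), (514, 5, 4), (513, 0, 0), (513, 5, 3), (513, 13, 16),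
    (252, 9, 3), (252, 17, 0), (563, 23, 3), (343, 10, 4), (233, 11, 1), (289, 9, 2), (190, 20, 4),
    (387, 15, 1), (143, 23, 5), (143, 20, 3), (432, 12, 2), (387, 23, 0), (142, 16, 3), (115, 14, 3),
    (324, 19, 9), (558, 1, 1), (115, 10, 7), (109, 8, 0), (264, 13, 1), (263, 10, 4), (250, 13, 22),
    (462, 23, 2), (260, 5, 3), (247, 20, 12), (109, 7, 4), (432, 13, 18), (342, 10, 3), (339, 12, 4),
    (268, 3, 0), (425, 23, 1), (340, 10, 7), (73, 20, 8), (424, 22, 1), (502, 7, 3), (457, 10, 1),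
    (341, 2, 0), (341, 10, 4), (513, 7, 5), (491, 10, 1), (491, 12, 5), (259, 20, 10), (506, 13, 7),
    (339, 19, 9), (271, 13, 20), (580, 22, 3), (203, 5, 4), (260, 20, 2), (486, 16, 0), (486, 15, 1),
    (210, 14, 2), (204, 20, 23), (598, 19, 8), (443, 2, 1), (66, 21, 7), (490, 13, 3), (246, 4, 0),
    (491, 13, 26), (592, 24, 0), (592, 8, 0), (640, 5, 0), (662, 0, 0), (677, 23, 1), (662, 3, 0),
    (642, 10, 0), (642, 6, 1), (642, 12, 3), (661, 4, 1), (661, 12, 1), (641, 9, 2), (510, 7, 0),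
    (643, 5, 1), (624, 9, 2), (557, 8, 0), (607, 22, 5), (607, 4, 1), (607, 17, 0), (607, 16, 1),
    (564, 2, 1), (564, 16, 2), (606, 23, 1), (630, 8, 0), (648, 5, 3), (385, 22, 3), (572, 24, 8),
    (644, 15, 3), (644, 0, 0), (644, 23, 4), (616, 22, 5), (616, 4, 1), (616, 11, 1), (617, 6, 2),
    (538, 5, 1), (635, 22, 2), (589, 17, 0), (617, 15, 0), (644, 16, 3), (644, 2, 0), (644, 11, 2),
    (458, 2, 1), (581, 19, 6), (553, 7, 5), (553, 2, 0), (555, 10, 5), (640, 8, 0), (640, 9, 3), (640,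
    11, 0), (641, 7, 2), (510, 19, 6), (484, 7, 5), (643, 11, 0), (643, 2, 1), (643, 7, 2), (618, 5,
    1), (615, 7, 4), (624, 5, 5), (326, 9, 0), (610, 7, 1), (648, 10, 8), (648, 11, 2), (198, 24, 6),
    (566, 1, 0), (583, 8, 3), (583, 3, 0), (183, 2, 1), (535, 11, 0), (648, 16, 1), (620, 2, 0), (639,
    14, 0), (620, 15, 3), (648, 15, 2), (680, 22, 5), (697, 6, 3), (697, 17, 0), (697, 16, 1), (515,
    7, 1), (644, 10, 7), (623, 12, 0), (647, 23, 1), (653, 8, 0), (687, 5, 3), (623, 9, 2), (653, 5,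
    5), (588, 8, 3), (621, 18, 7), (589, 23, 4), (617, 23, 2), (445, 21, 0), (445, 23, 5), (461, 21,
    7), (611, 19, 1), (617, 22, 4), (458, 23, 5), (537, 5, 5), (573, 7, 2), (616, 19, 6), (553, 5, 3),
    (662, 8, 1), (472, 3, 1), (539, 8, 0), (677, 22, 3), (611, 5, 5), (611, 1, 0), (611, 21, 8), (467,
    16, 0), (467, 19, 5), (457, 24, 18), (467, 8, 2), (566, 5, 3), (184, 7, 3), (555, 24, 10), (580,
    8, 1), (204, 23, 2), (515, 5, 1), (460, 24, 12), (566, 7, 5), (183, 14, 0), (680, 17, 3), (181,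
    17, 3), (648, 6, 2), (511, 5, 5), (461, 24, 11), (512, 15, 2), (378, 22, 1), (381, 24, 19), (630,
    5, 5), (558, 8, 3), (603, 23, 2), (564, 6, 1), (604, 17, 3), (605, 4, 1), (605, 17, 1), (559, 6,
    0), (620, 23, 5), (680, 6, 1), (697, 22, 0), (697, 23, 3), (624, 3, 0), (630, 12, 5), (630, 11,
    0), (648, 14, 1), (639, 16, 1), (619, 2, 0), (630, 16, 3), (639, 10, 4), (484, 14, 1), (416, 23,
    0), (416, 14, 1), (417, 15, 0), (402, 16, 1), (328, 7, 2), (641, 5, 0), (641, 10, 8), (641, 11,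
    1), (640, 7, 2), (296, 8, 1), (595, 23, 2), (557, 5, 5), (563, 7, 0), (563, 21, 6), (295, 9, 2),
    (558, 5, 2), (140, 0, 0), (559, 5, 3), (471, 7, 1), (555, 19, 7), (609, 15, 0), (608, 15, 1),
    (471, 21, 8), (372, 2, 1), (563, 20, 21), (563, 5, 5), (575, 20, 8), (509, 19, 7), (509, 24, 20),
    (342, 20, 14), (490, 10, 6), (252, 20, 23), (426, 24, 22), (467, 22, 0), (467, 23, 5), (467, 6,
    2), (445, 15, 0), (462, 16, 3), (462, 2, 0), (467, 11, 0), (580, 7, 2), (687, 13, 16), (571, 9,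
    0), (675, 22, 1), (610, 8, 3), (627, 12, 0), (627, 3, 1), (610, 12, 0), (475, 10, 4), (598, 7, 1),
    (536, 11, 1), (494, 4, 1), (494, 11, 0), (572, 7, 1), (462, 10, 1), (527, 12, 0), (527, 3, 1),
    (627, 10, 6), (527, 2, 1), (153, 10, 6), (598, 24, 15), (610, 18, 8), (554, 8, 3), (554, 3, 0),
    (128, 8, 3), (512, 18, 8), (301, 3, 0)]

/-- Deductions. -/
def steps8 : List (ℕ × ℕ × ℕ) :=
  [(505, 18, 5), (476, 3, 1), (476, 8, 2), (593, 19, 9), (629, 22, 3), (598, 8, 1), (536, 12, 4),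
    (506, 20, 1), (506, 23, 3), (434, 3, 1), (434, 24, 1), (288, 20, 1), (435, 10, 4), (559, 7, 2),
    (387, 1, 0), (564, 7, 3), (505, 10, 5), (471, 10, 8), (443, 10, 7), (593, 20, 15), (442, 12, 4),
    (593, 8, 0), (598, 20, 19), (571, 5, 5), (505, 8, 1), (571, 3, 1), (502, 24, 8), (442, 14, 3),
    (442, 10, 7), (435, 8, 1), (434, 12, 3), (242, 11, 2), (516, 14, 1), (242, 4, 0), (376, 12, 4),
    (241, 18, 8), (374, 3, 0), (516, 23, 4), (493, 16, 3), (516, 16, 2), (480, 16, 1), (480, 15, 1),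
    (473, 0, 0), (473, 23, 2), (494, 0, 1), (375, 14, 0), (602, 17, 3), (602, 4, 0), (602, 22, 4),
    (213, 24, 13), (559, 13, 3), (437, 12, 4), (415, 3, 0), (536, 10, 4), (556, 24, 15), (437, 18, 7),
    (228, 17, 2), (429, 24, 22), (593, 24, 14), (648, 7, 4), (612, 21, 9), (659, 0, 0), (659, 10, 2),
    (694, 2, 1), (701, 16, 3), (701, 2, 0), (695, 14, 3), (701, 0, 0), (658, 15, 2), (701, 23, 1),
    (660, 10, 0), (701, 15, 2), (696, 17, 0), (695, 15, 1), (659, 8, 1), (479, 10, 8), (699, 10, 7),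
    (391, 10, 6), (393, 10, 0), (465, 5, 2), (397, 23, 4), (478, 18, 9), (533, 17, 3), (549, 9, 2),
    (661, 1, 0), (661, 9, 1), (478, 12, 4), (533, 3, 0), (483, 23, 4), (533, 15, 3), (533, 0, 0),
    (533, 14, 1), (527, 17, 2), (485, 16, 3), (644, 20, 16), (485, 18, 8), (465, 10, 7), (403, 18, 8),
    (525, 12, 5), (525, 6, 2), (661, 5, 3), (525, 1, 0), (549, 5, 4), (533, 6, 1), (643, 13, 19),
    (582, 12, 2), (611, 3, 0), (615, 10, 2), (524, 2, 1), (527, 7, 0), (527, 1, 1), (525, 7, 1), (478,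
    14, 0), (485, 23, 3), (526, 18, 8), (419, 12, 2), (610, 23, 1), (527, 18, 5), (543, 8, 3), (594,
    24, 24), (543, 3, 0), (662, 12, 3), (543, 9, 2), (590, 8, 1), (475, 18, 8), (483, 10, 1), (595,
    10, 5), (533, 23, 4), (483, 16, 0), (527, 14, 3), (527, 10, 1), (464, 12, 0), (532, 8, 0), (532,
    9, 3), (485, 21, 5), (543, 22, 0), (543, 21, 9), (450, 6, 0), (464, 0, 0), (465, 15, 0), (465, 18,
    1), (465, 12, 4), (483, 3, 0), (527, 23, 3), (512, 20, 23), (512, 23, 4), (149, 18, 0), (627, 23,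
    1), (456, 12, 4), (466, 10, 3), (450, 23, 2), (396, 5, 2), (394, 6, 3), (394, 17, 0), (119, 21,
    10), (401, 22, 2), (172, 11, 2), (29, 14, 3), (474, 24, 8), (458, 24, 8), (70, 22, 0), (263, 14,
    1), (395, 10, 1), (398, 8, 0), (518, 7, 5), (518, 16, 0), (517, 16, 3), (519, 14, 3), (673, 15,
    0), (673, 16, 3), (673, 2, 0), (531, 14, 3), (531, 0, 1), (530, 14, 0), (519, 15, 3), (517, 7, 2),
    (398, 5, 0), (430, 0, 0), (428, 24, 16), (611, 20, 5), (372, 3, 1), (553, 20, 7), (426, 18, 4),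
    (314, 17, 3), (616, 12, 1), (566, 11, 3), (639, 9, 0), (639, 7, 2), (551, 1, 0), (630, 7, 4),
    (515, 9, 1), (570, 12, 4), (639, 8, 2), (516, 5, 5), (516, 1, 0), (516, 9, 2), (438, 1, 1), (500,
    5, 1), (499, 8, 1), (611, 13, 12), (436, 7, 0), (436, 8, 2), (385, 21, 10), (551, 22, 2), (645,
    12, 1), (649, 6, 0), (649, 0, 1), (384, 17, 2), (665, 22, 1), (381, 22, 2), (62, 22, 1), (502, 21,
    1), (437, 7, 0), (437, 1, 1), (508, 20, 9), (387, 14, 1), (249, 20, 3), (446, 20, 13), (507, 10,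
    5), (563, 3, 0), (563, 12, 1), (514, 22, 3), (514, 21, 2), (617, 20, 17), (548, 7, 0), (548, 1,
    1), (549, 7, 1), (582, 20, 4), (306, 22, 0), (314, 21, 0), (306, 21, 7), (338, 21, 3), (323, 19,
    6), (509, 20, 20), (336, 10, 7), (371, 8, 2), (509, 5, 4), (284, 14, 0), (163, 16, 0), (285, 14,
    1), (321, 7, 1), (274, 16, 0), (275, 15, 1), (77, 24, 12), (273, 16, 0), (276, 15, 3), (273, 14,
    0), (53, 15, 0), (276, 23, 1), (300, 24, 15), (275, 17, 2), (314, 19, 10), (555, 18, 5), (555, 20,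
    6), (314, 11, 1), (310, 12, 4), (310, 10, 0), (555, 21, 8), (477, 20, 22), (372, 11, 3), (608, 17,
    3), (609, 4, 1), (609, 17, 1), (598, 12, 4), (336, 3, 1), (609, 18, 0), (609, 3, 1), (604, 24, 0),
    (639, 23, 1), (698, 12, 0), (698, 3, 1), (697, 12, 4), (648, 18, 3), (620, 18, 5), (408, 3, 1),
    (607, 24, 17), (277, 22, 0), (306, 23, 5), (338, 24, 20), (460, 20, 11), (306, 15, 2), (277, 19,
    9), (284, 9, 1), (410, 20, 7), (187, 20, 18), (349, 3, 1), (638, 24, 1), (637, 16, 3), (637, 2,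
    0), (536, 16, 2), (516, 12, 1), (117, 24, 1), (556, 21, 6), (471, 11, 2), (141, 10, 0), (158, 12,
    2), (413, 10, 0), (536, 6, 1), (53, 16, 3), (330, 24, 13)]

/-- Deductions. -/
def steps9 : List (ℕ × ℕ × ℕ) :=
  [(306, 24, 18), (457, 18, 6), (311, 24, 5), (519, 24, 0), (619, 3, 1), (583, 18, 9), (671, 23, 1),
    (673, 18, 8), (694, 8, 0), (694, 7, 2), (639, 22, 3), (697, 21, 4), (682, 21, 4), (660, 5, 2),
    (619, 15, 2), (693, 17, 3), (693, 4, 0), (693, 22, 0), (383, 21, 1), (682, 5, 5), (648, 19, 1),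
    (682, 19, 10), (682, 4, 1), (682, 17, 2), (656, 18, 9), (649, 23, 0), (666, 17, 3), (666, 12, 0),
    (666, 3, 1), (626, 12, 1), (682, 6, 2), (504, 0, 1), (665, 11, 2), (504, 2, 1), (626, 8, 2), (515,
    20, 2), (700, 16, 2), (698, 17, 2), (545, 23, 0), (679, 17, 3), (685, 17, 2), (686, 17, 1), (698,
    6, 0), (698, 14, 0), (683, 18, 0), (700, 18, 5), (692, 12, 2), (590, 23, 2), (517, 6, 0), (678,
    23, 1), (686, 23, 2), (540, 14, 0), (673, 14, 0), (692, 18, 8), (679, 23, 5), (679, 10, 3), (693,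
    3, 0), (700, 10, 8), (700, 11, 2), (607, 10, 4), (540, 11, 1), (619, 18, 3), (538, 18, 4), (543,
    14, 3), (673, 6, 3), (673, 17, 1), (518, 11, 2), (481, 2, 0), (517, 11, 1), (609, 24, 24), (609,
    23, 4), (534, 18, 2), (546, 14, 3), (546, 0, 1), (546, 15, 1), (170, 21, 1), (543, 19, 0), (546,
    16, 3), (618, 10, 2), (661, 7, 4), (678, 8, 0), (684, 9, 0), (700, 22, 3), (683, 9, 0), (698, 22,
    4), (685, 18, 8), (680, 3, 1), (678, 16, 1), (605, 10, 4), (519, 11, 3), (519, 17, 1), (546, 6,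
    3), (548, 9, 3), (685, 12, 4), (686, 3, 0), (686, 12, 1), (521, 10, 0), (532, 6, 1), (640, 12, 4),
    (549, 10, 5), (686, 10, 2), (661, 10, 4), (547, 7, 0), (547, 9, 1), (531, 6, 1), (530, 19, 9),
    (547, 5, 0), (548, 0, 0), (548, 14, 0), (599, 16, 3), (599, 2, 0), (661, 16, 2), (686, 18, 3),
    (599, 3, 1), (548, 5, 3), (529, 21, 1), (45, 24, 5), (546, 24, 3), (544, 8, 0), (699, 5, 3), (692,
    9, 1), (683, 22, 3), (678, 22, 2), (632, 17, 0), (633, 24, 23), (480, 17, 1), (634, 9, 2), (542,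
    5, 1), (520, 1, 1), (541, 5, 1), (633, 9, 3), (633, 17, 0), (633, 19, 6), (574, 22, 2), (562, 17,
    0), (638, 15, 3), (638, 0, 0), (638, 23, 4), (562, 22, 5), (636, 9, 2), (560, 7, 0), (560, 1, 1),
    (173, 8, 3), (671, 12, 5), (671, 9, 1), (561, 22, 0), (637, 23, 5), (637, 0, 1), (637, 15, 2),
    (561, 17, 3), (561, 9, 1), (636, 12, 4), (499, 21, 1), (693, 8, 0), (694, 9, 3), (701, 17, 3),
    (701, 11, 2), (674, 2, 1), (696, 14, 3), (696, 0, 1), (696, 15, 1), (660, 6, 1), (658, 11, 2),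
    (693, 7, 4), (698, 8, 0), (698, 21, 4), (701, 21, 10), (701, 9, 2), (696, 21, 7), (691, 8, 3),
    (691, 3, 0), (696, 10, 2), (687, 14, 0), (687, 24, 19), (652, 7, 0), (652, 9, 2), (652, 5, 1),
    (655, 19, 9), (696, 8, 3), (696, 3, 0), (696, 12, 4), (694, 23, 1), (701, 12, 1), (660, 22, 1),
    (700, 19, 9), (700, 9, 1), (699, 17, 2), (649, 14, 2), (354, 2, 1), (700, 7, 4), (698, 5, 1),
    (699, 19, 10), (684, 22, 3), (690, 21, 10), (690, 1, 1), (695, 7, 5), (696, 11, 1), (694, 17, 2),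
    (691, 22, 1), (697, 7, 3), (690, 22, 5), (695, 11, 0), (701, 14, 1), (690, 19, 9), (696, 7, 2),
    (691, 5, 0), (695, 19, 9), (691, 7, 2), (688, 19, 4), (678, 19, 6), (692, 19, 5), (694, 15, 1),
    (694, 21, 7), (686, 19, 4), (701, 19, 7), (690, 6, 0), (696, 19, 3), (674, 21, 0), (691, 23, 3),
    (695, 18, 7), (655, 18, 8), (650, 12, 0), (696, 18, 8), (679, 18, 8), (701, 10, 3), (700, 23, 1),
    (700, 20, 16), (669, 10, 3), (658, 12, 2), (696, 23, 4), (701, 22, 3), (693, 21, 8), (691, 16, 0),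
    (696, 16, 1), (675, 10, 6), (649, 2, 0), (657, 7, 2), (682, 22, 4), (504, 23, 1), (700, 8, 2),
    (668, 21, 7), (677, 9, 2), (571, 21, 0), (668, 17, 3), (699, 12, 1), (673, 22, 1), (521, 22, 2),
    (542, 12, 5), (669, 11, 3), (669, 17, 2), (597, 19, 0), (637, 14, 2), (671, 7, 4), (672, 1, 0),
    (672, 7, 3), (602, 14, 3), (602, 23, 4), (597, 23, 5), (677, 5, 5), (671, 21, 1), (614, 8, 3),
    (689, 20, 18), (698, 20, 15), (665, 17, 2), (359, 17, 1), (699, 6, 2), (700, 5, 3), (649, 7, 0),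
    (692, 20, 21), (700, 21, 6), (679, 24, 3), (614, 5, 0), (614, 20, 17), (687, 11, 2), (701, 20, 4),
    (643, 23, 0), (695, 20, 14), (674, 18, 7), (687, 15, 0), (691, 18, 3), (687, 19, 1), (654, 24, 3),
    (442, 24, 14), (655, 7, 0), (701, 13, 19), (623, 20, 7), (615, 8, 1), (615, 3, 0), (523, 10, 0),
    (523, 0, 1), (217, 24, 5), (676, 14, 0), (676, 21, 1), (644, 1, 0), (644, 7, 1), (672, 16, 0),
    (671, 16, 1), (449, 24, 5), (400, 20, 3), (688, 20, 4)]

/-- Deductions. -/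
def steps10 : List (ℕ × ℕ × ℕ) :=
  [(668, 18, 6), (484, 17, 2), (643, 19, 5), (662, 14, 0), (662, 23, 4), (640, 22, 3), (455, 5, 1),
    (678, 24, 3), (657, 24, 15), (669, 12, 4), (666, 18, 4), (669, 22, 5), (675, 6, 2), (560, 0, 1),
    (516, 21, 2), (675, 11, 1), (667, 22, 4), (520, 24, 0), (618, 23, 4), (641, 22, 0), (642, 23, 0),
    (642, 22, 3), (618, 21, 4), (481, 7, 0), (546, 22, 2), (417, 20, 19), (453, 5, 4), (533, 24, 4),
    (618, 16, 2), (662, 17, 0), (662, 16, 2), (642, 17, 1), (422, 4, 1), (479, 11, 2), (546, 19, 4),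
    (653, 24, 24), (649, 24, 7), (384, 24, 11), (658, 6, 1), (657, 0, 1), (533, 19, 3), (447, 6, 1),
    (640, 17, 0), (640, 19, 5), (624, 17, 1), (420, 21, 7), (663, 8, 3), (663, 24, 24), (678, 18, 3),
    (699, 18, 4), (663, 17, 3), (663, 9, 2), (627, 22, 2), (663, 19, 5), (523, 21, 4), (620, 20, 15),
    (662, 24, 3), (677, 8, 1), (629, 10, 3), (667, 20, 6), (496, 2, 0), (650, 20, 8), (607, 20, 18),
    (551, 18, 7), (564, 19, 1), (651, 20, 19), (606, 20, 18), (568, 18, 7), (604, 21, 6), (466, 20,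
    16), (558, 24, 18), (698, 13, 27), (309, 18, 2), (609, 14, 2), (608, 21, 10), (609, 1, 0), (652,
    20, 13), (609, 19, 7), (634, 20, 22), (668, 5, 1), (667, 1, 1), (675, 7, 2), (671, 20, 21), (671,
    5, 3), (638, 8, 1), (601, 10, 4), (669, 7, 0), (675, 20, 7), (698, 24, 18), (540, 20, 14), (380,
    12, 3), (667, 9, 3), (667, 17, 2), (637, 19, 10), (667, 21, 5), (494, 17, 1), (637, 17, 2), (442,
    23, 3), (493, 8, 3), (516, 18, 5), (451, 23, 5), (636, 20, 12), (530, 22, 2), (466, 18, 0), (619,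
    8, 2), (540, 7, 3), (669, 20, 17), (668, 7, 4), (629, 20, 8), (595, 5, 4), (126, 0, 1), (255, 5,
    5), (633, 20, 1), (633, 23, 4), (444, 16, 0), (601, 23, 4), (596, 23, 5), (670, 5, 3), (638, 21,
    6), (602, 18, 1), (629, 21, 9), (676, 15, 1), (583, 5, 2), (688, 24, 21), (681, 5, 0), (693, 0,
    0), (693, 23, 4), (681, 22, 5), (693, 6, 2), (694, 5, 3), (681, 19, 0), (697, 14, 2), (692, 10,
    5), (681, 3, 1), (698, 10, 2), (700, 24, 15), (681, 9, 1), (629, 18, 0), (668, 20, 13), (697, 24,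
    11), (642, 24, 23), (420, 11, 1), (694, 24, 7), (682, 8, 2), (662, 19, 5), (701, 18, 6), (625, 11,
    0), (626, 14, 3), (627, 5, 5), (662, 20, 13), (680, 20, 3), (682, 18, 1), (625, 22, 3), (531, 24,
    22), (518, 9, 1), (408, 6, 1), (560, 12, 0), (453, 20, 14), (378, 18, 3), (482, 24, 0), (482, 3,
    0), (526, 23, 1), (526, 20, 3), (667, 24, 9), (505, 24, 1), (627, 18, 5), (493, 18, 5), (660, 13,
    7), (631, 17, 0), (663, 16, 3), (663, 7, 2), (526, 21, 4), (526, 24, 5), (661, 15, 2), (661, 17,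
    1), (663, 11, 0), (631, 7, 2), (476, 21, 1), (663, 5, 0), (663, 10, 7), (631, 3, 1), (631, 8, 2),
    (638, 20, 16), (602, 20, 3), (632, 20, 5), (601, 18, 8), (562, 24, 19), (629, 24, 1), (628, 17,
    3), (628, 6, 0), (693, 5, 4), (628, 20, 1), (648, 13, 16), (649, 22, 2), (429, 17, 2), (628, 15,
    1), (603, 19, 4), (666, 19, 7), (693, 24, 16), (631, 10, 4), (496, 20, 22), (542, 13, 8), (566,
    24, 24), (567, 19, 3), (567, 17, 2), (554, 19, 5), (378, 15, 3), (567, 5, 0), (567, 14, 0), (566,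
    14, 2), (666, 7, 4), (697, 19, 3), (681, 21, 4), (665, 8, 1), (644, 3, 0), (617, 10, 6), (613, 20,
    21), (227, 19, 10), (445, 12, 2), (632, 18, 4), (351, 17, 1), (227, 9, 0), (639, 5, 4), (610, 20,
    14), (279, 20, 2), (699, 13, 9), (608, 14, 1), (281, 15, 3), (186, 10, 0), (303, 19, 0), (554, 15,
    3), (554, 0, 0), (554, 6, 2), (567, 15, 2), (370, 19, 6), (611, 24, 1), (661, 19, 1), (631, 19,
    5), (522, 21, 4), (257, 19, 7), (627, 21, 9), (594, 5, 3), (98, 24, 2), (493, 10, 1), (194, 20,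
    1), (550, 24, 18), (373, 20, 13), (671, 13, 6), (601, 12, 5), (601, 17, 1), (516, 11, 2), (560,
    19, 3), (601, 15, 2), (597, 24, 0), (700, 13, 27), (628, 12, 4), (628, 13, 15), (599, 12, 3),
    (544, 20, 8), (624, 24, 3), (416, 1, 0), (358, 20, 13), (380, 20, 11), (638, 19, 8), (492, 16, 0),
    (492, 15, 3), (671, 19, 8), (537, 24, 15), (671, 17, 2), (636, 18, 4), (541, 24, 19), (677, 19,
    7), (368, 20, 8), (543, 24, 10), (419, 22, 2), (220, 17, 2), (401, 16, 1), (423, 24, 15), (171, 6,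
    2), (170, 19, 6), (451, 19, 0), (418, 19, 2), (251, 21, 3), (119, 10, 3), (130, 18, 8), (681, 13,
    6), (662, 18, 7), (701, 24, 10), (664, 8, 0), (665, 20, 23), (676, 23, 4), (672, 24, 22), (696,
    20, 5), (665, 13, 28), (549, 20, 5), (693, 18, 1), (693, 12, 2), (665, 18, 1), (665, 12, 3), (578,
    18, 3)]

/-- Deductions. -/
def steps11 : List (ℕ × ℕ × ℕ) :=
  [(680, 18, 6), (676, 17, 1), (630, 20, 16), (686, 24, 10), (635, 19, 6), (676, 24, 15), (677, 18,
    5), (677, 12, 2), (657, 20, 8), (670, 19, 0), (683, 20, 6), (682, 11, 2), (682, 24, 21), (699, 24,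
    22), (684, 24, 14), (664, 11, 0), (682, 7, 4), (693, 19, 5), (664, 23, 5), (664, 6, 2), (649, 15,
    0), (650, 24, 3), (507, 21, 7), (664, 20, 14), (645, 24, 3), (507, 5, 5), (571, 13, 23), (303, 24,
    24), (370, 22, 0), (616, 24, 8), (677, 21, 4), (655, 24, 13), (569, 7, 0), (636, 19, 6), (692, 13,
    5), (671, 11, 1), (681, 12, 2), (669, 13, 5), (672, 11, 3), (697, 18, 5), (542, 20, 1), (643, 24,
    15), (639, 20, 17), (666, 20, 12), (570, 5, 4), (499, 6, 3), (675, 17, 2), (681, 18, 3), (674, 20,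
    6), (666, 13, 28), (668, 24, 23), (526, 13, 27), (614, 22, 3), (694, 13, 27), (516, 24, 14), (615,
    20, 12), (598, 13, 12), (672, 22, 1), (640, 20, 13), (682, 20, 11), (314, 15, 2), (553, 18, 5),
    (644, 13, 29), (424, 20, 19), (565, 9, 1), (583, 22, 3), (601, 19, 9), (629, 19, 7), (501, 23, 1),
    (680, 24, 15), (670, 6, 2), (365, 20, 5), (100, 23, 2), (567, 21, 6), (520, 20, 11), (599, 5, 3),
    (369, 4, 1), (599, 13, 5), (492, 10, 0), (596, 19, 8), (492, 14, 0), (413, 18, 5), (563, 24, 2),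
    (646, 20, 8), (631, 21, 6), (659, 13, 12), (644, 24, 2), (576, 20, 23), (690, 20, 12), (673, 13,
    1), (673, 19, 7), (673, 5, 5), (690, 13, 27), (615, 12, 2), (646, 24, 10), (673, 24, 8), (611, 18,
    1), (523, 17, 1), (595, 9, 2), (610, 19, 2), (600, 2, 1), (627, 19, 1), (661, 21, 5), (600, 19,
    10), (650, 13, 18), (600, 3, 0), (647, 20, 8), (663, 21, 5), (600, 22, 0), (600, 24, 1), (567, 18,
    1), (379, 11, 1), (286, 24, 24), (290, 21, 10), (293, 19, 10), (591, 13, 6), (577, 20, 13), (581,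
    20, 18), (696, 13, 23), (577, 18, 4), (503, 17, 1), (679, 13, 16), (675, 24, 11), (379, 20, 22),
    (669, 24, 11), (163, 6, 0), (512, 24, 17), (566, 18, 9), (621, 20, 6), (631, 20, 15), (370, 11,
    2), (379, 10, 2), (680, 13, 15), (379, 6, 2), (503, 15, 2), (9, 24, 11), (226, 21, 10), (551, 21,
    8), (586, 20, 7), (564, 20, 15), (554, 24, 24), (644, 18, 1), (687, 20, 14), (661, 24, 15), (664,
    13, 25), (574, 20, 8), (683, 24, 11), (352, 21, 1), (572, 13, 12), (699, 22, 4), (359, 15, 3),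
    (211, 19, 10), (287, 20, 0), (552, 15, 3), (552, 0, 0), (552, 23, 0), (552, 20, 22), (612, 20, 7),
    (600, 10, 6), (663, 20, 15), (675, 13, 16), (552, 21, 8), (668, 13, 19), (369, 20, 18), (638, 13,
    23), (552, 22, 4), (566, 15, 1), (498, 10, 4), (498, 0, 1), (552, 6, 1), (596, 13, 31), (294, 22,
    4), (270, 24, 21), (314, 23, 4), (351, 24, 1), (124, 16, 1), (107, 24, 0), (232, 13, 13), (419,
    20, 1), (493, 24, 2), (492, 18, 4), (513, 16, 0), (513, 18, 8), (144, 10, 5), (491, 20, 0), (491,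
    21, 5), (508, 24, 9), (466, 24, 8), (263, 17, 1), (364, 22, 3), (513, 19, 1), (491, 24, 23), (411,
    18, 7), (513, 24, 23), (98, 21, 10), (513, 21, 1), (613, 24, 9), (107, 10, 3), (143, 8, 2), (511,
    24, 13), (199, 22, 1), (465, 24, 3), (118, 5, 2), (396, 24, 4), (200, 21, 3), (103, 13, 27), (439,
    20, 23), (269, 24, 21), (585, 10, 8), (644, 21, 9), (532, 20, 11)]

/-- The deductions. -/
def steps : List (ℕ × ℕ × ℕ) :=
  steps0 ++ steps1 ++ steps2 ++ steps3 ++ steps4 ++ steps5 ++ steps6 ++ steps7 ++ steps8 ++ steps9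
    ++ steps10 ++ steps11

/-- Tree edges. -/
def tree0 : List (ℕ × ℕ) :=
  [(0, 11), (1, 3), (1, 6), (5, 11), (5, 0), (5, 7), (7, 5), (7, 11), (7, 1), (7, 9), (7, 10), (2,
    11), (2, 9), (8, 11), (8, 8), (8, 7), (8, 10), (8, 0), (33, 1), (33, 8), (33, 11), (33, 10), (9,
    9), (9, 3), (160, 3), (160, 7), (160, 9), (32, 10), (32, 6), (32, 11), (32, 0), (94, 7), (94, 3),
    (20, 4), (20, 3), (20, 10), (20, 6), (95, 2), (95, 7), (145, 9), (145, 2), (145, 6), (6, 10), (93,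
    0), (93, 3), (93, 4), (93, 11), (93, 10), (93, 9), (10, 10), (10, 7), (11, 9), (11, 4), (11, 11),
    (11, 10), (57, 4), (57, 1), (57, 9), (57, 10), (57, 11), (137, 2), (137, 6), (243, 7), (243, 1),
    (243, 10), (243, 5), (243, 9), (243, 3), (12, 8), (12, 2), (12, 6), (460, 4), (460, 9), (460, 2),
    (460, 10), (460, 1), (216, 4), (216, 1), (216, 2), (216, 10), (216, 11), (216, 9), (92, 8), (92,
    6), (92, 2), (461, 7), (461, 9), (461, 3), (60, 11), (60, 7), (60, 3), (60, 10), (221, 2), (221,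
    7), (217, 1), (217, 2), (217, 4), (217, 6), (217, 8), (217, 10), (538, 11), (538, 8), (538, 0),
    (538, 4), (538, 10), (19, 10), (572, 5), (572, 11), (572, 2), (572, 8), (572, 1), (572, 10), (459,
    8), (459, 3), (260, 4), (260, 3), (260, 0), (260, 11), (31, 5), (31, 11), (31, 9), (31, 0), (31,
    10), (42, 7), (636, 7), (636, 2), (636, 8), (636, 10), (636, 1), (636, 4), (598, 8), (598, 2),
    (598, 7), (598, 10), (598, 11), (476, 5), (476, 1), (476, 10), (476, 8), (476, 11), (222, 8),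
    (191, 6), (191, 3), (191, 9), (202, 2), (581, 3), (581, 5), (581, 11), (581, 6), (65, 3), (65, 6),
    (65, 8), (85, 8), (85, 0), (85, 4), (85, 10), (85, 11), (30, 10), (30, 8), (30, 3), (30, 0), (30,
    11), (30, 7), (580, 6), (580, 2), (418, 9), (418, 3), (418, 6), (574, 5), (574, 1), (574, 6),
    (574, 11), (130, 5), (130, 7), (130, 11), (130, 10), (130, 0), (132, 7), (132, 3), (203, 8), (203,
    2), (13, 3), (86, 10), (86, 9), (176, 7), (176, 3), (67, 4), (67, 10), (67, 6), (67, 11), (457,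
    1), (457, 6), (457, 11), (147, 0), (147, 11), (147, 5), (419, 3), (419, 9), (192, 3), (192, 9),
    (192, 5), (192, 10), (192, 11), (21, 11), (21, 5), (21, 10), (579, 6), (579, 2), (579, 4), (579,
    11), (579, 10), (84, 7), (146, 9), (146, 1), (146, 5), (146, 11), (146, 10), (578, 6), (578, 2),
    (68, 7), (68, 11), (68, 1), (196, 11), (196, 6), (196, 0), (196, 4), (196, 10), (134, 5), (134,
    11), (134, 9), (134, 0), (134, 6), (96, 1), (96, 4), (96, 11), (96, 10), (634, 3), (634, 7), (41,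
    5), (41, 10), (41, 11), (41, 9), (573, 2), (573, 6), (40, 8), (40, 3), (550, 9), (550, 1), (550,
    5), (550, 11), (550, 10), (91, 0), (91, 10), (91, 7), (91, 11), (380, 7), (380, 3), (135, 9),
    (135, 3), (135, 7), (249, 7), (175, 7), (175, 4), (175, 10), (175, 0), (175, 11), (74, 2), (74,
    7), (74, 9), (590, 7), (225, 11), (225, 10), (225, 6), (225, 3), (225, 0), (44, 2), (502, 3),
    (502, 10), (502, 7), (502, 5), (271, 8), (271, 10), (271, 1), (271, 4), (271, 11), (575, 7), (250,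
    3), (250, 10), (250, 0), (54, 6), (54, 8), (54, 10), (54, 11), (638, 5), (638, 3), (638, 9), (638,
    7), (638, 11), (587, 10), (587, 5)]

/-- Tree edges. -/
def tree1 : List (ℕ × ℕ) :=
  [(587, 11), (64, 1), (64, 8), (64, 5), (64, 10), (64, 11), (541, 6), (541, 2), (622, 6), (622, 4),
    (622, 3), (622, 0), (622, 11), (138, 9), (138, 10), (138, 11), (138, 0), (269, 4), (269, 10),
    (218, 9), (151, 0), (151, 10), (151, 8), (151, 4), (645, 6), (645, 0), (645, 5), (645, 10), (403,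
    5), (403, 11), (403, 0), (403, 10), (101, 0), (101, 10), (101, 5), (101, 9), (633, 7), (633, 1),
    (633, 5), (633, 10), (381, 3), (381, 8), (381, 1), (381, 10), (381, 4), (381, 11), (153, 3), (165,
    11), (165, 5), (235, 10), (235, 11), (235, 0), (259, 10), (259, 1), (259, 11), (259, 5), (671, 2),
    (671, 10), (671, 0), (671, 5), (671, 11), (108, 6), (63, 8), (63, 11), (63, 1), (480, 7), (480,
    4), (480, 10), (480, 0), (25, 6), (25, 2), (25, 9), (90, 0), (90, 10), (17, 11), (111, 2), (111,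
    10), (111, 11), (111, 9), (111, 5), (311, 9), (311, 3), (311, 4), (311, 1), (311, 11), (378, 9),
    (378, 2), (449, 6), (292, 0), (292, 3), (292, 5), (292, 6), (312, 8), (355, 8), (355, 0), (355,
    10), (355, 5), (355, 11), (55, 11), (55, 10), (55, 0), (55, 7), (345, 1), (345, 11), (345, 5),
    (555, 2), (302, 11), (302, 6), (302, 3), (448, 8), (448, 10), (448, 4), (448, 11), (206, 8), (206,
    3), (206, 4), (206, 11), (206, 0), (409, 6), (409, 11), (409, 8), (409, 4), (409, 10), (261, 11),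
    (261, 10), (323, 0), (323, 6), (323, 3), (323, 11), (500, 8), (500, 6), (136, 7), (136, 1), (136,
    2), (136, 10), (177, 5), (177, 2), (177, 11), (542, 5), (542, 0), (542, 10), (542, 7), (440, 6),
    (112, 6), (112, 2), (501, 7), (477, 7), (477, 3), (194, 9), (3, 3), (150, 5), (150, 0), (150, 10),
    (166, 7), (428, 6), (429, 3), (429, 7), (429, 0), (429, 9), (431, 2), (505, 1), (289, 10), (289,
    8), (289, 3), (289, 5), (234, 10), (180, 9), (180, 3), (180, 7), (516, 11), (516, 8), (516, 7),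
    (516, 10), (190, 2), (370, 7), (370, 4), (509, 2), (201, 0), (201, 5), (201, 10), (450, 2), (450,
    9), (313, 2), (313, 6), (313, 8), (585, 6), (200, 11), (200, 10), (128, 3), (128, 1), (128, 11),
    (115, 5), (115, 9), (115, 11), (362, 2), (582, 6), (582, 1), (582, 11), (152, 3), (152, 4), (152,
    10), (632, 5), (632, 10), (288, 10), (288, 11), (295, 8), (295, 3), (565, 3), (565, 7), (667, 7),
    (484, 7), (484, 10), (484, 1), (484, 11), (564, 8), (564, 10), (564, 11), (564, 1), (514, 3),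
    (187, 7), (412, 2), (87, 7), (286, 1), (286, 9), (286, 3), (286, 11), (556, 9), (334, 3), (334,
    9), (367, 2), (395, 4), (395, 2), (100, 7), (100, 2), (326, 8), (326, 11), (326, 10), (205, 3),
    (478, 2), (371, 2), (628, 2), (628, 10), (493, 2), (167, 4), (167, 1), (167, 10), (171, 2), (171,
    10), (171, 5), (171, 8), (171, 1), (535, 10), (535, 11), (535, 8), (535, 1), (142, 7), (159, 5),
    (159, 10), (472, 3), (618, 0), (618, 10), (618, 8), (618, 11), (606, 0), (606, 3), (606, 4), (606,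
    7), (606, 10), (236, 2), (236, 1), (102, 2), (275, 1), (275, 5), (275, 11), (15, 10), (15, 8),
    (595, 3), (317, 2), (197, 3), (430, 11), (430, 7), (430, 4), (692, 4), (692, 8), (692, 0), (692,
    10), (692, 11), (536, 8), (536, 11), (536, 0), (265, 5), (382, 1), (382, 10), (382, 11), (382, 5),
    (507, 7), (305, 7), (305, 2), (305, 11), (648, 1)]

/-- Tree edges. -/
def tree2 : List (ℕ × ℕ) :=
  [(648, 8), (648, 10), (648, 11), (433, 10), (453, 9), (453, 5), (453, 11), (453, 10), (605, 7),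
    (297, 2), (162, 6), (162, 5), (330, 2), (37, 0), (37, 4), (88, 11), (276, 6), (376, 9), (376, 4),
    (376, 10), (376, 0), (682, 11), (682, 1), (398, 5), (670, 5), (420, 5), (420, 10), (675, 9), (675,
    6), (308, 10), (308, 0), (36, 0), (148, 3), (24, 2), (389, 2), (124, 0), (124, 11), (170, 8),
    (170, 6), (471, 2), (521, 2), (521, 5), (521, 11), (220, 9), (294, 1), (294, 4), (294, 10), (399,
    7), (399, 2), (47, 11), (495, 0), (495, 10), (495, 11), (665, 8), (76, 6), (391, 1), (391, 5),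
    (127, 2), (549, 0), (549, 5), (549, 10), (421, 7), (607, 3), (639, 8), (309, 1), (654, 10), (654,
    0), (654, 7), (651, 7), (497, 8), (383, 9), (383, 3), (532, 5), (532, 11), (544, 11), (544, 10),
    (372, 10), (517, 10), (181, 11), (181, 10), (248, 7), (680, 0), (70, 11), (679, 10), (679, 11),
    (700, 2), (333, 10), (333, 9), (333, 11), (678, 6), (694, 11), (694, 10), (169, 1), (105, 1),
    (658, 11), (658, 10), (75, 11), (465, 6), (696, 4), (394, 3), (608, 0)]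

/-- The tree. -/
def tree : List (ℕ × ℕ) :=
  tree0 ++ tree1 ++ tree2

/-- The combinations. -/
def combs : List (List (ℕ × ℕ × ℤ)) :=
  [[(14, 2, 199), (16, 0, 41), (4, 1, (-1886591)), (7, 4, 15561), (5, 2, (-1026970)), (1, 3,
    2053940), (1, 0, 3080910)], [(4, 1, 3), (7, 4, (-1)), (5, 2, 1), (1, 3, (-2)), (1, 0, (-3))], [(7,
    4, (-1))], [(5, 2, (-1)), (4, 1, (-2)), (1, 3, 2), (1, 0, 3)]]

/-- The certificate. -/
def lin : Lin where
  n := 702
  ng := 12
  tbl i g := ((tblData.getD (i / 27) []).getD (i % 27) []).getD g 702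
  form i g := ((formData.getD (i / 27) []).getD (i % 27) []).getD g []
  rep i := (repData.getD (i / 27) []).getD (i % 27) []
  rels := rels
  subs := subs

end CfsgLib.ThMult.G
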