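import Cfsg.Agent.Lib.ThMult.Lin

/-!
# A coset certificate for [u, f] (generated)
-/

set_option autoImplicit false
set_option maxRecDepth 100000
set_option linter.style.longLine false

namespace CfsgLib.ThMult.L

/-- The table, a part. -/
def tblData0 : List (List ℕ) :=
  [[0, 0, 0, 0, 0, 0, 0, 0, 1, 1, 0, 0], [1, 1, 1, 1, 1, 1, 2, 4, 0, 0, 1, 1], [2, 2, 2, 2, 2, 2, 3,
    1, 4, 4, 2, 2], [3, 3, 3, 3, 3, 3, 12, 2, 11, 11, 3, 3], [4, 4, 4, 4, 4, 4, 1, 5, 2, 2, 4, 4], [5,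
    5, 5, 5, 5, 5, 4, 13, 6, 6, 5, 5], [6, 6, 6, 6, 6, 6, 7, 11, 5, 5, 6, 6], [7, 7, 7, 7, 7, 7, 14,
    6, 8, 8, 7, 7], [8, 8, 8, 8, 8, 8, 15, 9, 7, 7, 8, 8], [9, 9, 9, 9, 9, 9, 8, 18, 10, 10, 9, 9],
    [10, 10, 10, 10, 10, 10, 11, 22, 9, 9, 10, 10], [11, 11, 11, 11, 11, 11, 6, 10, 3, 3, 11, 11],
    [12, 12, 12, 12, 12, 12, 13, 3, 18, 18, 12, 12], [13, 13, 13, 13, 13, 13, 5, 12, 15, 15, 13, 13],
    [14, 14, 14, 14, 14, 14, 21, 7, 22, 22, 14, 14], [15, 15, 15, 15, 15, 15, 16, 8, 13, 13, 15, 15],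
    [16, 16, 16, 16, 16, 16, 17, 15, 19, 19, 16, 16], [17, 17, 17, 17, 17, 17, 19, 16, 20, 20, 17,
    17], [18, 18, 18, 18, 18, 18, 9, 19, 12, 12, 18, 18], [19, 19, 19, 19, 19, 19, 18, 17, 16, 16, 19,
    19], [20, 20, 20, 20, 20, 20, 20, 20, 17, 17, 20, 20], [21, 21, 21, 21, 21, 21, 22, 14, 23, 23,
    21, 21], [22, 22, 22, 22, 22, 22, 10, 21, 14, 14, 22, 22], [23, 23, 23, 23, 23, 23, 23, 23, 21,
    21, 23, 23]]

/-- The table. -/
def tblData : List (List (List ℕ)) :=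
  [tblData0]

/-- The values, a part. -/
def formData0 : List (List (List ℤ)) :=
  [[[(-4)], [4], [], [], [], [], [], [], [], [4], [], []], [[(-4)], [4], [], [], [], [], [], [],
    [(-4)], [], [1], [(-1)]], [[(-4)], [4], [], [], [(-1)], [1], [], [], [], [6], [1], [(-1)]],
    [[(-4)], [4], [], [], [], [], [], [], [], [4], [1], [(-1)]], [[(-4)], [4], [(-2)], [2], [(-1)],
    [1], [], [], [(-6)], [], [1], [(-1)]], [[(-4)], [4], [(-2)], [2], [1], [(-1)], [], [], [], [6],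
    [1], [(-1)]], [[(-4)], [4], [(-2)], [2], [1], [(-1)], [], [(-6)], [(-6)], [], [3], [(-3)]],
    [[(-4)], [4], [(-2)], [2], [(-1)], [1], [], [], [], [6], [3], [(-3)]], [[(-4)], [4], [(-2)], [2],
    [(-1)], [1], [], [(-16)], [(-6)], [], [3], [(-3)]], [[(-4)], [4], [], [], [(-1)], [1], [16], [],
    [], [4], [2], [(-2)]], [[(-4)], [4], [], [], [(-1)], [1], [], [], [(-4)], [], [2], [(-2)]],
    [[(-4)], [4], [], [], [], [], [6], [], [(-4)], [], [2], [(-2)]], [[(-4)], [4], [], [], [], [], [],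
    [], [], [(-12)], [1], [(-1)]], [[(-4)], [4], [(-2)], [2], [1], [(-1)], [], [], [], [6], [1],
    [(-1)]], [[(-4)], [4], [(-2)], [2], [], [], [(-6)], [], [(-12)], [(-8)], [3], [(-3)]], [[(-4)],
    [4], [(-2)], [2], [1], [(-1)], [], [], [(-6)], [], [3], [(-3)]], [[(-4)], [4], [(-2)], [2], [],
    [], [(-16)], [], [(-16)], [], [3], [(-3)]], [[(-10)], [10], [(-2)], [2], [1], [(-1)], [], [16],
    [], [12], [2], [(-2)]], [[(-4)], [4], [], [], [], [], [], [], [12], [], [2], [(-2)]], [[(-10)],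
    [10], [(-6)], [6], [], [], [], [], [], [16], [2], [(-2)]], [[(-10)], [10], [(-2)], [2], [1],
    [(-1)], [(-18)], [18], [(-12)], [], [4], [(-4)]], [[(-4)], [4], [], [], [(-1)], [1], [], [6], [],
    [4], [2], [(-2)]], [[(-4)], [4], [], [], [(-2)], [2], [], [], [8], [12], [2], [(-2)]], [[(-4)],
    [4], [], [], [(-1)], [1], [(-2)], [2], [(-4)], [], [2], [(-2)]]]

/-- The values. -/
def formData : List (List (List (List ℤ))) :=
  [formData0]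

/-- The words of the cosets, a part. -/
def repData0 : List (List ℕ) :=
  [[], [8], [8, 6], [8, 6, 6], [8, 7], [8, 7, 7], [8, 7, 7, 8], [8, 7, 7, 8, 6], [8, 7, 7, 7, 8, 7],
    [8, 6, 6, 6, 8, 6], [8, 6, 6, 8, 7], [8, 6, 6, 8], [8, 6, 6, 6], [8, 7, 7, 7], [8, 7, 7, 8, 6, 6],
    [8, 7, 7, 7, 8], [8, 7, 7, 7, 8, 6], [8, 6, 6, 6, 8, 7, 7], [8, 6, 6, 6, 8], [8, 6, 6, 6, 8, 7],
    [8, 6, 6, 6, 8, 7, 7, 8], [8, 6, 6, 8, 7, 7, 7], [8, 6, 6, 8, 7, 7], [8, 6, 6, 8, 7, 7, 7, 8]]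

/-- The words of the cosets. -/
def repData : List (List (List ℕ)) :=
  [repData0]

/-- The relators. -/
def rels : List (List ℕ × List ℤ) :=
  [([0, 0], []), ([2, 2], []), ([4, 4], []), ([10, 10], []), ([1, 3, 0, 2], []), ([1, 5, 0, 4], []),
    ([3, 5, 2, 4], []), ([6, 6, 6, 6, 6, 6, 6], []), ([7, 1, 6, 0], []), ([7, 3, 6, 2], []), ([5, 7,
    4, 6, 7, 7, 7, 5, 6, 6, 6], []), ([10, 0, 10, 3], []), ([11, 5, 10, 4], []), ([11, 7, 10, 6], []),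
    ([8, 8, 3, 1], []), ([9, 1, 8, 0], []), ([9, 3, 8, 2], []), ([9, 5, 8, 4], []), ([5, 7, 7, 9, 6,
    6, 4, 7, 7, 8, 6, 6], []), ([0, 2, 7, 9, 7, 9, 7, 9], []), ([0, 2, 7, 9, 6, 8, 7, 9, 6, 8, 7, 9,
    6, 8, 7, 9, 6, 8], []), ([9, 11, 8, 10, 5], [1])]

/-- The words of the subgroup. -/
def subs : List (List ℕ × List ℤ) :=
  [([0], []), ([2], []), ([4], []), ([6], []), ([10], [])]

/-- The global words of the letters. -/
def subData : List (List ℕ) :=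
  [[0], [1], [4], [5], [8], [9], [10], [11], [14], [15], [3, 0, 4, 2], [3, 5, 1, 2]]

/-- Deductions. -/
def steps0 : List (ℕ × ℕ × ℕ) :=
  [(13, 7, 6), (0, 26, 0), (0, 25, 0), (0, 24, 0), (3, 18, 0), (11, 17, 3), (1, 17, 3), (14, 18, 0),
    (12, 10, 0), (18, 17, 3), (1, 21, 3), (2, 13, 0), (3, 13, 0), (12, 13, 0), (18, 21, 3), (18, 13,
    2), (19, 13, 2), (9, 13, 0), (13, 13, 0), (5, 13, 0), (4, 13, 0), (11, 21, 3), (11, 13, 2), (10,
    13, 2), (22, 13, 2), (0, 23, 0), (1, 16, 3), (2, 9, 3), (3, 9, 3), (12, 9, 3), (18, 16, 3), (18,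
    11, 1), (18, 15, 1), (13, 8, 3), (15, 15, 3), (16, 8, 3), (15, 8, 1), (13, 11, 3), (15, 16, 3),
    (16, 9, 3), (15, 14, 0), (15, 19, 3), (8, 15, 1), (14, 8, 3), (7, 19, 1), (14, 9, 3), (8, 16, 3),
    (8, 14, 0), (7, 9, 1), (6, 16, 1), (5, 19, 0), (6, 15, 3), (6, 14, 0), (4, 8, 3), (4, 11, 3), (1,
    8, 3), (2, 8, 3), (3, 8, 3), (11, 15, 3), (11, 11, 3), (11, 14, 0), (12, 19, 5), (10, 21, 4), (11,
    10, 7), (23, 17, 3), (23, 21, 3), (10, 17, 1), (9, 10, 7), (20, 17, 3), (20, 21, 3), (11, 9, 1),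
    (10, 16, 1), (9, 19, 0), (10, 15, 3), (10, 14, 0), (10, 8, 1), (22, 11, 3), (22, 9, 1), (23, 16,
    3), (23, 11, 1), (23, 15, 1), (21, 14, 1), (1, 15, 1), (0, 14, 1), (2, 19, 7), (4, 21, 4), (4, 17,
    1), (13, 10, 0), (15, 17, 3), (15, 21, 3), (16, 13, 0), (15, 13, 2), (5, 10, 0), (6, 17, 3), (6,
    21, 3), (7, 13, 0), (14, 13, 0), (8, 21, 4), (8, 17, 1), (4, 14, 0), (11, 20, 4), (19, 7, 5), (19,
    10, 0), (18, 10, 7), (17, 9, 3), (20, 16, 3), (20, 11, 1), (20, 15, 1), (19, 8, 3), (19, 11, 3),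
    (17, 14, 1), (14, 19, 7), (22, 21, 4), (22, 14, 0), (6, 19, 2), (22, 7, 5), (23, 19, 2), (23, 20,
    11), (18, 19, 3), (19, 14, 0), (20, 20, 2)]

/-- The deductions. -/
def steps : List (ℕ × ℕ × ℕ) :=
  steps0

/-- Tree edges. -/
def tree0 : List (ℕ × ℕ) :=
  [(0, 8), (1, 6), (1, 7), (2, 6), (4, 7), (3, 6), (3, 8), (5, 7), (5, 8), (12, 8), (11, 7), (13,
    8), (6, 6), (18, 6), (18, 7), (10, 7), (15, 6), (15, 7), (7, 6), (19, 7), (22, 7), (17, 8), (21,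
    8)]

/-- The tree. -/
def tree : List (ℕ × ℕ) :=
  tree0

/-- The combinations. -/
def combs : List (List (ℕ × ℕ × ℤ)) :=
  [[(6, 13, (-1))]]

/-- The certificate. -/
def lin : Lin where
  n := 24
  ng := 12
  tbl i g := ((tblData.getD (i / 27) []).getD (i % 27) []).getD g 24
  form i g := ((formData.getD (i / 27) []).getD (i % 27) []).getD g []
  rep i := (repData.getD (i / 27) []).getD (i % 27) []
  rels := rels
  subs := subs

end CfsgLib.ThMult.L
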