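import Cfsg.Agent.Lib.ThMult.Base
import Cfsg.Agent.Lib.ThIndex.HBound
import Mathlib.Tactic.Group

/-!
# Lifts of t and u

The lifts satisfy the relators of ³D₄(2):3, t^u = t⁻¹, [u, e] = 1 and u² = (us)³.
-/

set_option autoImplicit false
set_option maxRecDepth 100000

namespace CfsgLib.ThMult

open CfsgLib.OrbitEnum CfsgLib.ThIndex Subgroup
open scoped IsMulCommutative

/-- The letters of eight elements and their inverses. -/
def el8 {G : Type} [Group G] (a b c d e s t u : G) (g : ℕ) : G :=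
  [a, a⁻¹, b, b⁻¹, c, c⁻¹, d, d⁻¹, e, e⁻¹, s, s⁻¹, t, t⁻¹, u, u⁻¹].getD g 1

/-- The relators made exact by the lifts. -/
def liftRels : List (List ℕ) :=
  H.relsH ++ [[15, 12, 14, 12], [15, 9, 14, 8], [14, 14, 11, 15, 11, 15, 11, 15]]

/-- The word of f. -/
def fWord : List ℕ := [3, 0, 4, 2]

/-- The facts used to make them exact. -/
def factWords : List (List ℕ) :=
  liftRels ++ [[15] ++ invW fWord ++ [14] ++ fWord ++ [9], [14, 14, 5, 1]]

theorem f_checks : (U.setting.same ([8] ++ fWord) (fWord ++ [8]) &&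
    U.setting.same ([0, 4] ++ fWord) (fWord ++ [0, 4]) && U.setting.same (fWord ++ fWord) []) = true := by
  decide +kernel

variable {E T : Type} [Group E] [Group T] {σ : E →* T} (hZ : σ.ker ≤ center E)
include hZ

/-- A lift of an element of order dividing three commuting with an involution lift. -/
theorem com_three {t A : E} (ht : σ (t ^ 3) = 1) (hA : A * A = 1) (c : Commute (σ t) (σ A)) :
    com t A = 1 := by
  have h2 := com_sq hZ c hA
  have h3 : com t A ^ 3 = 1 := by
    have e : A⁻¹ * t * A = t * com t A := by simp only [com]; group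
    have e3 : A⁻¹ * t ^ 3 * A = t ^ 3 * com t A ^ 3 := by
      rw [← mul_pow_cen hZ (com_cen c), ← e]
      simp only [pow_succ, pow_zero, one_mul]; group
    rw [conj_cen hZ ht] at e3
    exact mul_eq_left.1 e3.symm
  calc com t A = com t A ^ 3 * (com t A * com t A)⁻¹ := by
        simp only [pow_succ, pow_zero, one_mul]; group
    _ = 1 := by rw [h3, h2]; simp

/-- The conjugate of the element of order seven by t. -/
theorem t_seven {t S D : E} (hS : S ^ 7 = 1) (hD : D * D = 1) (hSD : (S * D) ^ 2 = 1)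
    (hTD : com t D = 1) (h : σ (t⁻¹ * S * t * (S⁻¹ * S⁻¹)) = 1) :
    t⁻¹ * S * t * (S⁻¹ * S⁻¹) = 1 := by
  set η := t⁻¹ * S * t * (S⁻¹ * S⁻¹) with hη
  have e : t⁻¹ * S * t = S ^ 2 * η := by
    rw [pow_two, ← (cen hZ h _).eq, hη]; group
  have DSD : D * S * D⁻¹ = S⁻¹ := by
    rw [inv_eq_of_mul_eq_one_right hD]
    calc D * S * D = S⁻¹ * (S * D) ^ 2 := by simp only [pow_succ, pow_zero, one_mul]; group
      _ = S⁻¹ := by rw [hSD, mul_one]
  have Dt : D * t⁻¹ = t⁻¹ * D := by
    calc D * t⁻¹ = t⁻¹ * (t * D) * t⁻¹ := by group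
      _ = t⁻¹ * (D * t) * t⁻¹ := by rw [mul_eq_of_com hTD]
      _ = t⁻¹ * D := by group
  have e2 : t⁻¹ * S⁻¹ * t = (S⁻¹) ^ 2 * η := by
    have := congrArg (fun x => D * x * D⁻¹) e
    calc t⁻¹ * S⁻¹ * t = t⁻¹ * D * S * (D⁻¹ * t) := by rw [← DSD]; group
      _ = D * t⁻¹ * S * (t * D⁻¹) := by
        rw [Dt, show D⁻¹ * t = t * D⁻¹ from by
          calc D⁻¹ * t = D⁻¹ * (t * D) * D⁻¹ := by group
            _ = D⁻¹ * (D * t) * D⁻¹ := by rw [mul_eq_of_com hTD]
            _ = t * D⁻¹ := by group]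
      _ = D * (S ^ 2 * η) * D⁻¹ := by rw [← e]; group
      _ = D * S * D⁻¹ * (D * S * D⁻¹) * η := by
        rw [← mul_assoc D (S ^ 2) η, mul_assoc (D * S ^ 2) η D⁻¹, (cen hZ h D⁻¹).eq, pow_two]; group
      _ = (S⁻¹) ^ 2 * η := by rw [DSD, pow_two]
  have η2 : η * η = 1 := by
    have h1 : (S ^ 2 * η) * ((S⁻¹) ^ 2 * η) = 1 := by rw [← e, ← e2]; group
    rw [mul_mul_cen hZ h, inv_pow, mul_inv_cancel, one_mul] at h1
    exact h1
  have η7 : η ^ 7 = 1 := by
    have h1 : (t⁻¹ * S * t) ^ 7 = t⁻¹ * S ^ 7 * t := by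
      simp only [pow_succ, pow_zero, one_mul]; group
    rw [e, mul_pow_cen hZ h, hS, mul_one, inv_mul_cancel, ← pow_mul, Nat.mul_comm 2 7, pow_mul, hS,
      one_pow, one_mul] at h1
    exact h1
  calc η = η ^ 7 * ((η * η) ^ 3)⁻¹ := by simp only [pow_succ, pow_zero, one_mul]; group
    _ = 1 := by rw [η7, η2]; simp

/-- The lift of u, and the lift of t inverted by it. -/
theorem exists_tu {S T0 U0 : E} (ht : σ (T0 ^ 3) = 1) (htu : σ (U0⁻¹ * T0 * U0 * T0) = 1)
    (hu : σ (U0 * U0 * ((U0 * S) ^ 3)⁻¹) = 1) :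
    ∃ k l : E, σ k = 1 ∧ σ l = 1 ∧ (T0 * k) ^ 3 = 1 ∧
      (U0 * l)⁻¹ * (T0 * k) * (U0 * l) * (T0 * k) = 1 ∧ U0 * l * (U0 * l) = (U0 * l * S) ^ 3 := by
  set γ := U0⁻¹ * T0 * U0 * T0 with hγ
  set τ := T0 ^ 3 with hτ
  have e : U0⁻¹ * T0 * U0 = T0⁻¹ * γ := by rw [← (cen hZ htu T0⁻¹).eq, hγ]; group
  have e3 : τ = τ⁻¹ * γ ^ 3 := by
    calc τ = U0⁻¹ * τ * U0 := (conj_cen hZ ht U0).symm
      _ = (U0⁻¹ * T0 * U0) ^ 3 := by rw [hτ]; simp only [pow_succ, pow_zero, one_mul]; group
      _ = τ⁻¹ * γ ^ 3 := by rw [e, mul_pow_cen hZ htu, inv_pow]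
  have key : γ ^ 3 = τ * τ := by
    calc γ ^ 3 = τ * (τ⁻¹ * γ ^ 3) := by group
      _ = τ * τ := by rw [← e3]
  have cτ : Commute γ τ⁻¹ := (cen hZ htu _)
  set k := γ * τ⁻¹ with hk
  have hk1 : σ k = 1 := by rw [hk, map_mul, map_inv, htu, ht]; simp
  set l := U0 * U0 * ((U0 * S) ^ 3)⁻¹ with hl
  have k1 : τ * k ^ 3 = 1 := by
    rw [hk, cτ.mul_pow, key]; simp only [pow_succ, pow_zero, one_mul]; group
  refine ⟨k, l, hk1, hu, ?_, ?_, ?_⟩
  · rw [mul_pow_cen hZ hk1, ← hτ, k1]
  · calc (U0 * l)⁻¹ * (T0 * k) * (U0 * l) * (T0 * k)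
        = l⁻¹ * (U0⁻¹ * T0 * (k * U0)) * l * (T0 * k) := by group
      _ = U0⁻¹ * T0 * (k * U0) * (T0 * k) := by rw [conj_cen' hZ hu]
      _ = U0⁻¹ * T0 * U0 * (k * T0) * k := by rw [(cen hZ hk1 U0).eq]; group
      _ = γ * (k * k) := by rw [(cen hZ hk1 T0).eq, hγ]; group
      _ = γ * (γ * γ * (τ⁻¹ * τ⁻¹)) := by
        rw [← mul_mul_cen hZ (k := τ⁻¹) (by rw [map_inv, ht, inv_one]) γ γ]
      _ = γ ^ 3 * (τ * τ)⁻¹ := by simp only [pow_succ, pow_zero, one_mul]; group
      _ = 1 := by rw [key, mul_inv_cancel]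
  · rw [mul_mul_cen hZ hu, show U0 * l * S = U0 * S * l from by
        rw [mul_assoc, (cen hZ hu S).eq, mul_assoc], mul_pow_cen hZ hu]
    calc U0 * U0 * (l * l) = l * ((U0 * S) ^ 3) * (l * l) := by rw [hl]; group
      _ = (U0 * S) ^ 3 * l * (l * l) := by rw [(cen hZ hu ((U0 * S) ^ 3)).eq]
      _ = (U0 * S) ^ 3 * l ^ 3 := by simp only [pow_succ, pow_zero, one_mul]; group
where
  conj_cen' (hZ : σ.ker ≤ center E) {z : E} (h : σ z = 1) {g : E} : z⁻¹ * g * z = g := by
    rw [mul_assoc, ← (cen hZ h g).eq, inv_mul_cancel_left]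

/-- The commutator of the lift of u with e. -/
theorem com_ue {U F X Z : E} (hF : F * F = 1) (hX : X * X = 1) (hXF : X * F = F * X)
    (hZF : Z * F = F * Z) (hUU : σ (Z⁻¹ * (U * U)) = 1) (hUF : σ (com U F * X⁻¹) = 1)
    (hUX : Commute (σ U) (σ X)) : com U X = 1 := by
  set ε := com U F * X⁻¹ with hε
  have cε : ∀ v, Commute ε v := cen hZ hUF
  have eUF : com U F = X * ε := by rw [← (cε X).eq, hε]; group
  have hβ := com_cen (σ := σ) hUX.symm
  have ε2 : ε * ε = 1 := by
    have e1 : com U (F * F) = com U F * (F⁻¹ * com U F * F) := by simp only [com]; group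
    rw [hF, show com U (1 : E) = 1 from by simp [com], eUF] at e1
    have e2 : F⁻¹ * (X * ε) * F = X * ε := by
      rw [mul_assoc F⁻¹, mul_assoc X, (cε F).eq, ← mul_assoc X, hXF]; group
    rw [e2, mul_mul_cen hZ hUF, hX, one_mul] at e1
    exact e1.symm
  have e4 : com (U * U) F = 1 := by
    rw [show U * U = Z * (Z⁻¹ * (U * U)) from by group, com_central_left hZ hUU]
    exact com_of_mul_eq hZF
  rw [show com (U * U) F = U⁻¹ * com U F * U * com U F from by simp only [com]; group, eUF,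
    show U⁻¹ * (X * ε) * U = X * com X U * ε from by
      rw [mul_assoc U⁻¹, mul_assoc X ε, (cε U).eq]; simp only [com]
      rw [show X * (X⁻¹ * U⁻¹ * X * U) = U⁻¹ * X * U from by group]; group,
    mul_mul_cen hZ hUF, ε2, mul_one, mul_assoc, (cen hZ hβ X).eq, ← mul_assoc, hX, one_mul] at e4
  rw [com_inv_swap X U, e4, inv_one]

set_option maxHeartbeats 1000000 in
/-- The lifts. -/
theorem exists_lifts (hσ : Function.Surjective σ) {a b c d e s t u : T}
    (hfact : ∀ w ∈ factWords, wEval (el8 a b c d e s t u) w = 1) :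
    ∃ A B C D X S T' U' : E, (∀ g < 16, σ (el8 A B C D X S T' U' g) = el8 a b c d e s t u g) ∧
      ∀ w ∈ liftRels, wEval (el8 A B C D X S T' U') w = 1 := by
  have hlow : ∀ {G : Type} [Group G] (a b c d e s t u : G) (w : List ℕ), ltW 12 w = true →
      wEval (el8 a b c d e s t u) w = wEval (el6 a b c d e s) w := fun a b c d e s t u w hw =>
    wEval_congr _ hw fun g hg => by interval_cases g <;> rfl
  have hbase12 : baseRels.all (ltW 12) = true := by decide
  obtain ⟨A, B, C, D, X, S, σA, σB, σC, σD, σX, σS, hb⟩ := exists_base hZ hσ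
    (a := a) (b := b) (c := c) (d := d) (e := e) (s := s) (fun w hw => by
      rw [← hlow a b c d e s t u w (List.all_eq_true.1 hbase12 w hw)]
      exact hfact w (List.mem_append_left _ (List.mem_append_left _ (List.mem_append_left _ hw))))
  obtain ⟨T0, σT0⟩ := hσ t
  obtain ⟨U0, σU0⟩ := hσ u
  have f3 : ∀ w ∈ H.rels3 ++ [[15, 12, 14, 12], [15, 9, 14, 8], [14, 14, 11, 15, 11, 15, 11, 15],
      [15] ++ invW fWord ++ [14] ++ fWord ++ [9], [14, 14, 5, 1]],
      wEval (el8 a b c d e s t u) w = 1 := by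
    intro w hw
    refine hfact w ?_
    simp only [factWords, liftRels, H.relsH, List.mem_append, List.mem_cons] at hw ⊢
    tauto
  simp only [H.rels3, fWord, invW, List.reverse_cons, List.reverse_nil, List.map_cons, List.map_nil,
    List.cons_append, List.nil_append, List.forall_mem_cons, Nat.reduceXor, wEval, el8, List.prod_cons,
    List.prod_nil, List.getD_cons_zero, List.getD_cons_succ, mul_one] at f3
  obtain ⟨t3, ta, tb, tc, td, te, ts, tu, ue, us3, uf, u2, -⟩ := f3
  have ct : ∀ {x : T}, t⁻¹ * (x⁻¹ * (t * x)) = 1 → Commute t x := fun {x} h =>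
    show t * x = x * t by
      calc t * x = x * t * (t⁻¹ * (x⁻¹ * (t * x))) := by group
        _ = x * t := by rw [h, mul_one]
  have hT3 : σ (T0 ^ 3) = 1 := by rw [map_pow, σT0, ← t3]; simp [pow_succ, mul_assoc]
  have htu : σ (U0⁻¹ * T0 * U0 * T0) = 1 := by
    simp only [map_mul, map_inv, σT0, σU0]; rw [← tu]; simp [mul_assoc]
  have hu : σ (U0 * U0 * ((U0 * S) ^ 3)⁻¹) = 1 := by
    simp only [map_mul, map_inv, map_pow, σU0, σS]; rw [← us3]; simp [pow_succ, mul_assoc]
  obtain ⟨k, l, hk, hl, T3, TU, UU⟩ := exists_tu hZ hT3 htu hu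
  set T' := T0 * k with hT'
  set U' := U0 * l with hU'
  have σT : σ T' = t := by rw [hT', map_mul, hk, mul_one, σT0]
  have σU : σ U' = u := by rw [hU', map_mul, hl, mul_one, σU0]
  have sat : ∀ w ∈ baseRels, wEval (el8 A B C D X S T' U') w = 1 := fun w hw => by
    rw [hlow _ _ _ _ _ _ _ _ w (List.all_eq_true.1 hbase12 w hw)]; exact hb w hw
  have sat' := sat
  simp only [baseRels, U.upperRels, U.rels2, List.cons_append, List.nil_append, List.forall_mem_cons,
    wEval, el8, List.map_cons, List.map_nil, List.prod_cons, List.prod_nil, List.getD_cons_zero,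
    List.getD_cons_succ, mul_one] at sat'
  obtain ⟨A2, B2, C2, D2, X2, -, -, -, -, -, -, -, -, -, S7, -, -, -, SD, -⟩ := sat'
  have hT3' : σ (T' ^ 3) = 1 := by rw [T3, map_one]
  have cTA := com_three hZ hT3' A2 (by rw [σT, σA]; exact ct ta)
  have cTB := com_three hZ hT3' B2 (by rw [σT, σB]; exact ct tb)
  have cTC := com_three hZ hT3' C2 (by rw [σT, σC]; exact ct tc)
  have cTD := com_three hZ hT3' D2 (by rw [σT, σD]; exact ct td)
  have cTX := com_three hZ hT3' X2 (by rw [σT, σX]; exact ct te)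
  have S7' : S ^ 7 = 1 := by rw [← S7]; simp [pow_succ, mul_assoc]
  have SD' : (S * D) ^ 2 = 1 := by rw [← SD]; simp [pow_succ, mul_assoc]
  have hTS := t_seven hZ S7' D2 SD' cTD (by
    simp only [map_mul, map_inv, σT, σS]; rw [← ts]; simp [mul_assoc])
  -- f and [u, e]
  have hel : ∀ g < 16, el8 A B C D X S T' U' (g ^^^ 1) = (el8 A B C D X S T' U' g)⁻¹ := by
    intro g hg
    interval_cases g <;> simp [el8]
  have gens : U.setting.Gens (el8 A B C D X S T' U') :=
    ⟨fun g hg => hel g (lt_trans (hg : g < 10) (by decide)),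
      fun w hw => sat w (List.mem_append_left _ hw)⟩
  have hc := f_checks
  simp only [Bool.and_eq_true] at hc
  obtain ⟨⟨q1, q2⟩, q3⟩ := hc
  have f1 := Setting.eq_of_same U.valid gens q1
  have f2 := Setting.eq_of_same U.valid gens q2
  have f4 := Setting.eq_of_same U.valid gens q3
  simp only [fWord, List.cons_append, List.nil_append, wEval, el8, List.map_cons, List.map_nil,
    List.prod_cons, List.prod_nil, List.getD_cons_zero, List.getD_cons_succ, mul_one] at f1 f2 f4
  have cUX := com_ue hZ (U := U') (F := B⁻¹ * (A * (C * B))) (X := X) (Z := A * C)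
    (by simpa [mul_assoc] using f4) X2 (by simpa [mul_assoc] using f1) (by simpa [mul_assoc] using f2)
    (by
      simp only [map_mul, map_inv, σA, σC, σU]
      have : u * u = a * c := mul_inv_eq_one.1 (by rw [← u2]; group)
      rw [this, inv_mul_cancel])
    (by
      simp only [com, map_mul, map_inv, σA, σB, σC, σX, σU]; rw [← uf]; group)
    (show σ U' * σ X = σ X * σ U' by
      rw [σU, σX]
      calc u * e = e * u * (u⁻¹ * (e⁻¹ * (u * e))) := by group
        _ = e * u := by rw [ue, mul_one])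
  refine ⟨A, B, C, D, X, S, T', U', ?_, ?_⟩
  · intro g hg
    interval_cases g <;> simp [el8, σA, σB, σC, σD, σX, σS, σT, σU]
  · intro w hw
    rcases List.mem_append.1 hw with hw | hw
    · rcases List.mem_append.1 hw with hw | hw
      · exact sat w hw
      simp only [H.rels3, List.mem_cons, List.not_mem_nil, or_false] at hw
      rcases hw with rfl | rfl | rfl | rfl | rfl | rfl | rfl <;>
        simp only [wEval, el8, List.map_cons, List.map_nil, List.prod_cons, List.prod_nil,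
          List.getD_cons_zero, List.getD_cons_succ, mul_one]
      · rw [← T3]; simp [pow_succ, mul_assoc]
      · rw [← cTA]; simp [com, mul_assoc]
      · rw [← cTB]; simp [com, mul_assoc]
      · rw [← cTC]; simp [com, mul_assoc]
      · rw [← cTD]; simp [com, mul_assoc]
      · rw [← cTX]; simp [com, mul_assoc]
      · rw [← hTS]; simp [mul_assoc]
    · simp only [List.mem_cons, List.not_mem_nil, or_false] at hw
      rcases hw with rfl | rfl | rfl <;>
        simp only [wEval, el8, List.map_cons, List.map_nil, List.prod_cons, List.prod_nil,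
          List.getD_cons_zero, List.getD_cons_succ, mul_one]
      · rw [← TU]; simp [mul_assoc]
      · rw [← cUX]; simp [com, mul_assoc]
      · have e : U' * U' * ((U' * S) ^ 3)⁻¹ = 1 := by rw [← UU, mul_inv_cancel]
        rw [← e]; simp [pow_succ, mul_assoc]

end CfsgLib.ThMult
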