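import Cfsg.Agent.Lib.OrbitEnum.Table
import Mathlib.Algebra.Group.Subgroup.Basic
import Mathlib.Tactic.Group

/-!
# Certificates for the central values of relators

A group with a subgroup K and a homomorphism π of K into a commutative group. Cosets of K are given
by words. Each edge of the coset table gives an element of K whose value under π is a product of
powers of finitely many values; scanning the relators deduces these, and integer combinations of
scans determine the values.
-/

set_option autoImplicit false

namespace CfsgLib.ThMult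

open CfsgLib.OrbitEnum

/-- The sum of two vectors. -/
def vadd : List ℤ → List ℤ → List ℤ
  | [], l => l
  | a :: l, [] => a :: l
  | a :: l, b :: l' => (a + b) :: vadd l l'

/-- The opposite vector. -/
def vneg (l : List ℤ) : List ℤ := l.map Neg.neg

/-- A multiple of a vector. -/
def vsmul (c : ℤ) (l : List ℤ) : List ℤ := l.map (c * ·)

/-- The vanishing of a vector. -/
def vzero (l : List ℤ) : Bool := l.all fun a => decide (a = 0)

/-- A unit vector. -/
def unitVec (j : ℕ) : List ℤ := List.replicate j 0 ++ [1]

/-- The certificate data. -/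
structure Lin where
  /-- the number of cosets -/
  n : ℕ
  /-- the number of letters -/
  ng : ℕ
  /-- the table -/
  tbl : ℕ → ℕ → ℕ
  /-- the values of the edges -/
  form : ℕ → ℕ → List ℤ
  /-- the words of the cosets -/
  rep : ℕ → List ℕ
  /-- the relators, with their values -/
  rels : List (List ℕ × List ℤ)
  /-- the words in the subgroup, with their values -/
  subs : List (List ℕ × List ℤ)

namespace Lin

variable (C : Lin)

/-- The bit of an edge. -/
def bit (i g : ℕ) : ℕ := i * C.ng + g

/-- Follow a word through known edges, adding up the values. -/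
def walk (K : ℕ) : ℕ → List ℕ → Option (ℕ × List ℤ)
  | i, [] => bif Nat.blt i C.n then some (i, []) else none
  | i, g :: w =>
    bif Nat.blt i C.n && Nat.blt g C.ng && K.testBit (bit C i g) then
      match walk K (C.tbl i g) w with
      | some r => some (r.1, vadd (C.form i g) r.2)
      | none => none
    else none

/-- Mark an edge and its inverse. -/
def mark (K x g : ℕ) : Option ℕ :=
  bif Nat.blt x C.n && Nat.blt g C.ng && Nat.blt (C.tbl x g) C.n && Nat.blt (g ^^^ 1) C.ng &&
      Nat.beq (C.tbl (C.tbl x g) (g ^^^ 1)) x &&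
      vzero (vadd (C.form x g) (C.form (C.tbl x g) (g ^^^ 1))) then
    some ((K ||| 2 ^ bit C x g) ||| 2 ^ bit C (C.tbl x g) (g ^^^ 1))
  else none

/-- A tree edge. -/
def treeStep (K : ℕ) (e : ℕ × ℕ) : Option ℕ :=
  bif decide (C.rep (C.tbl e.1 e.2) = C.rep e.1 ++ [e.2]) && vzero (C.form e.1 e.2) then
    mark C K e.1 e.2
  else none

/-- The word with an index, if it may be used at a coset. -/
def word (i r : ℕ) : Option (List ℕ × List ℤ) :=
  bif Nat.blt r C.rels.length then C.rels[r]?
  else bif Nat.beq i 0 then C.subs[r - C.rels.length]? else none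

/-- Deduction of one edge. -/
def dedStep (K : ℕ) (s : ℕ × ℕ × ℕ) : Option ℕ :=
  match C.word s.1 s.2.1 with
  | some p =>
    match C.walk K s.1 (p.1.take s.2.2), p.1.drop s.2.2 with
    | some a, g :: post =>
      match C.walk K (C.tbl a.1 g) post with
      | some b =>
        bif Nat.blt s.1 C.n && Nat.beq b.1 s.1 &&
            vzero (vadd a.2 (vadd (C.form a.1 g) (vadd b.2 (vneg p.2)))) then
          C.mark K a.1 g
        else none
      | none => none
    | _, _ => none
  | none => none

/-- All tree edges. -/
def runTree : ℕ → List (ℕ × ℕ) → Option ℕ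
  | K, [] => some K
  | K, e :: l => match treeStep C K e with
    | some K' => runTree K' l
    | none => none

/-- All deductions. -/
def runDed : ℕ → List (ℕ × ℕ × ℕ) → Option ℕ
  | K, [] => some K
  | K, e :: l => match dedStep C K e with
    | some K' => runDed K' l
    | none => none

/-- A combination of scans. -/
def comb (K : ℕ) : List (ℕ × ℕ × ℤ) → Option (List ℤ)
  | [] => some []
  | s :: l =>
    match C.word s.1 s.2.1 with
    | some p =>
      match C.walk K s.1 p.1, comb K l with
      | some a, some v =>
        bif Nat.blt s.1 C.n && Nat.beq a.1 s.1 then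
          some (vadd (vsmul s.2.2 (vadd a.2 (vneg p.2))) v)
        else none
      | _, _ => none
    | none => none

/-- The whole check: the deductions, and combinations giving the first values. -/
def check (tree : List (ℕ × ℕ)) (steps : List (ℕ × ℕ × ℕ)) (combs : List (List (ℕ × ℕ × ℤ))) :
    Bool :=
  decide (C.rep 0 = []) &&
  match runTree C 0 tree with
  | some K => match runDed C K steps with
    | some K' => (List.range combs.length).all fun j =>
      match C.comb K' (combs.getD j []) with
      | some v => vzero (vadd v (vneg (unitVec j)))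
      | none => false
    | none => false
  | none => false

section Sound

variable {A : Type*} [CommGroup A] (val : ℕ → A)

/-- The value of a vector, from a position. -/
def evFrom : ℕ → List ℤ → A
  | _, [] => 1
  | j, c :: l => val j ^ c * evFrom (j + 1) l

/-- The value of a vector. -/
def evV (l : List ℤ) : A := evFrom val 0 l

theorem evFrom_vadd : ∀ (l l' : List ℤ) (j : ℕ),
    evFrom val j (vadd l l') = evFrom val j l * evFrom val j l'
  | [], l', j => by simp [vadd, evFrom]
  | a :: l, [], j => by simp [vadd, evFrom]
  | a :: l, b :: l', j => by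
    simp only [vadd, evFrom, evFrom_vadd l l' (j + 1), zpow_add]
    exact mul_mul_mul_comm _ _ _ _

theorem evFrom_vsmul (c : ℤ) : ∀ (l : List ℤ) (j : ℕ),
    evFrom val j (vsmul c l) = evFrom val j l ^ c
  | [], j => by simp [vsmul, evFrom]
  | a :: l, j => by
    have ih := evFrom_vsmul c l (j + 1)
    simp only [vsmul] at ih
    simp only [vsmul, List.map_cons, evFrom, ih, mul_zpow, ← zpow_mul, Int.mul_comm c a]

theorem evFrom_vneg : ∀ (l : List ℤ) (j : ℕ), evFrom val j (vneg l) = (evFrom val j l)⁻¹
  | [], j => by simp [vneg, evFrom]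
  | a :: l, j => by
    have ih := evFrom_vneg l (j + 1)
    simp only [vneg] at ih
    simp only [vneg, List.map_cons, evFrom, ih, zpow_neg, mul_inv]

theorem evFrom_vzero : ∀ (l : List ℤ) (j : ℕ), vzero l = true → evFrom val j l = 1
  | [], _, _ => rfl
  | a :: l, j, h => by
    simp only [vzero, List.all_cons, Bool.and_eq_true, decide_eq_true_eq] at h
    rw [evFrom, h.1, zpow_zero, one_mul, evFrom_vzero l (j + 1) h.2]

theorem evFrom_unit : ∀ (k j : ℕ), evFrom val j (unitVec k) = val (j + k)
  | 0, j => by simp [unitVec, evFrom]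
  | k + 1, j => by
    have ih := evFrom_unit k (j + 1)
    simp only [unitVec] at ih ⊢
    rw [List.replicate_succ, List.cons_append, evFrom, zpow_zero, one_mul, ih]
    congr 1
    omega

theorem evV_vadd (l l' : List ℤ) : evV val (vadd l l') = evV val l * evV val l' :=
  evFrom_vadd val l l' 0

theorem evV_vneg (l : List ℤ) : evV val (vneg l) = (evV val l)⁻¹ := evFrom_vneg val l 0

theorem evV_zero {l : List ℤ} (h : vzero l = true) : evV val l = 1 := evFrom_vzero val l 0 h

variable {E : Type*} [Group E] (el : ℕ → E) (K : Subgroup E) (π : ↥K →* A)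

/-- An element of K with a given value. -/
def Val (x : E) (v : List ℤ) : Prop := ∃ h : x ∈ K, π ⟨x, h⟩ = evV val v

/-- The element of a coset. -/
def R (i : ℕ) : E := wEval el (C.rep i)

/-- All known edges are correct. -/
def Good (B : ℕ) : Prop :=
  ∀ i g, i < C.n → g < C.ng → B.testBit (bit C i g) = true →
    C.tbl i g < C.n ∧ Val val K π (R C el i * el g * (R C el (C.tbl i g))⁻¹) (C.form i g)

variable {val el K π}

theorem Val.one {v : List ℤ} (h : vzero v = true) : Val val K π (1 : E) v :=
  ⟨one_mem K, by rw [evV_zero val h]; exact map_one π⟩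

theorem Val.mul {x y : E} {v w : List ℤ} (hx : Val val K π x v) (hy : Val val K π y w) :
    Val val K π (x * y) (vadd v w) := by
  obtain ⟨hx, ex⟩ := hx
  obtain ⟨hy, ey⟩ := hy
  refine ⟨mul_mem hx hy, ?_⟩
  rw [evV_vadd, ← ex, ← ey, ← map_mul]
  rfl

theorem Val.inv {x : E} {v : List ℤ} (hx : Val val K π x v) :
    Val val K π x⁻¹ (vneg v) := by
  obtain ⟨hx, ex⟩ := hx
  refine ⟨inv_mem hx, ?_⟩
  rw [evV_vneg, ← ex, ← map_inv]
  rfl

theorem Val.congr {x : E} {v w : List ℤ} (hx : Val val K π x v) (h : evV val v = evV val w) :
    Val val K π x w := ⟨hx.1, hx.2.trans h⟩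

variable {C}

theorem walk_sound {B : ℕ} (hB : Good C val el K π B) :
    ∀ {w : List ℕ} {i : ℕ} {r : ℕ × List ℤ}, C.walk B i w = some r →
      i < C.n ∧ r.1 < C.n ∧ Val val K π (R C el i * wEval el w * (R C el r.1)⁻¹) r.2
  | [], i, r, h => by
    simp only [walk] at h
    cases hi : Nat.blt i C.n with
    | false => simp [hi] at h
    | true =>
      simp only [hi, cond_true, Option.some.injEq] at h
      subst h
      rw [Nat.blt_eq] at hi
      refine ⟨hi, hi, ?_⟩
      rw [wEval_nil, mul_one, mul_inv_cancel]
      exact Val.one rfl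
  | g :: w, i, r, h => by
    simp only [walk] at h
    cases hc : (Nat.blt i C.n && Nat.blt g C.ng && B.testBit (bit C i g)) with
    | false => simp [hc] at h
    | true =>
      simp only [hc, cond_true] at h
      simp only [Bool.and_eq_true, Nat.blt_eq] at hc
      obtain ⟨-, e⟩ := hB i g hc.1.1 hc.1.2 hc.2
      cases hw : C.walk B (C.tbl i g) w with
      | none => simp [hw] at h
      | some q =>
        simp only [hw, Option.some.injEq] at h
        subst h
        obtain ⟨-, hq, eq'⟩ := walk_sound hB hw
        refine ⟨hc.1.1, hq, ?_⟩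
        have := e.mul eq'
        convert this using 1
        rw [wEval_cons]
        group

theorem mark_sound (hiv : ∀ g < C.ng, el (g ^^^ 1) = (el g)⁻¹) {B B' x g : ℕ}
    (hB : Good C val el K π B) (h : C.mark B x g = some B')
    (he : Val val K π (R C el x * el g * (R C el (C.tbl x g))⁻¹) (C.form x g)) :
    Good C val el K π B' := by
  simp only [mark] at h
  cases hc : (Nat.blt x C.n && Nat.blt g C.ng && Nat.blt (C.tbl x g) C.n && Nat.blt (g ^^^ 1) C.ng &&
      Nat.beq (C.tbl (C.tbl x g) (g ^^^ 1)) x &&
      vzero (vadd (C.form x g) (C.form (C.tbl x g) (g ^^^ 1)))) with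
  | false => simp [hc] at h
  | true =>
    simp only [hc, cond_true, Option.some.injEq] at h
    simp only [Bool.and_eq_true, Nat.blt_eq, Nat.beq_eq] at hc
    obtain ⟨⟨⟨⟨⟨hx, hg⟩, hy⟩, hg'⟩, hback⟩, hsum⟩ := hc
    subst h
    intro i g' hi hgn hb
    simp only [Nat.testBit_or, Bool.or_eq_true, Nat.testBit_two_pow, decide_eq_true_eq] at hb
    have hinj : ∀ {i g i' g' : ℕ}, g < C.ng → g' < C.ng → bit C i g = bit C i' g' →
        i = i' ∧ g = g' := by
      intro i g i' g' hg hg' e
      unfold bit at e
      have h1 : (i * C.ng + g) / C.ng = (i' * C.ng + g') / C.ng := by rw [e]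
      rw [Nat.mul_comm i, Nat.mul_comm i', Nat.mul_add_div (by omega), Nat.mul_add_div (by omega),
        Nat.div_eq_of_lt hg, Nat.div_eq_of_lt hg', Nat.add_zero, Nat.add_zero] at h1
      subst h1
      exact ⟨rfl, by omega⟩
    rcases hb with (hb | hb) | hb
    · exact hB i g' hi hgn hb
    · obtain ⟨rfl, rfl⟩ := hinj hg hgn hb
      exact ⟨hy, he⟩
    · obtain ⟨rfl, rfl⟩ := hinj hg' hgn hb
      rw [hback]
      refine ⟨hx, ?_⟩
      have hi' := he.inv
      refine Val.congr (v := vneg (C.form x g)) ?_ ?_
      · convert hi' using 1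
        rw [hiv g hg]
        group
      · rw [evV_vneg]
        refine inv_eq_of_mul_eq_one_right ?_
        rw [← evV_vadd, evV_zero val hsum]

theorem treeStep_sound (hiv : ∀ g < C.ng, el (g ^^^ 1) = (el g)⁻¹) {B B' : ℕ} {e : ℕ × ℕ}
    (hB : Good C val el K π B) (h : C.treeStep B e = some B') : Good C val el K π B' := by
  simp only [treeStep] at h
  cases hc : (decide (C.rep (C.tbl e.1 e.2) = C.rep e.1 ++ [e.2]) && vzero (C.form e.1 e.2)) with
  | false => simp [hc] at h
  | true =>
    simp only [hc, cond_true] at h
    simp only [Bool.and_eq_true, decide_eq_true_eq] at hc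
    refine mark_sound hiv hB h ?_
    rw [show R C el (C.tbl e.1 e.2) = R C el e.1 * el e.2 by
      rw [R, hc.1, wEval_append, wEval_cons, wEval_nil, mul_one]; rfl, mul_inv_cancel]
    exact Val.one hc.2

/-- The hypothesis on the relators and the words of the subgroup. -/
def Loops (C : Lin) (val : ℕ → A) (el : ℕ → E) (K : Subgroup E) (π : ↥K →* A) : Prop :=
  ∀ i r p, i < C.n → C.word i r = some p →
    Val val K π (R C el i * wEval el p.1 * (R C el i)⁻¹) p.2

theorem dedStep_sound (hiv : ∀ g < C.ng, el (g ^^^ 1) = (el g)⁻¹) (hL : Loops C val el K π)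
    {B B' : ℕ} {s : ℕ × ℕ × ℕ} (hB : Good C val el K π B) (h : C.dedStep B s = some B') :
    Good C val el K π B' := by
  simp only [dedStep] at h
  split at h
  swap
  · simp at h
  rename_i p hp
  split at h
  swap
  · simp at h
  rename_i a g post hpre hdrop
  split at h
  swap
  · simp at h
  rename_i b hpost
  cases hc : (Nat.blt s.1 C.n && Nat.beq b.1 s.1 &&
      vzero (vadd a.2 (vadd (C.form a.1 g) (vadd b.2 (vneg p.2))))) with
  | false => simp [hc] at h
  | true =>
    simp only [hc, cond_true] at h
    simp only [Bool.and_eq_true, Nat.blt_eq, Nat.beq_eq] at hc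
    obtain ⟨⟨hi, hb⟩, hsum⟩ := hc
    obtain ⟨-, -, ea⟩ := walk_sound hB hpre
    obtain ⟨-, -, eb⟩ := walk_sound hB hpost
    rw [hb] at eb
    have ew := hL s.1 s.2.1 p hi hp
    have hz := evV_zero val hsum
    refine mark_sound hiv hB h (Val.congr (v := vadd (vneg a.2) (vadd p.2 (vneg b.2))) ?_ ?_)
    · convert ea.inv.mul (ew.mul eb.inv) using 1
      have e : wEval el p.1 = wEval el (p.1.take s.2.2) * (el g * wEval el post) := by
        rw [← wEval_cons, ← hdrop, ← wEval_append, List.take_append_drop]
      rw [e]
      group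
    · simp only [evV_vadd, evV_vneg] at hz ⊢
      generalize evV val a.2 = u at hz ⊢
      generalize evV val (C.form a.1 g) = f at hz ⊢
      generalize evV val b.2 = v at hz ⊢
      generalize evV val p.2 = z at hz ⊢
      rw [eq_mul_inv_of_mul_eq (eq_inv_of_mul_eq_one_right hz), mul_inv_rev, inv_inv]

theorem runTree_sound (hiv : ∀ g < C.ng, el (g ^^^ 1) = (el g)⁻¹) :
    ∀ {l : List (ℕ × ℕ)} {B B' : ℕ}, Good C val el K π B → C.runTree B l = some B' →
      Good C val el K π B'
  | [], B, B', hB, h => by simp only [runTree, Option.some.injEq] at h; exact h ▸ hB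
  | e :: l, B, B', hB, h => by
    simp only [runTree] at h
    split at h
    · rename_i B'' he
      exact runTree_sound hiv (treeStep_sound hiv hB he) h
    · simp at h

theorem runDed_sound (hiv : ∀ g < C.ng, el (g ^^^ 1) = (el g)⁻¹) (hL : Loops C val el K π) :
    ∀ {l : List (ℕ × ℕ × ℕ)} {B B' : ℕ}, Good C val el K π B → C.runDed B l = some B' →
      Good C val el K π B'
  | [], B, B', hB, h => by simp only [runDed, Option.some.injEq] at h; exact h ▸ hB
  | e :: l, B, B', hB, h => by
    simp only [runDed] at h
    split at h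
    · rename_i B'' he
      exact runDed_sound hiv hL (dedStep_sound hiv hL hB he) h
    · simp at h

theorem comb_sound (hL : Loops C val el K π) {B : ℕ} (hB : Good C val el K π B) :
    ∀ {l : List (ℕ × ℕ × ℤ)} {v : List ℤ}, C.comb B l = some v → evV val v = 1
  | [], v, h => by simp only [comb, Option.some.injEq] at h; subst h; rfl
  | s :: l, v, h => by
    simp only [comb] at h
    split at h
    swap
    · simp at h
    rename_i p hp
    split at h
    swap
    · simp at h
    rename_i a v' hw hl
    cases hc : (Nat.blt s.1 C.n && Nat.beq a.1 s.1) with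
    | false => simp [hc] at h
    | true =>
      simp only [hc, cond_true, Option.some.injEq] at h
      subst h
      simp only [Bool.and_eq_true, Nat.blt_eq, Nat.beq_eq] at hc
      obtain ⟨-, -, h1, e1⟩ := walk_sound hB hw
      obtain ⟨h2, e2⟩ := hL s.1 s.2.1 p hc.1 hp
      have e : evV val a.2 = evV val p.2 := by
        rw [← e1, ← e2]
        congr 1
        exact Subtype.ext (by show _ * _ * (R C el a.1)⁻¹ = _; rw [hc.2])
      rw [evV_vadd, comb_sound hL hB hl, mul_one, evV, evFrom_vsmul, ← evV, evV_vadd, evV_vneg, e,
        mul_inv_cancel, one_zpow]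

/-- The certified values are trivial. -/
theorem check_sound {tree : List (ℕ × ℕ)} {steps : List (ℕ × ℕ × ℕ)}
    {combs : List (List (ℕ × ℕ × ℤ))} (h : C.check tree steps combs = true)
    (hiv : ∀ g < C.ng, el (g ^^^ 1) = (el g)⁻¹)
    (hrels : ∀ p ∈ C.rels, ∀ x : E, Val val K π (x * wEval el p.1 * x⁻¹) p.2)
    (hsubs : ∀ p ∈ C.subs, Val val K π (wEval el p.1) p.2) :
    ∀ j < combs.length, val j = 1 := by
  simp only [check, Bool.and_eq_true, decide_eq_true_eq] at h
  obtain ⟨h0, h⟩ := h
  have hL : Loops C val el K π := by
    intro i r p hi hp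
    simp only [word] at hp
    cases hr : Nat.blt r C.rels.length with
    | true =>
      simp only [hr, cond_true] at hp
      exact hrels p (List.mem_of_getElem? hp) _
    | false =>
      simp only [hr, cond_false] at hp
      cases hz : Nat.beq i 0 with
      | false => simp [hz] at hp
      | true =>
        simp only [hz, cond_true] at hp
        rw [Nat.beq_eq] at hz
        subst hz
        rw [R, h0, wEval_nil, one_mul, inv_one, mul_one]
        exact hsubs p (List.mem_of_getElem? hp)
  have g0 : Good C val el K π 0 := by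
    intro i g _ _ hb
    simp at hb
  split at h
  swap
  · simp at h
  rename_i B hB
  split at h
  swap
  · simp at h
  rename_i B' hB'
  have hg := runDed_sound hiv hL (runTree_sound hiv g0 hB) hB'
  intro j hj
  have := List.all_eq_true.1 h j (List.mem_range.2 hj)
  split at this
  swap
  · simp at this
  rename_i v hv
  have e := evV_zero val this
  rw [evV_vadd, evV_vneg, comb_sound hL hg hv, one_mul, inv_eq_one] at e
  rw [← Nat.zero_add j, ← evFrom_unit val j 0]
  exact e

end Sound

end Lin

end CfsgLib.ThMult
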