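import Cfsg.Agent.Lib.ThMult.Section
import Cfsg.Agent.Lib.ThMult.CheckC
import Cfsg.Agent.Lib.ThMult.CheckL
import Cfsg.Agent.Lib.ThMult.CheckG
import Cfsg.Prelude.Def_KGroupFacts

/-!
# The Schur multiplier of the Thompson group

The three tables make all the relators exact on the lifts, so the covering map splits, and a central
extension with its kernel in the commutator subgroup is an isomorphism.
-/

set_option autoImplicit false
set_option maxRecDepth 100000

namespace CfsgLib.ThMult

open CfsgLib.OrbitEnum CfsgLib.ThIndex CfsgLib.ThRep Cfsg.Spor Subgroup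
open scoped commutatorElement

/-- ac (us)⁻³. -/
def r10 : List ℕ := [0, 4, 11, 15, 11, 15, 11, 15]

/-- The exception of the table of the centraliser. -/
def excC : List (List ℕ × List ℤ) := [([0, 2, 9, 13, 9, 13, 9, 13], [-1])]

/-- A word of ³D₄(2):3. -/
def cWord : List ℕ := [4, 8, 11, 8, 6, 4, 6, 11, 8, 6, 4, 6, 10, 8, 6, 4, 6, 10, 10, 8, 11]

/-- A word of U₃(3):2. -/
def theta : List ℕ := [0, 2, 0, 4, 2, 6, 4, 6, 8, 6, 4, 2, 0, 6, 4, 2, 6, 4, 6]

/-- The conjugate of dcd by u, compared with a word of U₃(3):2. -/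
def gPair : List ℕ := [14, 6, 4, 7, 15] ++ invW theta

/-- The values of the first table. -/
def varC : List (List ℕ) := varWords C.lin C.subData C.combs.length

/-- The values of the second table. -/
def varL : List (List ℕ) := varWords L.lin L.subData L.combs.length

/-- The values of the third table. -/
def varG : List (List ℕ) := varWords G.lin G.subData G.combs.length

/-- The words known after the first table. -/
def knownL : List (List ℕ) := liftRels ++ varC ++ [r10]

/-- The words known after the second table. -/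
def knownG : List (List ℕ) := knownL ++ varL ++ [gPair]

/-- All the words known at the end. -/
def knownAll : List (List ℕ) := knownG ++ varG

theorem tableC : tableOk C.lin C.subData liftRels C.combs.length excC = true := by decide +kernel

theorem tableL : tableOk L.lin L.subData knownL L.combs.length [] = true := by decide +kernel

theorem tableG : tableOk G.lin G.subData knownG G.combs.length [] = true := by decide +kernel

theorem facts : (decide (0 < C.combs.length) && decide (varC.getD 0 [] = [14, 14, 5, 1]) &&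
    decide (varC.getD 7 [] = [14, 6, 4, 7, 15] ++ invW cWord) && decide (7 < varC.length) &&
    decide (flat C.subData [0, 2, 9, 13, 9, 13, 9, 13] = r10) &&
    ltW 14 (cWord ++ invW theta) && thOne (cWord ++ invW theta) &&
    knownAll.all (ltW 16) &&
    words.all fun w => (knownAll.map (red fun g => g ^^^ 1)).contains w) = true := by
  decide +kernel

variable {E : Type} [Group E] {σ : E →* Th}

/-- The square of u against the cube of us. -/
theorem r10_eq {el : ℕ → E} (L : Lifted σ el) :
    wEval el r10 = (wEval el [14, 14, 5, 1]) ^ (-1 : ℤ) := by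
  have h := L.rels [14, 14, 11, 15, 11, 15, 11, 15] (by simp [liftRels])
  have e5 : el 5 = (el 4)⁻¹ := L.inv 4 (by decide)
  have e1 : el 1 = (el 0)⁻¹ := L.inv 0 (by decide)
  simp only [r10, wEval_cons, wEval_nil, mul_one, e5, e1, zpow_neg_one] at h ⊢
  rw [← mul_assoc (el 14) (el 14)] at h
  rw [eq_inv_of_mul_eq_one_right h]
  group

/-- All the relators hold on the lifts. -/
theorem all_rels [IsSimpleGroup Th] (hZ : σ.ker ≤ center E) {el : ℕ → E} (L : Lifted σ el)
    (hcard : Nat.card Hsub = 634023936) : ∀ w ∈ knownAll, wEval el w = 1 := by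
  have h := facts
  simp only [Bool.and_eq_true, decide_eq_true_eq] at h
  obtain ⟨⟨⟨⟨⟨⟨⟨⟨hC0, hv0⟩, hv7⟩, h7⟩, hfl⟩, hlt⟩, hone⟩, -⟩, -⟩ := h
  have hC : ∀ w ∈ varC, wEval el w = 1 :=
    table_sound hZ L hcard C.ok tableC L.rels fun p hp => by
      obtain rfl := List.mem_singleton.1 hp
      exact ⟨-1, 0, hC0, rfl, by rw [hfl]; rw [varC] at hv0; rw [hv0]; exact r10_eq L⟩
  have hmem : ∀ (j : ℕ) (l : List ℕ), j < varC.length → varC.getD j [] = l → l ∈ varC := by
    intro j l hj e
    rw [← e, List.getD_eq_getElem _ _ hj]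
    exact List.getElem_mem hj
  have hL0 : ∀ w ∈ knownL, wEval el w = 1 := by
    intro w hw
    simp only [knownL, List.mem_append, List.mem_singleton] at hw
    rcases hw with (hw | hw) | rfl
    · exact L.rels w hw
    · exact hC w hw
    · rw [r10_eq L, hC _ (hmem 0 _ (by omega) hv0), one_zpow]
  have hL : ∀ w ∈ varL, wEval el w = 1 :=
    table_sound hZ L hcard CfsgLib.ThMult.L.ok tableL hL0 fun p hp => (List.not_mem_nil hp).elim
  have hg : wEval el gPair = 1 := by
    have e7 := hC _ (hmem 7 _ h7 hv7)
    have e := Hword L hcard hlt (thOne_spec hone)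
    rw [wEval_append] at e e7
    rw [gPair, wEval_append]
    rw [ltW_append] at hlt
    have hi : ∀ g < 14, el (g ^^^ 1) = (el g)⁻¹ := fun g hg => L.inv g (by omega)
    rw [wEval_invW _ hi (w := cWord) (by decide), mul_inv_eq_one] at e7
    rw [e7, e]
  have hG0 : ∀ w ∈ knownG, wEval el w = 1 := by
    intro w hw
    simp only [knownG, List.mem_append, List.mem_singleton] at hw
    rcases hw with (hw | hw) | rfl
    · exact hL0 w hw
    · exact hL w hw
    · exact hg
  have hG : ∀ w ∈ varG, wEval el w = 1 :=
    table_sound hZ L hcard G.ok tableG hG0 fun p hp => (List.not_mem_nil hp).elim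
  intro w hw
  exact (List.mem_append.1 hw).elim (hG0 w) (hG w)

/-- The letters of an element of the free group. -/
theorem lift_syl {el : ℕ → E} (hinv : ∀ g < 16, el (g ^^^ 1) = (el g)⁻¹) :
    ∀ l : List (Th.Gen × Bool),
      FreeGroup.lift (fun x => el (genLetter x)) (FreeGroup.mk l) = wEval el (l.map sylLetter)
  | [] => by rw [← FreeGroup.one_eq_mk, map_one, List.map_nil, wEval_nil]
  | p :: l => by
    rw [show FreeGroup.mk (p :: l) = FreeGroup.mk [p] * FreeGroup.mk l from rfl, map_mul,
      lift_syl hinv l, List.map_cons, wEval_cons]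
    congr 1
    obtain ⟨y, b⟩ := p
    cases b
    · rw [show FreeGroup.mk [(y, false)] = (FreeGroup.of y)⁻¹ from rfl, map_inv, FreeGroup.lift_apply_of]
      cases y <;> exact (hinv _ (by decide)).symm
    · rw [show FreeGroup.mk [(y, true)] = FreeGroup.of y from rfl, FreeGroup.lift_apply_of]
      rfl

/-- A central extension of the group splits. -/
theorem exists_section [IsSimpleGroup Th] (hcard : Nat.card Hsub = 634023936)
    (hσ : Function.Surjective σ) (hZ : σ.ker ≤ center E) : ∃ f : Th →* E, ∀ g, σ (f g) = g := by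
  obtain ⟨el, L⟩ := exists_lifted hσ hZ
  have hall := all_rels hZ L hcard
  have h := facts
  simp only [Bool.and_eq_true, List.all_eq_true, List.contains_iff_mem, List.mem_map] at h
  obtain ⟨⟨-, hlt⟩, hwords⟩ := h
  have hr : ∀ r ∈ thRels, FreeGroup.lift (fun x => el (genLetter x)) r = 1 := by
    rintro r (hr | hr)
    · simp [coxRelators, coxNodes, Th.edges] at hr
    · rw [← FreeGroup.mk_toWord (x := r), lift_syl L.inv]
      obtain ⟨k, hk, e⟩ := hwords _ (List.mem_map.2 ⟨r, hr, rfl⟩)
      rw [← e, wEval_red fun g hg => by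
        rw [L.inv g (ltW_iff.1 (hlt k hk) g hg), mul_inv_cancel]]
      exact hall k hk
  refine ⟨PresentedGroup.toGroup hr, fun g => ?_⟩
  refine DFunLike.congr_fun (PresentedGroup.ext (φ := σ.comp (PresentedGroup.toGroup hr))
    (ψ := MonoidHom.id Th) fun x => ?_) g
  rw [MonoidHom.comp_apply, PresentedGroup.toGroup.of, L.map _ (by cases x <;> decide)]
  cases x <;> rfl

/-- The multiplier of the group is trivial. -/
theorem multiplier_trivial [IsSimpleGroup Th] (hfin : Finite Th)
    (hcard : Nat.card Hsub = 634023936) : Cfsg.HasCyclicSchurMultiplier Th 1 := by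
  haveI : Subsingleton (Multiplicative (ZMod 1)) := inferInstanceAs (Subsingleton (Fin 1))
  refine ⟨⟨Th, inferInstance, hfin, MonoidHom.id _,
    ⟨fun g => ⟨g, rfl⟩, fun g hg => ?_, fun g hg => ?_⟩, ?_⟩, ?_⟩
  · rw [MonoidHom.mem_ker] at hg; cases hg; exact one_mem _
  · rw [MonoidHom.mem_ker] at hg; cases hg; exact one_mem _
  · haveI : Subsingleton (MonoidHom.id Th).ker :=
      ⟨fun u v => Subtype.ext ((MonoidHom.mem_ker.1 u.2).trans (MonoidHom.mem_ker.1 v.2).symm)⟩
    haveI := uniqueOfSubsingleton (1 : (MonoidHom.id Th).ker)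
    haveI := uniqueOfSubsingleton (1 : Multiplicative (ZMod 1))
    exact ⟨MulEquiv.ofUnique⟩
  · intro E _ _ σ hσ
    obtain ⟨hsur, hcen, hcom⟩ := hσ
    obtain ⟨f, hf⟩ := exists_section hcard hsur hcen
    have hker : σ.ker = ⊥ := by
      rw [eq_bot_iff]
      intro x hx
      have hle : commutator E ≤ f.range := by
        rw [_root_.commutator_def, commutator_le]
        intro p _ q _
        refine ⟨⁅σ p, σ q⁆, ?_⟩
        have cp : (f (σ p))⁻¹ * p ∈ center E := hcen (by
          rw [MonoidHom.mem_ker, map_mul, map_inv, hf, inv_mul_cancel])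
        have cq : (f (σ q))⁻¹ * q ∈ center E := hcen (by
          rw [MonoidHom.mem_ker, map_mul, map_inv, hf, inv_mul_cancel])
        rw [map_commutatorElement]
        generalize f (σ p) = P at cp
        generalize f (σ q) = Q at cq
        have h1 := mem_center_iff.1 cp
        have h2 := mem_center_iff.1 cq
        obtain ⟨i, rfl⟩ : ∃ i, p = P * i := ⟨P⁻¹ * p, by group⟩
        obtain ⟨j, rfl⟩ : ∃ j, q = Q * j := ⟨Q⁻¹ * q, by group⟩
        simp only [inv_mul_cancel_left] at h1 h2
        simp only [commutatorElement_def, mul_inv_rev]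
        calc P * Q * P⁻¹ * Q⁻¹ = P * Q * (P⁻¹ * (j * j⁻¹)) * Q⁻¹ := by group
          _ = P * Q * (j * P⁻¹) * (j⁻¹ * Q⁻¹) := by rw [← h2 P⁻¹]; group
          _ = P * (Q * j * (i * i⁻¹)) * P⁻¹ * (j⁻¹ * Q⁻¹) := by group
          _ = P * i * (Q * j) * (i⁻¹ * P⁻¹) * (j⁻¹ * Q⁻¹) := by
            rw [← mul_assoc (Q * j) i, h1 (Q * j)]; group
      obtain ⟨g, rfl⟩ := hle (hcom hx)
      rw [MonoidHom.mem_ker, hf] at hx
      rw [hx, map_one]
      exact one_mem _
    haveI : Subsingleton σ.ker := by rw [hker]; infer_instance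
    exact ⟨1, fun u => ⟨1, Subsingleton.elim _ _⟩⟩

end CfsgLib.ThMult
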