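import Cfsg.Agent.Lib.ThMult.Octet
import Mathlib.Tactic.Abel

/-!
# Normalising lifts by central factors
-/

set_option autoImplicit false

namespace CfsgLib.ThMult

open Subgroup
open scoped IsMulCommutative

section Solve

variable {A : Type} [CommGroup A]

theorem solve_two_three {β ν : A} (h : β ^ 2 = ν ^ 3) :
    ν * (ν * β⁻¹) ^ 2 = 1 ∧ β * (ν * β⁻¹) ^ 3 = 1 := by
  constructor
  · rw [mul_pow, ← mul_assoc, ← pow_succ', inv_pow, h, mul_inv_cancel]
  · rw [mul_pow, inv_pow, ← h, pow_succ' β 2, mul_inv_rev, mul_left_comm, mul_comm (β ^ 2)⁻¹, mul_inv_cancel_left, mul_inv_cancel]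
theorem solve_two_seven {ς ν : A} (h : ν ^ 2 = ς ^ 7) :
    ς * (ς ^ 3 * ν⁻¹) ^ 2 = 1 ∧ ν * (ς ^ 3 * ν⁻¹) ^ 7 = 1 := by
  constructor
  · rw [mul_pow, ← pow_mul, ← mul_assoc, ← pow_succ', inv_pow, h, mul_inv_cancel]
  · calc ν * (ς ^ 3 * ν⁻¹) ^ 7 = (ς ^ 7) ^ 3 * (ν * (ν ^ 7)⁻¹) := by
          rw [mul_pow, ← pow_mul, inv_pow, ← pow_mul, mul_left_comm]
      _ = (ν ^ 2) ^ 3 * (ν ^ 6)⁻¹ := by
          rw [← h, pow_succ' ν 6, mul_inv_rev, mul_comm (ν ^ 6)⁻¹, mul_inv_cancel_left]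
      _ = 1 := by rw [← pow_mul, mul_inv_cancel]
theorem solve_root {β β' μ ν : A} (h' : β' ^ 2 = (ν ^ 4) ^ 3 * μ ^ 3) (h : β ^ 2 = μ ^ 3 * ν ^ 3) :
    ν * ((β' * β⁻¹ * (ν ^ 4)⁻¹)⁻¹) ^ 2 = 1 := by
  have e : (β' * β⁻¹ * (ν ^ 4)⁻¹) ^ 2 = ν := by
    rw [mul_pow, mul_pow, inv_pow, inv_pow, h', h, ← pow_mul, ← pow_mul, mul_inv_rev, mul_assoc,
      mul_assoc, mul_comm (ν ^ 3)⁻¹, mul_assoc, mul_inv_cancel_left, ← mul_inv_rev, ← pow_add,
      show ν ^ (4 * 3) = ν * ν ^ (4 * 2 + 3) from (pow_succ' ν 11)]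
    group
  rw [inv_pow, e, mul_inv_cancel]

end Solve

variable {E T : Type} [Group E] [Group T] {σ : E →* T} (hZ : σ.ker ≤ center E)
include hZ

/-- A kernel element as an element of the centre. -/
def cz {z : E} (h : σ z = 1) : center E := ⟨z, hZ (MonoidHom.mem_ker.2 h)⟩

omit hZ in
theorem map_sq {x : E} (h : σ x * σ x = 1) : σ (x * x) = 1 := by rw [map_mul, h]

/-- The lift of an involution with a given relation under an element of order seven. -/
theorem exists_octet {S X0 : E} (h7 : σ (S ^ 7) = 1) (hX : σ X0 * σ X0 = 1)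
    (h : vv (σ S) (σ X0) 1 = σ X0 * vv (σ S) (σ X0) 3) :
    ∃ X, σ X = σ X0 ∧ vv S X 1 = X * vv S X 3 ∧ X * X = 1 := by
  set η := (X0 * vv S X0 3)⁻¹ * vv S X0 1 with hη
  have hη1 : σ η = 1 := by
    rw [hη, map_mul, map_inv, map_mul, map_vv, map_vv, h, inv_mul_cancel]
  have hvv : ∀ i, vv S (X0 * η) i = vv S X0 i * η := fun i => by
    calc vv S (X0 * η) i = (S ^ i)⁻¹ * X0 * (η * S ^ i) := by simp only [vv]; group
      _ = vv S X0 i * η := by rw [(cen hZ hη1 _).eq]; simp only [vv]; group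
  have hrel : vv S (X0 * η) 1 = X0 * η * vv S (X0 * η) 3 := by
    rw [hvv, hvv, mul_mul_cen hZ hη1, ← mul_assoc (X0 * vv S X0 3), hη, mul_inv_cancel_left]
  have hX' : σ (X0 * η) = σ X0 := by rw [map_mul, hη1, mul_one]
  exact ⟨_, hX', hrel, octet_sq hZ h7 (map_sq (by rw [hX', hX])) hrel⟩

/-- An involution lift whose product with a given one has order three. -/
theorem exists_braid {X D0 : E} (hX : X * X = 1) (hD : σ D0 * σ D0 = 1)
    (h : (σ D0 * σ X) ^ 3 = 1) : ∃ D, σ D = σ D0 ∧ D * D = 1 ∧ (D * X) ^ 3 = 1 := by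
  have hν := map_sq hD
  have hβ : σ ((D0 * X) ^ 3) = 1 := by rw [map_pow, map_mul, h]
  have e := cube_sq hZ hν (show σ (X * X) = 1 by rw [hX, map_one]) hβ
  rw [hX, one_pow, mul_one] at e
  obtain ⟨s1, s2⟩ := solve_two_three (β := cz hZ hβ) (ν := cz hZ hν) (Subtype.ext e)
  set k := D0 * D0 * ((D0 * X) ^ 3)⁻¹ with hk
  have hk1 : σ k = 1 := by rw [hk, map_mul, map_inv, hν, hβ]; simp
  refine ⟨D0 * k, by rw [map_mul, hk1, mul_one], ?_, ?_⟩
  · rw [mul_mul_cen hZ hk1, ← pow_two k]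
    exact congrArg Subtype.val s1
  · rw [show D0 * k * X = D0 * X * k from by rw [mul_assoc, (cen hZ hk1 X).eq, mul_assoc],
      mul_pow_cen hZ hk1]
    exact congrArg Subtype.val s2

/-- The lift of an element of order seven inverted by an involution. -/
theorem exists_seven {S0 D : E} (hD : D * D = 1) (h7 : σ S0 ^ 7 = 1) (h2 : (σ S0 * σ D) ^ 2 = 1) :
    ∃ k, σ k = 1 ∧ (S0 * k * D) ^ 2 = 1 ∧ (S0 * k) ^ 7 = 1 := by
  have hν : σ (S0 ^ 7) = 1 := by rw [map_pow, h7]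
  have hς : σ ((S0 * D) ^ 2) = 1 := by rw [map_pow, map_mul, h2]
  have Di : D⁻¹ = D := inv_eq_of_mul_eq_one_right hD
  have e1 : D⁻¹ * S0 * D = S0⁻¹ * (S0 * D) ^ 2 := by rw [Di, pow_two]; group
  have e2 : (S0 ^ 7) ^ 2 = ((S0 * D) ^ 2) ^ 7 := by
    have h' : S0 ^ 7 = (S0 ^ 7)⁻¹ * ((S0 * D) ^ 2) ^ 7 := by
      calc S0 ^ 7 = D⁻¹ * S0 ^ 7 * D := (conj_cen hZ hν D).symm
        _ = (D⁻¹ * S0 * D) ^ 7 := by simp only [pow_succ, pow_zero, one_mul]; group
        _ = _ := by rw [e1, mul_pow_cen hZ hς, inv_pow]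
    calc (S0 ^ 7) ^ 2 = S0 ^ 7 * ((S0 ^ 7)⁻¹ * ((S0 * D) ^ 2) ^ 7) := by rw [← h', pow_two]
      _ = _ := mul_inv_cancel_left _ _
  obtain ⟨s1, s2⟩ := solve_two_seven (ς := cz hZ hς) (ν := cz hZ hν) (Subtype.ext e2)
  set k := ((S0 * D) ^ 2) ^ 3 * (S0 ^ 7)⁻¹ with hk
  have hk1 : σ k = 1 := by rw [hk, map_mul, map_inv, map_pow, hς, hν]; simp
  refine ⟨k, hk1, ?_, ?_⟩
  · rw [mul_assoc S0 k D, (cen hZ hk1 D).eq, ← mul_assoc, mul_pow_cen hZ hk1]
    exact congrArg Subtype.val s1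
  · rw [mul_pow_cen hZ hk1]
    exact congrArg Subtype.val s2

omit hZ in
/-- Changing the element of order seven by a central factor keeps the conjugates. -/
theorem vv_central {S X k : E} (hk : ∀ v : E, Commute k v) (i : ℕ) : vv (S * k) X i = vv S X i := by
  simp only [vv, ((hk S).symm).mul_pow, mul_inv_rev]
  calc (k ^ i)⁻¹ * (S ^ i)⁻¹ * X * (S ^ i * k ^ i)
      = (k ^ i)⁻¹ * (((S ^ i)⁻¹ * X * S ^ i) * k ^ i) := by group
    _ = _ := by rw [← ((hk _).pow_left i).eq, inv_mul_cancel_left]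

/-- Commuting with the partner of a braid. -/
theorem com_braid {X D Y : E} (hX : X * X = 1) (hD : D * D = 1) (h3 : (D * X) ^ 3 = 1)
    (cX : Commute (σ Y) (σ X)) (cD : Commute (σ Y) (σ D)) (hYX : com Y X = 1) : com Y D = 1 := by
  have hconj : (D * X)⁻¹ * X * (D * X) = D := by
    calc (D * X)⁻¹ * X * (D * X) = X⁻¹ * D⁻¹ * X * D * X := by group
      _ = D⁻¹ * (D * X) ^ 3 := by
        rw [inv_eq_of_mul_eq_one_right hX, inv_eq_of_mul_eq_one_right hD]
        simp only [pow_succ, pow_zero, one_mul]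
        calc X * D * X * D * X = (D * D) * X * D * X * D * X := by rw [hD, one_mul]
          _ = _ := by group
      _ = D := by rw [h3, mul_one, inv_eq_of_mul_eq_one_right hD]
  have hk : σ (Y⁻¹ * ((D * X) * Y * (D * X)⁻¹)) = 1 := by
    simp only [map_mul, map_inv]
    rw [← (cD.mul_right cX).eq]
    group
  have e : (D * X)⁻¹ * (Y * (Y⁻¹ * ((D * X) * Y * (D * X)⁻¹))) * (D * X) = Y := by group
  have c : Commute (σ (Y * (Y⁻¹ * ((D * X) * Y * (D * X)⁻¹)))) (σ X) := by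
    rw [map_mul, hk, mul_one]; exact cX
  calc com Y D = com ((D * X)⁻¹ * (Y * (Y⁻¹ * ((D * X) * Y * (D * X)⁻¹))) * (D * X))
        ((D * X)⁻¹ * X * (D * X)) := by rw [e, hconj]
    _ = com (Y * (Y⁻¹ * ((D * X) * Y * (D * X)⁻¹))) X := com_conj hZ c _
    _ = 1 := by rw [com_central_left hZ hk, hYX]

/-- The fourth power of the product with a commuting conjugator. -/
theorem fourth_sq {C D : E} (hD : D * D = 1) (hC : σ (C * C) = 1)
    (hcom : com ((C * D) ^ 4) D = 1) : (C * D) ^ 4 * (C * D) ^ 4 = (C * C) ^ 4 := by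
  have Di : D⁻¹ = D := inv_eq_of_mul_eq_one_right hD
  have e2 : D * C = (C * C) * (C * D)⁻¹ := by
    rw [mul_inv_rev, Di, ← mul_assoc, (cen hZ hC D).eq]
    group
  have e3 : (C * D) ^ 4 = D * (C * D) ^ 4 * D := by
    rw [mul_assoc, mul_eq_of_com hcom, ← mul_assoc, hD, one_mul]
  have e4 : D * (C * D) ^ 4 * D = (D * C) ^ 4 := by
    calc D * (C * D) ^ 4 * D = (D * C) ^ 4 * (D * D) := by
          simp only [pow_succ, pow_zero, one_mul]; group
      _ = (D * C) ^ 4 := by rw [hD, mul_one]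
  calc (C * D) ^ 4 * (C * D) ^ 4 = (D * C) ^ 4 * (C * D) ^ 4 := by rw [← e4, ← e3]
    _ = (C * C) ^ 4 := by rw [e2, (cen hZ hC _).mul_pow, inv_pow, mul_assoc, inv_mul_cancel, mul_one]

/-- A lift of an element of order seven commuting with an involution lift. -/
theorem com_seven {S A : E} (hS : S ^ 7 = 1) (hA : A * A = 1) (c : Commute (σ S) (σ A)) :
    com S A = 1 := by
  have h2 := com_sq hZ c hA
  have h7 : com S A ^ 7 = 1 := by
    have e : A⁻¹ * S * A = S * com S A := by simp only [com]; group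
    have := congrArg (· ^ 7) e
    simp only [mul_pow_cen hZ (com_cen c), hS, one_mul] at this
    rw [← this]
    calc (A⁻¹ * S * A) ^ 7 = A⁻¹ * S ^ 7 * A := by simp only [pow_succ, pow_zero, one_mul]; group
      _ = 1 := by rw [hS, mul_one, inv_mul_cancel]
  calc com S A = com S A ^ 7 * ((com S A * com S A) ^ 3)⁻¹ := by
        simp only [pow_succ, pow_zero, one_mul]; group
    _ = 1 := by rw [h7, h2]; simp

/-- Lifts B, C, and the resulting A, with all their squares and cubes trivial. -/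
theorem exists_abc {D B0 C0 : E} (hD : D * D = 1) (hb : σ B0 * σ B0 = 1) (hc : σ C0 * σ C0 = 1)
    (hab : ((σ C0 * σ D) ^ 4 * σ B0) ^ 3 = 1) (hbc : (σ B0 * σ C0) ^ 3 = 1)
    (hAD : ∀ C, σ C = σ C0 → com ((C * D) ^ 4) D = 1) :
    ∃ B C, σ B = σ B0 ∧ σ C = σ C0 ∧ B * B = 1 ∧ C * C = 1 ∧ (B * C) ^ 3 = 1 ∧
      (C * D) ^ 4 * (C * D) ^ 4 = 1 ∧ ((C * D) ^ 4 * B) ^ 3 = 1 := by
  have hν := map_sq hc
  have hμ := map_sq hb
  set A0 := (C0 * D) ^ 4 with hA0
  have hA2 : A0 * A0 = (C0 * C0) ^ 4 := fourth_sq hZ hD hν (hAD C0 rfl)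
  have hβ' : σ ((A0 * B0) ^ 3) = 1 := by rw [map_pow, map_mul, hA0, map_pow, map_mul, hab]
  have hβ : σ ((B0 * C0) ^ 3) = 1 := by rw [map_pow, map_mul, hbc]
  have hA1 : σ (A0 * A0) = 1 := by rw [hA2, map_pow, hν, one_pow]
  have e' := cube_sq hZ hA1 hμ hβ'
  rw [hA2] at e'
  have s1 := solve_root (β := cz hZ hβ) (β' := cz hZ hβ') (μ := cz hZ hμ) (ν := cz hZ hν)
    (Subtype.ext e') (Subtype.ext (cube_sq hZ hμ hν hβ))
  set k := ((A0 * B0) ^ 3 * ((B0 * C0) ^ 3)⁻¹ * ((C0 * C0) ^ 4)⁻¹)⁻¹ with hk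
  have hk1 : σ k = 1 := by
    rw [hk, map_inv, map_mul, map_mul, map_inv, map_inv, map_pow _ (C0 * C0), hβ, hβ', hν]; simp
  set C := C0 * k with hC
  have σC : σ C = σ C0 := by rw [hC, map_mul, hk1, mul_one]
  have C2 : C * C = 1 := by
    rw [hC, mul_mul_cen hZ hk1, ← pow_two k]; exact congrArg Subtype.val s1
  have hA : (C * D) ^ 4 * (C * D) ^ 4 = 1 := by
    rw [fourth_sq hZ hD (by rw [C2, map_one]) (hAD C σC), C2, one_pow]
  obtain ⟨B, σB, B2, BC⟩ := exists_braid hZ C2 hb (by rw [σC, hbc])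
  set β1 := ((C * D) ^ 4 * B) ^ 3 with hβ1
  have hβ11 : σ β1 = 1 := by rw [hβ1, map_pow, map_mul, map_pow, map_mul, σC, σB, hab]
  have β2 : β1 * β1 = 1 := by
    have e := cube_sq hZ (x := (C * D) ^ 4) (y := B) (by rw [hA, map_one]) (by rw [B2, map_one]) hβ11
    rw [hA, B2, one_pow, one_mul, pow_two] at e
    exact e
  have hpow : ∀ m, β1 ^ (2 * m) = 1 := fun m => by rw [pow_mul, pow_two, β2, one_pow]
  have hA' : (C * β1 * D) ^ 4 = (C * D) ^ 4 := by
    rw [mul_assoc C β1 D, (cen hZ hβ11 D).eq, ← mul_assoc, mul_pow_cen hZ hβ11,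
      show β1 ^ 4 = 1 from hpow 2, mul_one]
  refine ⟨B * β1, C * β1, by rw [map_mul, hβ11, mul_one, σB], by rw [map_mul, hβ11, mul_one, σC],
    ?_, ?_, ?_, ?_, ?_⟩
  · rw [mul_mul_cen hZ hβ11, B2, β2, one_mul]
  · rw [mul_mul_cen hZ hβ11, C2, β2, one_mul]
  · rw [mul_mul_cen hZ hβ11, β2, mul_one, BC]
  · rw [hA', hA]
  · rw [hA', ← mul_assoc ((C * D) ^ 4), mul_pow_cen hZ hβ11, ← hβ1]
    calc β1 * β1 ^ 3 = β1 ^ (2 * 2) := by simp only [pow_succ, pow_zero, one_mul]; group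
      _ = 1 := hpow 2

/-- The Coxeter element and its reverse have the same power, so its central value squares to one. -/
theorem coxeter_sq {B C D X : E} (hB : B * B = 1) (hC : C * C = 1) (hD : D * D = 1) (hX : X * X = 1)
    (hBD : B * D = D * B) (hBX : B * X = X * B) (hCX : C * X = X * C) {n : ℕ}
    (h : σ ((B * C * D * X) ^ n) = 1) :
    (B * C * D * X) ^ n * (B * C * D * X) ^ n = 1 := by
  have Xi : X⁻¹ = X := inv_eq_of_mul_eq_one_right hX
  have Bi : B⁻¹ = B := inv_eq_of_mul_eq_one_right hB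
  have Ci : C⁻¹ = C := inv_eq_of_mul_eq_one_right hC
  have Di : D⁻¹ = D := inv_eq_of_mul_eq_one_right hD
  have r1 : X * (B * C * D * X) * X = B * C * X * D := by
    calc X * (B * C * D * X) * X = X * B * C * D * (X * X) := by group
      _ = B * (X * C) * D := by rw [hX, mul_one, ← hBX]; group
      _ = B * C * X * D := by rw [← hCX]; group
  have r2 : B * (B * C * X * D) * B = C * X * B * D := by
    calc B * (B * C * X * D) * B = (B * B) * C * X * (D * B) := by group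
      _ = C * X * B * D := by rw [hB, ← hBD]; group
  have r3 : D * (C * X * B * D) * D = D * C * B * X := by
    calc D * (C * X * B * D) * D = D * C * (X * B) * (D * D) := by group
      _ = D * C * B * X := by rw [hD, ← hBX, mul_one]; group
  have r4 : X * (D * C * B * X) * X = X * D * C * B := by
    calc X * (D * C * B * X) * X = X * D * C * B * (X * X) := by group
      _ = X * D * C * B := by rw [hX, mul_one]
  have step : ∀ {g u w : E}, g * g = 1 → g * u * g = w → σ (u ^ n) = 1 → w ^ n = u ^ n := by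
    intro g u w hg he hu
    have gi : g⁻¹ = g := inv_eq_of_mul_eq_one_right hg
    rw [← he]
    calc (g * u * g) ^ n = (g⁻¹ * u * g) ^ n := by rw [gi]
      _ = g⁻¹ * u ^ n * g := by simpa using (conj_pow (a := g⁻¹) (b := u) (i := n))
      _ = u ^ n := conj_cen hZ hu g
  have q1 := step hX r1 h
  have q2 := step hB r2 (by rw [q1, h])
  have q3 := step hD r3 (by rw [q2, q1, h])
  have q4 := step hX r4 (by rw [q3, q2, q1, h])
  rw [q3, q2, q1] at q4
  have : ((B * C * D * X) ^ n)⁻¹ = (B * C * D * X) ^ n := by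
    rw [← inv_pow]
    refine Eq.trans ?_ q4
    congr 1
    simp only [mul_inv_rev, Xi, Bi, Ci, Di, mul_assoc]
  nth_rewrite 1 [← this]
  exact inv_mul_cancel _

end CfsgLib.ThMult
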