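import Cfsg.Agent.Lib.ThMult.Comm
import Mathlib.Tactic.Group

/-!
# An involution, an element of order seven, and central extensions

If the conjugates of an involution e under an element s of order seven satisfy the linear relations of
the field with eight elements, the lift of e for which the relation holds is an involution, and it
commutes with the lifts of elements commuting with e and s.
-/

set_option autoImplicit false

namespace CfsgLib.ThMult

open Subgroup

variable {E T : Type} [Group E] [Group T] {σ : E →* T}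

/-- The conjugates. -/
def vv (S X : E) (i : ℕ) : E := (S ^ i)⁻¹ * X * S ^ i

theorem vv_add (S X : E) (i j : ℕ) : vv S X (i + j) = (S ^ j)⁻¹ * vv S X i * S ^ j := by
  simp only [vv, pow_add, mul_inv_rev]; group

theorem map_vv (S X : E) (i : ℕ) : σ (vv S X i) = vv (σ S) (σ X) i := by
  simp [vv]

theorem vv_seven {S X : E} (h : Commute (S ^ 7) X) (i : ℕ) : vv S X (i + 7) = vv S X i := by
  rw [Nat.add_comm, vv_add, show vv S X 7 = X from by
    rw [vv, mul_assoc, ← h.eq, inv_mul_cancel_left]]
  rfl

theorem vv_rel {S X : E} (h : vv S X 1 = X * vv S X 3) (i : ℕ) :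
    vv S X (i + 1) = vv S X i * vv S X (i + 3) := by
  rw [Nat.add_comm i 1, Nat.add_comm i 3, vv_add, h, vv_add]
  simp only [vv]; group

variable (hZ : σ.ker ≤ center E)
include hZ

/-- A lift of the involution satisfying the relation is an involution. -/
theorem octet_sq {S X : E} (h7 : σ (S ^ 7) = 1) (hX : σ (X * X) = 1)
    (h : vv S X 1 = X * vv S X 3) : X * X = 1 := by
  set v := vv S X with hv
  set w := fun i => σ (v i) with hw
  have v0 : v 0 = X := by simp [hv, vv]
  have hS7 : Commute (S ^ 7) X := cen hZ h7 X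
  have per : ∀ i, v (i + 7) = v i := vv_seven hS7
  have shift : ∀ i j, v (i + j) = (S ^ j)⁻¹ * v i * S ^ j := fun i j => vv_add S X i j
  have vsq : ∀ i, v i * v i = X * X := by
    intro i
    calc v i * v i = (S ^ i)⁻¹ * (X * X) * S ^ i := by simp only [hv, vv]; group
      _ = X * X := conj_cen hZ hX _
  have wsq : ∀ i, w i * w i = 1 := fun i => by
    show σ (v i) * σ (v i) = 1
    rw [← map_mul, vsq, hX]
  have cshift : ∀ {i j : ℕ} (k : ℕ), Commute (w i) (w j) → Commute (w (i + k)) (w (j + k)) := by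
    intro i j k c
    show σ (v (i + k)) * σ (v (j + k)) = σ (v (j + k)) * σ (v (i + k))
    rw [shift i k, shift j k]
    simp only [map_mul, map_inv]
    calc (σ (S ^ k))⁻¹ * σ (v i) * σ (S ^ k) * ((σ (S ^ k))⁻¹ * σ (v j) * σ (S ^ k))
        = (σ (S ^ k))⁻¹ * (w i * w j) * σ (S ^ k) := by simp only [hw]; group
      _ = (σ (S ^ k))⁻¹ * (w j * w i) * σ (S ^ k) := by rw [c.eq]
      _ = _ := by simp only [hw]; group
  have w1 : w 1 = w 0 * w 3 := by
    show σ (v 1) = σ (v 0) * σ (v 3)
    rw [← map_mul, v0, h]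
  have c03 : Commute (w 0) (w 3) := by
    have e : (w 0 * w 3) * (w 0 * w 3) = 1 := by rw [← w1, wsq]
    have i0 : (w 0)⁻¹ = w 0 := inv_eq_of_mul_eq_one_right (wsq 0)
    have i3 : (w 3)⁻¹ = w 3 := inv_eq_of_mul_eq_one_right (wsq 3)
    calc w 0 * w 3 = (w 0 * w 3)⁻¹ := (inv_eq_of_mul_eq_one_right e).symm
      _ = w 3 * w 0 := by rw [mul_inv_rev, i0, i3]
  have c01 : Commute (w 0) (w 1) := by rw [w1]; exact (Commute.refl _).mul_right c03
  have c40 : Commute (w 4) (w 0) := by
    have := cshift 4 c03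
    simp only [Nat.zero_add, show 3 + 4 = 0 + 7 from rfl, hw, per] at this
    exact this
  have w2 : w 2 = w 1 * w 4 := by
    show σ (v 2) = σ (v 1) * σ (v 4)
    rw [← map_mul, ← vv_rel h 1]
  have c02 : Commute (w 0) (w 2) := by rw [w2]; exact c01.mul_right c40.symm
  have c50 : Commute (w 5) (w 0) := by
    have := cshift 5 c02
    simp only [Nat.zero_add, show 2 + 5 = 0 + 7 from rfl, hw, per] at this
    exact this
  set g := fun i => com (v 0) (v i) with hg
  have g1 : g 1 = g 3 := by
    show com (v 0) (v 1) = com (v 0) (v 3)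
    rw [show v 1 = v 0 * v 3 from by rw [v0]; exact h, com_mul_right hZ (Commute.refl _), com_self,
      mul_one]
  have g4 : g 4 = (g 3)⁻¹ := by
    show com (v 0) (v 4) = _
    rw [com_inv_swap (v 4) (v 0)]
    congr 1
    rw [show g 3 = com (v 0) (v 3) from rfl, ← com_conj hZ c03 (S ^ 4), ← shift, ← shift,
      Nat.zero_add, show 3 + 4 = 0 + 7 from rfl, per]
  have g2 : g 2 = 1 := by
    show com (v 0) (v 2) = 1
    rw [show v 2 = v 1 * v 4 from vv_rel h 1, com_mul_right hZ c01,
      show com (v 0) (v 4) = g 4 from rfl, show com (v 0) (v 1) = g 1 from rfl, g4, g1, inv_mul_cancel]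
  have g5 : g 5 = 1 := by
    show com (v 0) (v 5) = 1
    rw [com_inv_swap (v 5) (v 0)]
    have e := com_conj hZ c02 (S ^ 5)
    rw [← shift, ← shift, Nat.zero_add, show 2 + 5 = 0 + 7 from rfl, per] at e
    rw [e, show com (v 0) (v 2) = g 2 from rfl, g2, inv_one]
  have g3 : g 3 = 1 := by
    show com (v 0) (v 3) = 1
    rw [show v 3 = v 2 * v 5 from vv_rel h 2, com_mul_right hZ c02,
      show com (v 0) (v 5) = g 5 from rfl, show com (v 0) (v 2) = g 2 from rfl, g5, g2, one_mul]
  have cv := mul_eq_of_com g3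
  have key : X * X = X * X * (X * X) := by
    calc X * X = v 1 * v 1 := (vsq 1).symm
      _ = v 0 * (v 3 * v 0) * v 3 := by rw [show v 1 = v 0 * v 3 from by rw [v0]; exact h]; group
      _ = v 0 * (v 0 * v 3) * v 3 := by rw [cv]
      _ = v 0 * v 0 * (v 3 * v 3) := by group
      _ = X * X * (X * X) := by rw [vsq 0, vsq 3]
  exact mul_eq_left.1 key.symm

/-- An element commuting with s and e, commutes with the lift of e. -/
theorem octet_com {S X Y : E} (h : vv S X 1 = X * vv S X 3) (hs : Commute (σ Y) (σ S))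
    (he : Commute (σ Y) (σ X)) : com Y X = 1 := by
  have hconj : ∀ k : ℕ, com Y (vv S X k) = com Y X := by
    intro k
    have hk : σ (Y⁻¹ * ((S ^ k)⁻¹ * Y * S ^ k)) = 1 := by
      simp only [map_mul, map_inv, map_pow]
      rw [mul_assoc ((σ S ^ k)⁻¹), (hs.pow_right k).eq]
      group
    calc com Y (vv S X k) = com (Y * (Y⁻¹ * ((S ^ k)⁻¹ * Y * S ^ k))) (vv S X k) :=
          (com_central_left hZ hk _ _).symm
      _ = com Y X := by rw [mul_inv_cancel_left]; exact com_conj hZ he _
  have e1 := hconj 1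
  rw [h, com_mul_right hZ he, hconj 3] at e1
  exact mul_eq_left.1 e1

end CfsgLib.ThMult
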