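import Cfsg.Agent.Lib.ThMult.Lift
import Cfsg.Agent.Lib.ThMult.Lin
import Cfsg.Agent.Lib.ThIndex.ThLetters
import Cfsg.Agent.Lib.ThOut.Words

/-!
# The projection onto the kernel over ³D₄(2):3, and the tables

The lifts of the letters of ³D₄(2):3 generate a copy of it, so its full inverse image is the direct
product with the kernel; this feeds the certificates.
-/

set_option autoImplicit false
set_option maxRecDepth 100000

namespace CfsgLib.ThMult

open CfsgLib.OrbitEnum CfsgLib.ThIndex Cfsg.Spor Subgroup
open scoped IsMulCommutative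

/-- A word is trivial in the representation. -/
noncomputable def thOne (w : List ℕ) : Bool := CfsgLib.ThOut.sameM w []

theorem thOne_spec [IsSimpleGroup Th] {w : List ℕ} (h : thOne w = true) : wEval letter w = 1 := by
  have hlt : ∀ g ∈ w, g < 16 := by
    simp only [thOne, CfsgLib.ThOut.sameM, Bool.and_eq_true, List.all_eq_true, Nat.blt_eq] at h
    exact h.1.1
  have e : ∀ g < 16, CfsgLib.ThOut.el g = letter g := by
    intro g hg
    interval_cases g <;> rfl
  calc wEval letter w = CfsgLib.ThOut.ev w :=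
        congrArg List.prod (List.map_congr_left fun g hg => (e g (hlt g hg)).symm)
    _ = CfsgLib.ThOut.ev [] := CfsgLib.ThOut.ev_eq h
    _ = 1 := CfsgLib.ThOut.ev_nil

/-- The global word of a local word. -/
def flat (sub : List (List ℕ)) (w : List ℕ) : List ℕ := (w.map fun g => sub.getD g []).flatten

theorem wEval_flat {G : Type} [Group G] (el : ℕ → G) (sub : List (List ℕ)) (w : List ℕ) :
    wEval el (flat sub w) = wEval (fun g => wEval el (sub.getD g [])) w := by
  induction w with
  | nil => rfl
  | cons g w ih =>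
    rw [wEval_cons, ← ih, show flat sub (g :: w) = sub.getD g [] ++ flat sub w from rfl, wEval_append]

variable {E : Type} [Group E] (σ : E →* Th)

/-- Lifts of the letters with the exact relators. -/
structure Lifted (el : ℕ → E) : Prop where
  inv : ∀ g < 16, el (g ^^^ 1) = (el g)⁻¹
  map : ∀ g < 16, σ (el g) = letter g
  rels : ∀ w ∈ liftRels, wEval el w = 1

variable {σ}

theorem Lifted.map_word {el : ℕ → E} (L : Lifted σ el) {w : List ℕ} (hw : ltW 16 w = true) :
    σ (wEval el w) = wEval letter w :=
  (map_wEval _ _ _).trans (wEval_congr _ hw L.map)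

theorem exists_lifted [IsSimpleGroup Th] (hσ : Function.Surjective σ) (hZ : σ.ker ≤ center E) :
    ∃ el : ℕ → E, Lifted σ el := by
  have hl : ∀ g < 16, el8 (letter 0) (letter 2) (letter 4) (letter 6) (letter 8) (letter 10) (letter 12)
      (letter 14) g = letter g := by
    intro g hg
    interval_cases g <;> rfl
  have hlt : factWords.all (ltW 16) = true := by decide
  have hsp : ([[15, 12, 14, 12], [15, 9, 14, 8], [14, 14, 11, 15, 11, 15, 11, 15],
      [15] ++ invW fWord ++ [14] ++ fWord ++ [9], [14, 14, 5, 1]] : List (List ℕ)).all thOne = true := by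
    decide +kernel
  obtain ⟨A, B, C, D, X, S, T', U', hmap, hrels⟩ := exists_lifts hZ hσ (a := letter 0) (b := letter 2)
    (c := letter 4) (d := letter 6) (e := letter 8) (s := letter 10) (t := letter 12) (u := letter 14)
    (fun w hw => by
      rw [wEval_congr _ (List.all_eq_true.1 hlt w hw) hl]
      have : w ∈ H.relsH ∨ w ∈ ([[15, 12, 14, 12], [15, 9, 14, 8], [14, 14, 11, 15, 11, 15, 11, 15],
          [15] ++ invW fWord ++ [14] ++ fWord ++ [9], [14, 14, 5, 1]] : List (List ℕ)) := by
        simp only [factWords, liftRels, List.mem_append, List.mem_cons] at hw ⊢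
        tauto
      rcases this with h | h
      · exact letter_relsH w h
      · exact thOne_spec (List.all_eq_true.1 hsp w h))
  refine ⟨el8 A B C D X S T' U', ⟨fun g hg => ?_, fun g hg => (hmap g hg).trans (hl g hg), hrels⟩⟩
  interval_cases g <;> simp [el8]

variable (el : ℕ → E)

/-- The subgroup of the lifted letters of ³D₄(2):3. -/
abbrev Rsub : Subgroup E := closure (Set.range fun g : Fin 14 => el g)

/-- The subgroup ³D₄(2):3. -/
abbrev Hsub : Subgroup Th := closure (Set.range fun g : Fin 14 => letter g)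

theorem mem_Rsub {w : List ℕ} (hw : ltW 14 w = true) : wEval el w ∈ Rsub el := by
  induction w with
  | nil => exact one_mem _
  | cons g w ih =>
    rw [wEval_cons]
    exact mul_mem (subset_closure ⟨⟨g, ltW_iff.1 hw g List.mem_cons_self⟩, rfl⟩)
      (ih (ltW_iff.2 fun x hx => ltW_iff.1 hw x (List.mem_cons_of_mem _ hx)))

variable {el}

theorem map_Rsub (L : Lifted σ el) : (Rsub el).map σ = Hsub := by
  rw [MonoidHom.map_closure, ← Set.range_comp]
  congr 1
  exact congrArg Set.range (funext fun g : Fin 14 => L.map g (lt_trans g.2 (by decide)))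

/-- The inverse image of ³D₄(2):3 meets the kernel only trivially in the lifted letters. -/
theorem Rsub_inj (L : Lifted σ el) (hcard : Nat.card Hsub = 634023936) :
    ∀ x ∈ Rsub el, σ x = 1 → x = 1 := by
  let y : ℕ → Rsub el := fun g =>
    if h : g < 14 then ⟨el g, subset_closure ⟨⟨g, h⟩, rfl⟩⟩ else 1
  have hy : ∀ g < 14, (y g : E) = el g := fun g hg => by
    show ((if h : g < 14 then (⟨el g, _⟩ : Rsub el) else 1 : Rsub el) : E) = el g
    rw [dif_pos hg]
  have hlt : H.relsH.all (ltW 14) = true := by decide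
  have hw : ∀ w ∈ H.relsH, wEval y w = 1 := fun w hw => Subtype.ext (by
    show (Rsub el).subtype (wEval y w) = 1
    rw [map_wEval]
    exact (wEval_congr _ (List.all_eq_true.1 hlt w hw) fun g hg => hy g hg).trans
      (L.rels w (List.mem_append_left _ hw)))
  obtain ⟨hfin, hle⟩ := H.H_bound y (fun g hg => Subtype.ext (by
      rw [Subgroup.coe_inv, hy g hg, hy _ (H.xor_lt.2 g hg), L.inv g (by omega)])) hw (by
    refine Subgroup.map_injective (Rsub el).subtype_injective ?_
    rw [MonoidHom.map_closure, ← MonoidHom.range_eq_map, Subgroup.range_subtype]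
    congr 1
    rw [← Set.range_comp]
    exact congrArg Set.range (funext fun g => hy g.1 g.2))
  let f : Rsub el →* Hsub := (σ.comp (Rsub el).subtype).codRestrict Hsub fun x =>
    map_Rsub L ▸ Subgroup.mem_map_of_mem σ x.2
  have hsur : Function.Surjective f := by
    rintro ⟨t, ht⟩
    rw [← map_Rsub L] at ht
    obtain ⟨x, hx, rfl⟩ := Subgroup.mem_map.1 ht
    exact ⟨⟨x, hx⟩, rfl⟩
  have hbij : Function.Bijective f := (Nat.bijective_iff_surjective_and_card _).2 ⟨hsur,
    le_antisymm (hcard ▸ hle) (Nat.card_le_card_of_surjective _ hsur)⟩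
  intro x hx h
  exact congrArg Subtype.val (hbij.1 (a₁ := ⟨x, hx⟩) (a₂ := 1) (Subtype.ext (by simpa [f] using h)))

/-- A word of ³D₄(2):3 which is trivial in the group is trivial in the lifts. -/
theorem Hword (L : Lifted σ el) (hcard : Nat.card Hsub = 634023936) {w : List ℕ}
    (hw : ltW 14 w = true) (h : wEval letter w = 1) : wEval el w = 1 :=
  Rsub_inj L hcard _ (mem_Rsub el hw) (by
    rw [L.map_word (ltW_iff.2 fun g hg => lt_trans (ltW_iff.1 hw g hg) (by decide)), h])

/-- The projection onto the centre. -/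
theorem exists_proj (hZ : σ.ker ≤ center E) (L : Lifted σ el) (hcard : Nat.card Hsub = 634023936) :
    ∃ π : ↥(Hsub.comap σ) →* center E, (∀ z (h : z ∈ Hsub.comap σ), σ z = 1 → (π ⟨z, h⟩).1 = z) ∧
      ∀ x (h : x ∈ Hsub.comap σ), x ∈ Rsub el → π ⟨x, h⟩ = 1 := by
  have hex : ∀ x : ↥(Hsub.comap σ), ∃ r ∈ Rsub el, σ r = σ x.1 := fun x => by
    have h : σ x.1 ∈ (Rsub el).map σ := by rw [map_Rsub L]; exact x.2
    exact Subgroup.mem_map.1 h
  choose sec hsec hσsec using hex
  have uniq : ∀ (x : ↥(Hsub.comap σ)) (r : E), r ∈ Rsub el → σ r = σ x.1 → sec x = r := by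
    intro x r hr he
    have := Rsub_inj L hcard (sec x * r⁻¹) (mul_mem (hsec x) (inv_mem hr))
      (by rw [map_mul, map_inv, hσsec, he, mul_inv_cancel])
    exact mul_inv_eq_one.1 this
  have hc : ∀ x : ↥(Hsub.comap σ), x.1 * (sec x)⁻¹ ∈ center E := fun x =>
    hZ (by rw [MonoidHom.mem_ker, map_mul, map_inv, hσsec, mul_inv_cancel])
  refine ⟨MonoidHom.mk' (fun x => ⟨x.1 * (sec x)⁻¹, hc x⟩) fun x y => Subtype.ext ?_, ?_, ?_⟩
  · show x.1 * y.1 * (sec (x * y))⁻¹ = x.1 * (sec x)⁻¹ * (y.1 * (sec y)⁻¹)
    rw [uniq (x * y) (sec x * sec y) (mul_mem (hsec x) (hsec y)) (by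
      rw [map_mul, hσsec, hσsec, ← map_mul]; rfl), mul_inv_rev]
    calc x.1 * y.1 * ((sec y)⁻¹ * (sec x)⁻¹) = x.1 * ((y.1 * (sec y)⁻¹) * (sec x)⁻¹) := by group
      _ = x.1 * ((sec x)⁻¹ * (y.1 * (sec y)⁻¹)) := by rw [mem_center_iff.1 (hc y) (sec x)⁻¹]
      _ = _ := by group
  · intro z h hz
    show z * (sec ⟨z, h⟩)⁻¹ = z
    rw [uniq ⟨z, h⟩ 1 (one_mem _) (by rw [map_one, hz]), inv_one, mul_one]
  · intro x h hx
    refine Subtype.ext ?_
    show x * (sec ⟨x, h⟩)⁻¹ = 1
    rw [uniq ⟨x, h⟩ x hx rfl, mul_inv_cancel]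

/-- The value words of a table. -/
def varWords (C : Lin) (sub : List (List ℕ)) (m : ℕ) : List (List ℕ) :=
  (List.range m).map fun j =>
    ((C.rels.filter fun p => decide (p.2 = unitVec j)).map fun p => flat sub p.1).getD 0 []

/-- A relator is exact, or is one of the values. -/
noncomputable def relOk (known vars : List (List ℕ)) (sub : List (List ℕ)) (p : List ℕ × List ℤ) :
    Bool :=
  (vzero p.2 && (known.contains (flat sub p.1) || (ltW 14 (flat sub p.1) && thOne (flat sub p.1)))) ||
    (List.range vars.length).any fun j => decide (p.2 = unitVec j) && decide (vars.getD j [] = flat sub p.1)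

/-- The checks of a table apart from the certificate, with some exceptions. -/
noncomputable def tableOk (C : Lin) (sub known : List (List ℕ)) (m : ℕ)
    (exc : List (List ℕ × List ℤ)) : Bool :=
  ((varWords C sub m).all fun w => ltW 16 w && thOne w) &&
  ((List.range C.ng).all fun g => ltW 16 (sub.getD g []) &&
    decide (sub.getD (g ^^^ 1) [] = invW (sub.getD g []))) &&
  (C.rels.all fun p => exc.contains p || relOk known (varWords C sub m) sub p) &&
  (C.subs.all fun p => vzero p.2 && ltW 14 (flat sub p.1)) &&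
  known.all (ltW 16)

/-- The values certified by a table are trivial. -/
theorem table_sound [IsSimpleGroup Th] (hZ : σ.ker ≤ center E) (L : Lifted σ el)
    (hcard : Nat.card Hsub = 634023936) {C : Lin} {sub known : List (List ℕ)}
    {tree : List (ℕ × ℕ)} {steps : List (ℕ × ℕ × ℕ)} {combs : List (List (ℕ × ℕ × ℤ))}
    {exc : List (List ℕ × List ℤ)}
    (hcheck : C.check tree steps combs = true)
    (hok : tableOk C sub known combs.length exc = true)
    (hknown : ∀ w ∈ known, wEval el w = 1)
    (hexc : ∀ p ∈ exc, ∃ c : ℤ, ∃ j < combs.length, p.2 = vsmul c (unitVec j) ∧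
      wEval el (flat sub p.1) = wEval el ((varWords C sub combs.length).getD j []) ^ c) :
    ∀ w ∈ varWords C sub combs.length, wEval el w = 1 := by
  simp only [tableOk, Bool.and_eq_true, List.all_eq_true, List.mem_range, decide_eq_true_eq] at hok
  obtain ⟨⟨⟨⟨hvars, hsub⟩, hrels⟩, hsubs⟩, hkn⟩ := hok
  obtain ⟨π, hπker, hπR⟩ := exists_proj hZ L hcard
  set vars := varWords C sub combs.length with hv
  have hlen : vars.length = combs.length := by simp [hv, varWords]
  have σvar : ∀ j, σ (wEval el (vars.getD j [])) = 1 := by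
    intro j
    by_cases hj : j < vars.length
    · rw [List.getD_eq_getElem _ _ hj]
      obtain ⟨h1, h2⟩ := hvars _ (List.getElem_mem hj)
      rw [L.map_word h1, thOne_spec h2]
    · rw [List.getD_eq_default _ _ (by omega), wEval_nil, map_one]
  let val : ℕ → center E := fun j => cz hZ (σvar j)
  let elC : ℕ → E := fun g => wEval el (sub.getD g [])
  have hiv : ∀ g < C.ng, elC (g ^^^ 1) = (elC g)⁻¹ := by
    intro g hg
    show wEval el (sub.getD (g ^^^ 1) []) = (wEval el (sub.getD g []))⁻¹
    rw [(hsub g hg).2, wEval_invW _ (fun g hg => L.inv g hg) (hsub g hg).1]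
  have hcentral : ∀ (z : E) (v : List ℤ), σ z = 1 → z = (Lin.evV val v : center E).1 → ∀ x : E,
      Lin.Val val (Hsub.comap σ) π (x * z * x⁻¹) v := by
    intro z v hz he x
    have e : x * z * x⁻¹ = z := by rw [← (cen hZ hz x).eq, mul_assoc, mul_inv_cancel, mul_one]
    rw [e]
    have hm : z ∈ Hsub.comap σ := by rw [Subgroup.mem_comap, hz]; exact one_mem _
    exact ⟨hm, Subtype.ext ((hπker z hm hz).trans he)⟩
  have key := Lin.check_sound (C := C) (val := val) (el := elC) (K := Hsub.comap σ) (π := π) hcheck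
    hiv ?_ ?_
  · intro w hw
    obtain ⟨j, hj, rfl⟩ := List.getElem_of_mem hw
    rw [← List.getD_eq_getElem _ [] hj]
    exact congrArg Subtype.val (key j (hlen ▸ hj))
  · intro p hp
    have hp' := hrels p hp
    rw [Bool.or_eq_true] at hp'
    rw [← wEval_flat]
    rcases hp' with hexc' | hok'
    · obtain ⟨c, j, hj, e1, e2⟩ := hexc p (List.contains_iff_mem.1 hexc')
      intro x
      refine hcentral _ _ ?_ ?_ x
      · rw [e2, map_zpow, σvar, one_zpow]
      · rw [e1, e2, Lin.evV, Lin.evFrom_vsmul, Lin.evFrom_unit, Nat.zero_add]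
        rfl
    · simp only [relOk, Bool.or_eq_true, Bool.and_eq_true, List.any_eq_true, List.mem_range,
        decide_eq_true_eq, List.contains_iff_mem] at hok'
      intro x
      rcases hok' with ⟨hz, hk | ⟨h14, hone⟩⟩ | ⟨j, hj, e1, e2⟩
      · refine hcentral _ _ (by rw [hknown _ hk, map_one]) ?_ x
        rw [hknown _ hk, Lin.evV_zero val hz]
        rfl
      · have e := Hword L hcard h14 (thOne_spec hone)
        refine hcentral _ _ (by rw [e, map_one]) ?_ x
        rw [e, Lin.evV_zero val hz]
        rfl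
      · refine hcentral _ _ (by rw [← e2]; exact σvar j) ?_ x
        rw [e1, ← e2, Lin.evV, Lin.evFrom_unit, Nat.zero_add]
        rfl
  · intro p hp
    obtain ⟨hz, h14⟩ := hsubs p hp
    rw [← wEval_flat]
    have hR := mem_Rsub el h14
    have hm : wEval el (flat sub p.1) ∈ Hsub.comap σ := by
      rw [Subgroup.mem_comap, ← map_Rsub L]
      exact Subgroup.mem_map_of_mem σ hR
    exact ⟨hm, by rw [Lin.evV_zero val hz]; exact hπR _ hm hR⟩

end CfsgLib.ThMult
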